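import Mathlib
import Cfsg.Prelude.Def_GeometricClasses

/-!
# Spanning groups of matrices that are elementary abelian modulo scalars: commutation signs

`R` contains the scalars, spans the matrix algebra, any two of its elements commute or anticommute and each of
them is a scalar multiple of an element of square minus one.
-/

set_option autoImplicit false

namespace CfsgLib.Geo.SympNorm

open Matrix Cfsg.Geo

variable {ι : Type} [Fintype ι] [DecidableEq ι] {F : Type*} [Field F]

/-- Anticommutation. -/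
def Ac (x y : GL ι F) : Prop := x * y = -(y * x)

/-- Commutation up to sign. -/
def PC (x y : GL ι F) : Prop := Commute x y ∨ Ac x y

/-- A scalar matrix as a unit. -/
def sc (c : F) (hc : c ≠ 0) : GL ι F :=
  ⟨c • 1, c⁻¹ • 1, by simp [smul_smul, hc], by simp [smul_smul, hc]⟩

theorem sc_mem (c : F) (hc : c ≠ 0) : (sc c hc : GL ι F) ∈ scalars ι F :=
  (mem_scalars_iff _).2 ⟨Units.mk0 c hc, rfl⟩

theorem commute_scalar {c : GL ι F} (hc : c ∈ scalars ι F) (g : GL ι F) : Commute c g := by
  obtain ⟨d, hd⟩ := (mem_scalars_iff c).1 hc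
  exact Units.ext (by simp [hd])

theorem neg_mem_scalars {c : GL ι F} (hc : c ∈ scalars ι F) : -c ∈ scalars ι F := by
  obtain ⟨d, hd⟩ := (mem_scalars_iff c).1 hc
  exact (mem_scalars_iff _).2 ⟨-d, by simp [hd]⟩

theorem Ac.symm {x y : GL ι F} (h : Ac x y) : Ac y x := by
  unfold Ac at *; rw [h, neg_neg]

theorem PC.symm {x y : GL ι F} (h : PC x y) : PC y x := h.imp Commute.symm Ac.symm

theorem Ac.conj_eq {x y : GL ι F} (h : Ac x y) : x * y * x⁻¹ = -y := by
  rw [show x * y = -(y * x) from h, neg_mul, mul_inv_cancel_right]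

theorem ac_of_conj {x y : GL ι F} (h : x * y * x⁻¹ = -y) : Ac x y := by
  have h' : x * y * x⁻¹ * x = -y * x := by rw [h]
  rwa [inv_mul_cancel_right, neg_mul] at h'

theorem PC.conj_mem {x y : GL ι F} (h : PC x y) : x * y * x⁻¹ = y ∨ x * y * x⁻¹ = -y := by
  rcases h with h | h
  · exact Or.inl (by rw [h.eq, mul_inv_cancel_right])
  · exact Or.inr h.conj_eq

theorem Ac.mul_right {x y z : GL ι F} (h : Ac x y) (h' : Commute x z) : Ac x (y * z) := by
  unfold Ac at *
  rw [← mul_assoc, h, neg_mul, mul_assoc, h'.eq, mul_assoc]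

theorem Ac.mul_right' {x y z : GL ι F} (h : Commute x y) (h' : Ac x z) : Ac x (y * z) := by
  unfold Ac at *
  rw [← mul_assoc, h.eq, mul_assoc, h', mul_neg, mul_assoc]

theorem commute_of_ac_ac {x y z : GL ι F} (h : Ac x y) (h' : Ac x z) : Commute x (y * z) := by
  unfold Ac at *
  show x * (y * z) = _
  rw [← mul_assoc, h, neg_mul, mul_assoc, h', mul_neg, neg_neg, mul_assoc]

theorem Ac.mul_left {x y z : GL ι F} (h : Ac x z) (h' : Commute y z) : Ac (x * y) z :=
  (h.symm.mul_right h'.symm).symm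

theorem Ac.mul_left' {x y z : GL ι F} (h : Commute x z) (h' : Ac y z) : Ac (x * y) z :=
  (Ac.mul_right' h.symm h'.symm).symm

theorem Ac.inv_left {x y : GL ι F} (h : Ac x y) : Ac x⁻¹ y := by
  have e : y * x⁻¹ = x⁻¹ * (x * y) * x⁻¹ := by group
  have e' : x⁻¹ * y = x⁻¹ * (y * x) * x⁻¹ := by group
  unfold Ac at *
  rw [e', e, h, mul_neg, neg_mul, neg_neg]

theorem PC.mul_right {x y z : GL ι F} (h : PC x y) (h' : PC x z) : PC x (y * z) := by
  rcases h with h | h <;> rcases h' with h' | h'
  · exact Or.inl (h.mul_right h')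
  · exact Or.inr (Ac.mul_right' h h')
  · exact Or.inr (h.mul_right h')
  · exact Or.inl (commute_of_ac_ac h h')

theorem PC.inv_left {x y : GL ι F} (h : PC x y) : PC x⁻¹ y := h.imp Commute.inv_left Ac.inv_left

theorem PC.mul_left {x y z : GL ι F} (h : PC x z) (h' : PC y z) : PC (x * y) z :=
  (h.symm.mul_right h'.symm).symm

theorem pc_scalar {c : GL ι F} (hc : c ∈ scalars ι F) (g : GL ι F) : PC c g := Or.inl (commute_scalar hc g)

theorem pc_self (g : GL ι F) : PC g g := Or.inl (Commute.refl g)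

theorem Ac.conj {x y : GL ι F} (h : Ac x y) (g : GL ι F) : Ac (g * x * g⁻¹) (g * y * g⁻¹) := by
  unfold Ac at *
  rw [show g * x * g⁻¹ * (g * y * g⁻¹) = g * (x * y) * g⁻¹ by group,
    show g * y * g⁻¹ * (g * x * g⁻¹) = g * (y * x) * g⁻¹ by group, h, mul_neg, neg_mul]

theorem commute_conj {x y : GL ι F} (h : Commute x y) (g : GL ι F) : Commute (g * x * g⁻¹) (g * y * g⁻¹) := by
  show _ = _
  rw [show g * x * g⁻¹ * (g * y * g⁻¹) = g * (x * y) * g⁻¹ by group, h.eq]
  group

theorem PC.conj {x y : GL ι F} (h : PC x y) (g : GL ι F) : PC (g * x * g⁻¹) (g * y * g⁻¹) :=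
  h.imp (fun h => commute_conj h g) fun h => h.conj g

theorem scalar_conj {c : GL ι F} (hc : c ∈ scalars ι F) (g : GL ι F) : g * c * g⁻¹ = c := by
  rw [← (commute_scalar hc g).eq, mul_inv_cancel_right]

theorem conj_mem_scalars {c : GL ι F} (g : GL ι F) : g * c * g⁻¹ ∈ scalars ι F ↔ c ∈ scalars ι F := by
  refine ⟨fun h => ?_, fun h => by rwa [scalar_conj h]⟩
  have := scalar_conj h g⁻¹
  rw [show g⁻¹ * (g * c * g⁻¹) * g⁻¹⁻¹ = c by group] at this
  exact this ▸ h

/-- Spanning, commutation signs and scalar squares. -/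
structure IsPre (R : Subgroup (GL ι F)) : Prop where
  two : (2 : F) ≠ 0
  card_ne : (Fintype.card ι : F) ≠ 0
  neg_one_mem : (-1 : GL ι F) ∈ R
  sign : ∀ x ∈ R, ∀ y ∈ R, PC x y
  sq_mem : ∀ {x : GL ι F}, x ∈ R → x * x ∈ scalars ι F
  span : Submodule.span F (matrixSet R) = ⊤

/-- The hypotheses on `R`. -/
structure IsSymp (R : Subgroup (GL ι F)) : Prop extends IsPre R where
  scal : scalars ι F ≤ R
  normed : ∀ x ∈ R, ∃ c ∈ scalars ι F, (c * x) * (c * x) = -1
  root : ∃ i : F, i * i = -1

theorem sq_of_normed {x : GL ι F} (hn : ∃ c ∈ scalars ι F, (c * x) * (c * x) = -1) : x * x ∈ scalars ι F := by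
  obtain ⟨c, hc, e⟩ := hn
  have e' : x * x = (c * c)⁻¹ * -1 := by
    rw [← e, show c * x * (c * x) = c * (x * c) * x by group, ← (commute_scalar hc x).eq]
    group
  rw [e']
  exact mul_mem (inv_mem (mul_mem hc hc)) (neg_mem_scalars (one_mem _))

variable {R : Subgroup (GL ι F)}

namespace IsPre

variable (h : IsPre R)

include h in
theorem nonempty : Nonempty ι := by
  by_contra hc
  rw [not_nonempty_iff] at hc
  exact h.card_ne (by simp [Fintype.card_eq_zero])

include h in
theorem not_both {x y : GL ι F} (h1 : Commute x y) (h2 : Ac x y) : False := by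
  haveI := h.nonempty
  obtain ⟨i⟩ := ‹Nonempty ι›
  have e : ((x * y : GL ι F) : Matrix ι ι F) = -((x * y : GL ι F) : Matrix ι ι F) := by
    rw [← Units.val_neg]
    exact congrArg Units.val (show x * y = -(x * y) by conv_lhs => rw [show x * y = -(y * x) from h2, ← h1.eq])
  have e2 : (2 : F) • ((x * y : GL ι F) : Matrix ι ι F) = 0 := by
    rw [two_smul]
    nth_rewrite 2 [e]
    exact add_neg_cancel _
  have e3 := congrArg (fun Z => Z * (((x * y)⁻¹ : GL ι F) : Matrix ι ι F)) ((smul_eq_zero.1 e2).resolve_left h.two)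
  rw [zero_mul, Units.mul_inv] at e3
  simpa using congrFun₂ e3 i i

include h in
theorem not_ac_scalar {x y : GL ι F} (h2 : Ac x y) : x ∉ scalars ι F ∧ y ∉ scalars ι F :=
  ⟨fun hx => h.not_both (commute_scalar hx y) h2, fun hy => h.not_both (commute_scalar hy x).symm h2⟩

include h in
theorem neg_mem {x : GL ι F} (hx : x ∈ R) : -x ∈ R := by
  rw [← neg_one_mul]; exact mul_mem h.neg_one_mem hx

include h in
theorem eq_zero_of_trace {M : Matrix ι ι F} (hM : ∀ r ∈ R, (M * (r : Matrix ι ι F)).trace = 0) : M = 0 := by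
  have key : ∀ Y : Matrix ι ι F, (M * Y).trace = 0 := by
    intro Y
    have hY : Y ∈ Submodule.span F (matrixSet R) := h.span ▸ Submodule.mem_top
    refine Submodule.span_induction ?_ (by simp) (fun a b _ _ ha hb => by rw [mul_add, trace_add, ha, hb, add_zero])
      (fun c a _ ha => by rw [Matrix.mul_smul, trace_smul, ha, smul_zero]) hY
    rintro _ ⟨r, hr, rfl⟩
    exact hM r hr
  ext i j
  have := key (Matrix.single j i 1)
  rwa [Matrix.trace_mul_comm, Matrix.trace_single_mul, one_smul] at this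

include h in
theorem commute_all {M : Matrix ι ι F} (hM : ∀ r ∈ R, Commute M (r : Matrix ι ι F)) (Y : Matrix ι ι F) :
    Commute M Y := by
  have hY : Y ∈ Submodule.span F (matrixSet R) := h.span ▸ Submodule.mem_top
  refine Submodule.span_induction ?_ (Commute.zero_right _) (fun a b _ _ ha hb => ha.add_right hb)
    (fun c a _ ha => ha.smul_right c) hY
  rintro _ ⟨r, hr, rfl⟩
  exact hM r hr

include h in
theorem exists_eq_smul_one {M : Matrix ι ι F} (hM : ∀ r ∈ R, Commute M (r : Matrix ι ι F)) :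
    ∃ c : F, M = c • (1 : Matrix ι ι F) := by
  haveI := h.nonempty
  obtain ⟨c, hc⟩ := Matrix.mem_range_scalar_of_commute_single (M := M)
    (fun i j _ => (h.commute_all hM _).symm)
  exact ⟨c, by rw [← hc, Matrix.scalar_apply, Matrix.smul_one_eq_diagonal]⟩

include h in
theorem scalar_of_commute {g : GL ι F} (hg : ∀ r ∈ R, Commute g r) : g ∈ scalars ι F := by
  obtain ⟨c, hc⟩ := h.exists_eq_smul_one (M := (g : Matrix ι ι F)) fun r hr =>
    (congrArg Units.val (hg r hr).eq)
  haveI := h.nonempty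
  have hc0 : c ≠ 0 := by
    rintro rfl
    have := Units.mul_inv g
    rw [hc, zero_smul, zero_mul] at this
    exact zero_ne_one this
  exact (mem_scalars_iff g).2 ⟨Units.mk0 c hc0, hc⟩

include h in
theorem exists_ac {a : GL ι F} (ha : a ∈ R) (hns : a ∉ scalars ι F) : ∃ b ∈ R, Ac a b := by
  by_contra! hc
  exact hns (h.scalar_of_commute fun r hr => (h.sign a ha r hr).resolve_right (hc r hr))

include h in
/-- An element commuting with the centralisers of `a` lies in `⟨a⟩` modulo scalars. -/
theorem mem_of_commute_one {a z : GL ι F} (ha : a ∈ R) (hz : z ∈ R) (hza : Commute z a)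
    (hall : ∀ t ∈ R, Commute t a → Commute z t) : z ∈ scalars ι F ∨ z * a⁻¹ ∈ scalars ι F := by
  by_cases hns : a ∈ scalars ι F
  · exact Or.inl (h.scalar_of_commute fun r hr => hall r hr (commute_scalar hns r).symm)
  obtain ⟨b, hb, hab⟩ := h.exists_ac ha hns
  rcases h.sign z hz b hb with hzb | hzb
  · refine Or.inl (h.scalar_of_commute fun r hr => ?_)
    rcases h.sign r hr a ha with hra | hra
    · exact hall r hr hra
    · have e1 := hall (r * b) (mul_mem hr hb) (commute_of_ac_ac hra.symm hab).symm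
      have : r = r * b * b⁻¹ := by group
      rw [this]
      exact e1.mul_right hzb.inv_right
  · refine Or.inr (h.scalar_of_commute fun r hr => ?_)
    have key : ∀ t ∈ R, Commute t a → Commute (z * a⁻¹) t := fun t ht hta =>
      (hall t ht hta).mul_left hta.symm.inv_left
    have kb : Commute (z * a⁻¹) b := (commute_of_ac_ac hzb.symm hab.inv_left.symm).symm
    rcases h.sign r hr a ha with hra | hra
    · exact key r hr hra
    · have e1 := key (r * b) (mul_mem hr hb) (commute_of_ac_ac hra.symm hab).symm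
      have : r = r * b * b⁻¹ := by group
      rw [this]
      exact e1.mul_right kb.inv_right

include h in
/-- An anticommuting partner inside a centraliser. -/
theorem exists_ac_in {a x : GL ι F} (ha : a ∈ R) (hx : x ∈ R) (hxa : Commute x a) (hx1 : x ∉ scalars ι F)
    (hx2 : x * a⁻¹ ∉ scalars ι F) : ∃ d ∈ R, Commute d a ∧ Ac x d := by
  by_contra! hc
  rcases h.mem_of_commute_one ha hx hxa fun t ht hta => (h.sign x hx t ht).resolve_right (hc t ht hta) with e | e
  exacts [hx1 e, hx2 e]

include h in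
/-- An element anticommuting with one of two commuting elements and commuting with the other. -/
theorem exists_ac_left {a v : GL ι F} (ha : a ∈ R) (hv : v ∈ R) (hav : Commute a v) (h1 : a ∉ scalars ι F)
    (h2 : a * v⁻¹ ∉ scalars ι F) : ∃ d ∈ R, Commute d v ∧ Ac d a := by
  obtain ⟨d, hd, hdv, had⟩ := h.exists_ac_in hv ha hav h1 h2
  exact ⟨d, hd, hdv, had.symm⟩

include h in
/-- An element commuting with the joint centraliser of `a` and `v`. -/
theorem mem_of_commute_two {a v z : GL ι F} (ha : a ∈ R) (hv : v ∈ R) (hz : z ∈ R) (hva : Commute v a)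
    (hv1 : v ∉ scalars ι F) (hv2 : v * a⁻¹ ∉ scalars ι F) (hza : Commute z a)
    (hall : ∀ t ∈ R, Commute t a → Commute t v → Commute z t) :
    (z ∈ scalars ι F ∨ z * a⁻¹ ∈ scalars ι F) ∨ z * v⁻¹ ∈ scalars ι F ∨ z * v⁻¹ * a⁻¹ ∈ scalars ι F := by
  obtain ⟨d, hd, hda, hvd⟩ := h.exists_ac_in ha hv hva hv1 hv2
  have main : ∀ w ∈ R, Commute w a → (∀ t ∈ R, Commute t a → Commute t v → Commute w t) → Commute w d →
      w ∈ scalars ι F ∨ w * a⁻¹ ∈ scalars ι F := by
    intro w hw hwa hwall hwd
    refine h.mem_of_commute_one ha hw hwa fun t ht hta => ?_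
    rcases h.sign t ht v hv with htv | htv
    · exact hwall t ht hta htv
    · have e1 := hwall (t * d) (mul_mem ht hd) (hta.mul_left hda) (commute_of_ac_ac htv.symm hvd).symm
      have : t = t * d * d⁻¹ := by group
      rw [this]
      exact e1.mul_right hwd.inv_right
  rcases h.sign z hz d hd with hzd | hzd
  · exact Or.inl (main z hz hza hall hzd)
  · exact Or.inr (main (z * v⁻¹) (mul_mem hz (inv_mem hv)) (hza.mul_left hva.inv_left)
      (fun t ht hta htv => (hall t ht hta htv).mul_left htv.symm.inv_left)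
      (commute_of_ac_ac hzd.symm hvd.inv_left.symm).symm)

include h in
/-- An element acting as a scalar on a vector killed by nothing in `R` commutes exactly. -/
theorem commute_of_smul {z t : GL ι F} (hz : z ∈ R) (ht : t ∈ R) {P : Matrix ι ι F} {c : F} (hP : P ≠ 0)
    (htP : Commute (t : Matrix ι ι F) P) (e : (z : Matrix ι ι F) * P = c • P) : Commute z t := by
  refine (h.sign z hz t ht).resolve_right fun hac => ?_
  have e1 : ((t * z : GL ι F) : Matrix ι ι F) * P = c • ((t : Matrix ι ι F) * P) := by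
    rw [Units.val_mul, mul_assoc, e, Matrix.mul_smul]
  have e2 : ((z * t : GL ι F) : Matrix ι ι F) * P = c • ((t : Matrix ι ι F) * P) := by
    rw [Units.val_mul, mul_assoc, htP.eq, ← mul_assoc, e, Matrix.smul_mul]
  rw [show z * t = -(t * z) from hac, Units.val_neg, neg_mul, e1] at e2
  have e3 : (2 : F) • (c • ((t : Matrix ι ι F) * P)) = 0 := by
    rw [two_smul]; nth_rewrite 1 [← e2]; exact neg_add_cancel _
  rcases smul_eq_zero.1 e3 with h2 | h2
  · exact h.two h2
  rw [← Matrix.mul_smul] at h2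
  have e4 := congrArg (fun Z => ((t⁻¹ : GL ι F) : Matrix ι ι F) * Z) h2
  simp only [← mul_assoc, Units.inv_mul, one_mul, mul_zero] at e4
  rw [e4] at e
  have e5 := congrArg (fun Z => ((z⁻¹ : GL ι F) : Matrix ι ι F) * Z) e
  simp only [← mul_assoc, Units.inv_mul, one_mul, mul_zero] at e5
  exact hP e5

include h in
theorem trace_zero {x : GL ι F} (hx : x ∈ R) (hns : x ∉ scalars ι F) : (x : Matrix ι ι F).trace = 0 := by
  obtain ⟨b, -, hxb⟩ := h.exists_ac hx hns
  have e : (x : Matrix ι ι F) = -((b⁻¹ : GL ι F) * (x : Matrix ι ι F) * (b : Matrix ι ι F)) := by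
    rw [← Units.val_mul, ← Units.val_mul, ← Units.val_neg]
    congr 1
    rw [mul_assoc, show x * b = -(b * x) from hxb, mul_neg, neg_neg, inv_mul_cancel_left]
  have e2 := congrArg Matrix.trace e
  rw [trace_neg, trace_mul_cycle, Units.mul_inv, one_mul] at e2
  exact (mul_eq_zero.1 (show (2 : F) * (x : Matrix ι ι F).trace = 0 by linear_combination e2)).resolve_left h.two

include h in
/-- Representatives of distinct classes modulo scalars are linearly independent. -/
theorem coeff_eq_zero {κ : Type*} [Fintype κ] (e : κ → GL ι F) (he : ∀ k, e k ∈ R)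
    (hd : ∀ k l, k ≠ l → (e k)⁻¹ * e l ∉ scalars ι F) (c : κ → F)
    (hs : ∑ k, c k • (e k : Matrix ι ι F) = 0) (k : κ) : c k = 0 := by
  have e1 := congrArg (fun Z => (((e k)⁻¹ : GL ι F) * Z : Matrix ι ι F).trace) hs
  simp only [Finset.mul_sum, trace_sum, Matrix.mul_smul, trace_smul, mul_zero, trace_zero] at e1
  rw [Finset.sum_eq_single k (fun l _ hl => by
      rw [← Units.val_mul, h.trace_zero (mul_mem (inv_mem (he k)) (he l)) (hd k l (Ne.symm hl)), smul_zero])
    (by simp), Units.inv_mul, trace_one, smul_eq_mul, Matrix.trace_zero] at e1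
  exact (mul_eq_zero.1 e1).resolve_right h.card_ne

include h in
/-- Commuting up to sign with everything in `R` means lying in `R` up to a scalar. -/
theorem exists_smul_mem_of_pc {g : GL ι F} (hg : ∀ t ∈ R, PC g t) : ∃ c ∈ scalars ι F, c * g ∈ R := by
  haveI := h.nonempty
  obtain ⟨s, hs, hs0⟩ : ∃ s ∈ R, ((g : Matrix ι ι F) * (s : Matrix ι ι F)).trace ≠ 0 := by
    by_contra! hc
    have e := Units.mul_inv g
    rw [h.eq_zero_of_trace hc, zero_mul] at e
    exact zero_ne_one e
  have key : ∀ t ∈ R, Commute (g * s) t := by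
    intro t ht
    refine (PC.mul_left (hg t ht) (h.sign s hs t ht)).resolve_right fun hac => hs0 ?_
    have e := congrArg (fun Z : GL ι F => (Z : Matrix ι ι F).trace) hac.symm.conj_eq
    simp only [Units.val_mul, Units.val_neg, trace_neg] at e
    rw [trace_mul_cycle, Units.inv_mul, one_mul] at e
    exact (mul_eq_zero.1 (show (2 : F) * ((g : Matrix ι ι F) * (s : Matrix ι ι F)).trace = 0 by
      linear_combination e)).resolve_left h.two
  refine ⟨(g * s)⁻¹, inv_mem (h.scalar_of_commute key), ?_⟩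
  rw [_root_.mul_inv_rev, inv_mul_cancel_right]
  exact inv_mem hs

end IsPre

namespace IsSymp

variable (h : IsSymp R)

include h in
theorem root_unit : ∃ z ∈ scalars ι F, (z : GL ι F) * z = -1 := by
  obtain ⟨i, hi⟩ := h.root
  have hi0 : i ≠ 0 := by rintro rfl; simp at hi
  exact ⟨sc i hi0, sc_mem i hi0, Units.ext (by simp [sc, smul_smul, hi])⟩

include h in
/-- Rescaling to an involution. -/
theorem exists_sq_one {x : GL ι F} (hx : x ∈ R) : ∃ c ∈ scalars ι F, (c * x) * (c * x) = 1 := by
  obtain ⟨c, hc, e⟩ := h.normed x hx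
  obtain ⟨z, hz, ez⟩ := h.root_unit
  refine ⟨z * c, mul_mem hz hc, ?_⟩
  rw [mul_assoc z c x, show z * (c * x) * (z * (c * x)) = z * ((c * x) * z) * (c * x) by group,
    ← (commute_scalar hz (c * x)).eq, ← mul_assoc z z, ez, mul_assoc, e, neg_one_mul, neg_neg]

include h in
/-- Commuting up to sign with everything in `R` means lying in `R`. -/
theorem mem_of_pc {g : GL ι F} (hg : ∀ t ∈ R, PC g t) : g ∈ R := by
  obtain ⟨c, hc, e⟩ := h.toIsPre.exists_smul_mem_of_pc hg
  have := mul_mem (inv_mem (h.scal hc)) e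
  rwa [inv_mul_cancel_left] at this

end IsSymp

end CfsgLib.Geo.SympNorm
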