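import Cfsg.Agent.Lib.Geo.SympNorm.SpBasic

/-!
# The eigenspace of an involution: normaliser of the half or everything
-/

set_option autoImplicit false
set_option linter.unusedSectionVars false

namespace CfsgLib.Geo.SympNorm

open Matrix Cfsg.Geo
open scoped commutatorElement

variable {ι κ : Type} [Fintype ι] [DecidableEq ι] [Fintype κ] [DecidableEq κ] {F : Type*} [Field F]

/-- An overgroup of the normaliser inside the isometries. -/
structure SpCtx (Γ : Matrix ι ι F) (k : ℕ) (R M : Subgroup (GL ι F)) : Prop where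
  sp : IsSp Γ k R
  above : subgroupNormalizer R ⊓ isoGL Γ ≤ M
  sub : M ≤ isoGL Γ

/-- Conjugation into a finite subgroup is onto. -/
theorem mem_normalizer_of_conj {R : Subgroup (GL ι F)} [Finite R] {g : GL ι F}
    (h : ∀ x ∈ R, g * x * g⁻¹ ∈ R) : g ∈ subgroupNormalizer R := by
  refine Subgroup.mem_normalizer_iff.2 fun x => ⟨h x, fun hx => ?_⟩
  let f : R → R := fun y => ⟨g * y * g⁻¹, h y y.2⟩
  have hf : Function.Injective f := fun a b e => Subtype.ext (by simpa [f] using e)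
  obtain ⟨y, hy⟩ := (Finite.injective_iff_surjective.1 hf) ⟨_, hx⟩
  have := congrArg Subtype.val hy
  simp [f] at this
  exact this ▸ y.2

namespace SpCtx

variable {Γ : Matrix ι ι F} {k : ℕ} {R M : Subgroup (GL ι F)} (C : SpCtx Γ k R M)

include C

theorem le : R ≤ M := fun _ hx => C.above ⟨Subgroup.le_normalizer hx, C.sp.le hx⟩

theorem mem_of_scalar {g : GL ι F} (hg : g ∈ scalars ι F) (hi : g ∈ isoGL Γ) : g ∈ R := by
  rcases C.sp.eq_or_neg hg hi with rfl | rfl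
  exacts [one_mem R, C.sp.neg_one_mem]

theorem map {ι' : Type} [Fintype ι'] [DecidableEq ι'] (L : (ι' → F) ≃ₗ[F] (ι → F)) {Γ' : Matrix ι' ι' F}
    (hΓ' : IsAltGram Γ') (hmem : ∀ g : GL ι F, coordGL L g ∈ isoGL Γ' ↔ g ∈ isoGL Γ) :
    SpCtx Γ' k (R.map (coordGL L).toMonoidHom) (M.map (coordGL L).toMonoidHom) where
  sp := C.sp.map L hΓ' hmem
  above := by
    intro g hg
    obtain ⟨g, rfl⟩ := (coordGL L).surjective g
    exact ⟨g, C.above ⟨(coord_mem_normalizer L).1 hg.1, (hmem g).1 hg.2⟩, rfl⟩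
  sub := by rintro _ ⟨g, hg, rfl⟩; exact (hmem g).2 (C.sub hg)

end SpCtx

/-- The statement for one rank. -/
def Dich (F : Type*) [Field F] (k : ℕ) : Prop :=
  ∀ (κ : Type) [Fintype κ] [DecidableEq κ] (Γ : Matrix κ κ F) (R M : Subgroup (GL κ F)),
    SpCtx Γ k R M → M ≤ subgroupNormalizer R ∨ isoGL Γ ≤ M

/-- The isometries do not normalise `R`. -/
theorem IsSp.not_iso_le {Γ : Matrix ι ι F} {k : ℕ} {R : Subgroup (GL ι F)} (h : IsSp Γ k R) (hk : 2 ≤ k) :
    ¬ isoGL Γ ≤ subgroupNormalizer R := by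
  intro hle
  have h4 : 4 ≤ Fintype.card ι := h.dim ▸ (Nat.pow_le_pow_right two_pos hk : 2 ^ 2 ≤ 2 ^ k)
  obtain ⟨r, hr, er⟩ := h.exists_nons le_rfl (by rw [h.card]; exact Nat.pow_le_pow_right two_pos (by omega))
  have hr1 := h.not_scalar_of_nons hr er
  have hR : isoGL Γ ≤ R := h.gram.le_of_normalized h.two h4
    (fun g hg y hy _ => (Subgroup.mem_normalizer_iff.1 (hle hg) y).1 hy) hr (h.le hr) hr1
  have hc : ⁅isoGL Γ, isoGL Γ⁆ ≤ scalars ι F := by
    refine (Subgroup.commutator_mono hR hR).trans (Subgroup.commutator_le.2 fun a ha b hb => ?_)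
    rw [commutatorElement_def]
    rcases (h.sign a ha b hb).conj_mem with e | e <;> rw [e]
    · rw [mul_inv_cancel]; exact one_mem _
    · rw [neg_mul, mul_inv_cancel]; exact neg_mem_scalars (one_mem _)
  exact hr1 (hc (h.gram.le_commutator h.two h4 (h.le hr)))

theorem IsSp.finite' {Γ : Matrix ι ι F} {k : ℕ} {R : Subgroup (GL ι F)} (h : IsSp Γ k R) : Finite R := h.finite

section Halves

variable {G : Matrix κ κ F} {k : ℕ} {R M : Subgroup (GL (κ ⊕ κ) F)}

theorem dg_commute_aM (y z : GL κ F) : Commute (dg (y, z)) (aM : GL (κ ⊕ κ) F) := by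
  show dg (y, z) * aM = aM * dg (y, z)
  rw [aM, ← map_mul, ← map_mul]; congr 1; simp

theorem di_commute_bM (y : GL κ F) : Commute (di y) (bM : GL (κ ⊕ κ) F) := by
  show di y * bM = bM * di y
  rw [di_apply, bM_dg]

theorem aM_sq : (aM : GL (κ ⊕ κ) F) * aM = 1 := by
  rw [aM, ← map_mul, ← map_one dg]; congr 1; simp

theorem ac_aM_bM : Ac (aM : GL (κ ⊕ κ) F) bM := Units.ext (by
  simp [bM, aM_val, fromBlocks_multiply, fromBlocks_neg])

/-- Conjugation rules for all of `R`. -/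
theorem conj_mem_of (h : IsPre R) (ha : aM ∈ R) (hb : bM ∈ R) {g : GL (κ ⊕ κ) F}
    (h1 : ∀ r ∈ half R, g * dg (r, r) * g⁻¹ ∈ R ∧ g * dg (r, -r) * g⁻¹ ∈ R) (h2 : g * bM * g⁻¹ ∈ R) :
    ∀ x ∈ R, g * x * g⁻¹ ∈ R := by
  have diag : ∀ x ∈ R, Commute x aM → g * x * g⁻¹ ∈ R := fun x hx hxa => by
    obtain ⟨r, hr, rfl | rfl⟩ := h.exists_half ha hb hx hxa
    exacts [(h1 r hr).1, (h1 r hr).2]
  intro x hx
  rcases h.sign x hx aM ha with hxa | hxa
  · exact diag x hx hxa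
  · have e := mul_mem (diag _ (mul_mem hx hb) (commute_of_ac_ac hxa.symm ac_aM_bM).symm) h2
    rw [show g * (x * bM) * g⁻¹ * (g * bM * g⁻¹) = g * (x * (bM * bM)) * g⁻¹ by group, bM_sq, mul_one] at e
    exact e

theorem di_mem_normalizer (h : IsSp (fromBlocks G 0 0 G) k R) (ha : aM ∈ R) (hb : bM ∈ R) {n : GL κ F}
    (hn : n ∈ subgroupNormalizer (half R)) : di n ∈ subgroupNormalizer R := by
  haveI := h.finite
  refine mem_normalizer_of_conj (conj_mem_of h.pre ha hb (fun r hr => ?_) ?_)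
  · have hm : n * r * n⁻¹ ∈ half R := (Subgroup.mem_normalizer_iff.1 hn r).1 hr
    refine ⟨?_, ?_⟩
    · rw [show di n * dg (r, r) * (di n)⁻¹ = di (n * r * n⁻¹) by rw [map_mul, map_mul, map_inv]; rfl]
      exact hm
    · rw [show di n * dg (r, -r) * (di n)⁻¹ = di (n * r * n⁻¹) * aM by
        rw [di_apply, di_apply, dg_inv, aM, ← map_mul, ← map_mul, ← map_mul]; congr 1; simp [mul_assoc]]
      exact mul_mem hm ha
  · rw [(di_commute_bM n).eq, mul_inv_cancel_right]; exact hb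

/-- `dg (r, 1)` for an element of square minus one normalises. -/
theorem kernel_normalizer (h : IsSp (fromBlocks G 0 0 G) k R) (ha : aM ∈ R) (hb : bM ∈ R) {r : GL κ F}
    (hr : r ∈ half R) (hrr : r * r = -1) : dg (r, 1) ∈ subgroupNormalizer R := by
  haveI := h.finite
  have hh := h.pre.half ha hb
  have hinv : r⁻¹ = -r := inv_eq_of_mul_eq_one_right (by rw [mul_neg, hrr, neg_neg])
  refine mem_normalizer_of_conj (conj_mem_of h.pre ha hb (fun s hs => ?_) ?_)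
  · have e : ∀ t : GL κ F, dg (r, 1) * dg (s, t) * (dg (r, 1))⁻¹ = dg (r * s * r⁻¹, t) := fun t => by
      rw [dg_inv, ← map_mul, ← map_mul]; congr 1; simp
    have m1 : dg (s, s) ∈ R := hs
    have m2 : dg (s, -s) ∈ R := by
      rw [show dg (s, -s) = di s * aM by rw [di_apply, aM, ← map_mul]; simp]; exact mul_mem hs ha
    rw [e, e]
    rcases (hh.sign r hr s hs).conj_mem with e' | e' <;> rw [e']
    · exact ⟨m1, m2⟩
    · refine ⟨?_, ?_⟩
      · rw [show dg (-s, s) = -dg (s, -s) from Units.ext (by simp [dg_val, fromBlocks_neg])]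
        exact h.neg_mem m2
      · rw [show dg (-s, -s) = -dg (s, s) from Units.ext (by simp [dg_val, fromBlocks_neg])]
        exact h.neg_mem m1
  · rw [mul_assoc, dg_inv, bM_dg, ← mul_assoc, ← map_mul, Prod.mk_mul_mk, hinv, inv_one, one_mul, mul_one,
      show dg (r, -r) = di r * aM by rw [di_apply, aM, ← map_mul]; simp]
    exact mul_mem (mul_mem hr ha) hb

theorem dg_swap_mem (hb : bM ∈ M) {y z : GL κ F} (h : dg (y, z) ∈ M) : dg (z, y) ∈ M := by
  have e : dg (z, y) = bM * dg (y, z) * bM := by rw [bM_dg, mul_assoc, bM_sq, mul_one]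
  rw [e]; exact mul_mem (mul_mem hb h) hb

variable (hG : IsAltGram G) (C : SpCtx (fromBlocks G 0 0 G) (k + 1) R M) (ha : aM ∈ R) (hb : bM ∈ R)

include hG C ha hb

theorem proj_ctx : SpCtx G k (half R) (projM M) where
  sp := C.sp.half hG ha hb
  above := fun n hn => mem_projM.2 ⟨n, C.above ⟨di_mem_normalizer C.sp ha hb hn.1,
    dg_mem_iso_iff.2 ⟨hn.2, hn.2⟩⟩⟩
  sub := fun y hy => by
    obtain ⟨z, hz⟩ := mem_projM.1 hy
    exact (dg_mem_iso_iff.1 (C.sub hz)).1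

/-- Everything on one half gives everything. -/
theorem iso_le_of_half (hk : 2 ≤ k) (hY : isoGL G ≤ projM M) : isoGL (fromBlocks G 0 0 G) ≤ M := by
  have h' := C.sp.half hG ha hb
  have h2 := C.sp.two
  have h4 : 4 ≤ Fintype.card κ := h'.dim ▸ (Nat.pow_le_pow_right two_pos hk : 2 ^ 2 ≤ 2 ^ k)
  have hbM := C.le hb
  obtain ⟨r, hr, er⟩ := h'.exists_nons le_rfl (by rw [h'.card]; exact Nat.pow_le_pow_right two_pos (by omega))
  have hdr : di r * di r = -1 := by rw [← map_mul, er, di_neg, map_one]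
  let K : Subgroup (GL κ F) := M.comap (dg.comp (MonoidHom.inl _ _))
  have hKm : ∀ y, y ∈ K ↔ dg (y, 1) ∈ M := fun y => Iff.rfl
  have hK : isoGL G ≤ K := by
    refine hG.le_of_normalized h2 h4 (fun g hg y hy _ => ?_) (r := r) ?_ (h'.le hr) (h'.not_scalar_of_nons hr er)
    · obtain ⟨z, hz⟩ := mem_projM.1 (hY hg)
      have e : dg (g * y * g⁻¹, 1) = dg (g, z) * dg (y, 1) * (dg (g, z))⁻¹ := by
        rw [dg_inv, ← map_mul, ← map_mul]; congr 1; simp
      rw [hKm, e]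
      exact mul_mem (mul_mem hz hy) (inv_mem hz)
    · exact C.above ⟨kernel_normalizer C.sp ha hb hr er, dg_mem_iso_iff.2 ⟨h'.le hr, one_mem _⟩⟩
  set Γ := fromBlocks G 0 0 G
  have hΓ := C.sp.gram
  have hL : ∀ g ∈ isoGL G, dg (g, 1) ∈ M := fun g hg => hK hg
  have hR : ∀ g ∈ isoGL G, dg (1, g) ∈ M := fun g hg => dg_swap_mem hbM (hL g hg)
  have base : ∀ u : κ → F, hΓ.HasTr M (Sum.elim u 0) := fun u c => by
    set t := CfsgLib.Classical.Symp.tr (hG.isAlt h2) u c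
    refine ⟨dg (((hG.toSp.symm t : isoGL G) : GL κ F), 1), hL _ (hG.toSp.symm t).2, fun x => ?_⟩
    obtain ⟨p, q, rfl⟩ : ∃ p q, x = Sum.elim p q := ⟨x ∘ Sum.inl, x ∘ Sum.inr, (Sum.elim_comp_inl_inr x).symm⟩
    rw [dg_mulVec, ← hG.toSp_mulVec, MulEquiv.apply_symm_apply, CfsgLib.Classical.Symp.tr_apply, hG.bf_apply,
      fromBlocks_mulVec, sumElim_dotProduct_sumElim]
    ext (i | i) <;> simp
  have hxx : aM * bM * (aM * bM) = (-1 : GL (κ ⊕ κ) F) := by rw [ac_aM_bM.sq_mul, aM_sq, bM_sq, mul_one]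
  set n := pr h2 (aM * bM) (di r) hxx hdr
  have hn : n ∈ subgroupNormalizer R ⊓ isoGL Γ := C.sp.pr_mem (mul_mem ha hb) hr hxx hdr
  have hT : ∀ u v : κ → F, hΓ.HasTr M (Sum.elim u v) := by
    intro u v
    by_cases hu : u = 0
    · subst hu
      have e : Sum.elim (0 : κ → F) v = ((bM : GL (κ ⊕ κ) F) : Matrix (κ ⊕ κ) (κ ⊕ κ) F) *ᵥ Sum.elim v 0 := by
        show _ = fromBlocks 0 1 1 0 *ᵥ _
        rw [fromBlocks_mulVec]; simp
      rw [e]
      exact IsAltGram.HasTr.move hΓ (base v) hbM (C.sp.le hb)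
    by_cases hv : v = 0
    · subst hv; exact base u
    set w : κ → F := (2 : F)⁻¹ • (((tv h2 r er : GL κ F) : Matrix κ κ F) *ᵥ u) with hw
    have hw0 : w ≠ 0 := fun e => hu (by
      have e1 := congrArg ((((tv h2 r er)⁻¹ : GL κ F) : Matrix κ κ F) *ᵥ ·)
        ((smul_eq_zero.1 e).resolve_left (inv_ne_zero h2))
      simp only [mulVec_mulVec, Units.inv_mul, one_mulVec, mulVec_zero] at e1
      exact e1)
    have en : (n : Matrix (κ ⊕ κ) (κ ⊕ κ) F) *ᵥ Sum.elim u 0 = Sum.elim w (-w) := by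
      show (((2 : F)⁻¹ • (1 : Matrix (κ ⊕ κ) (κ ⊕ κ) F)) * ((1 + ((aM * bM : GL (κ ⊕ κ) F) : Matrix (κ ⊕ κ) (κ ⊕ κ) F)) *
        (1 + ((di r : GL (κ ⊕ κ) F) : Matrix (κ ⊕ κ) (κ ⊕ κ) F)))) *ᵥ _ = _
      rw [smul_mul_assoc, Matrix.one_mul, smul_mulVec, ← mulVec_mulVec, add_mulVec, one_mulVec,
        di_apply, add_mulVec, one_mulVec, dg_mulVec, Units.val_mul, aM_val,
        show ((bM : GL (κ ⊕ κ) F) : Matrix (κ ⊕ κ) (κ ⊕ κ) F) = fromBlocks 0 1 1 0 from rfl, fromBlocks_multiply,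
        fromBlocks_mulVec, hw, show ((tv h2 r er : GL κ F) : Matrix κ κ F) = 1 + (r : Matrix κ κ F) from rfl]
      ext (i | i) <;> simp [add_mulVec, smul_add, neg_mulVec, mulVec_zero] <;> ring
    have h1 : hΓ.HasTr M (Sum.elim w (-w)) := en ▸ IsAltGram.HasTr.move hΓ (base u) (C.above hn) hn.2
    obtain ⟨g, hg, eg⟩ := hG.exists_move h2 hw0 hu
    obtain ⟨g', hg', eg'⟩ := hG.exists_move h2 (neg_ne_zero.2 hw0) hv
    have hm : dg (g, g') ∈ M := by
      rw [show dg (g, g') = dg (g, 1) * dg (1, g') by rw [← map_mul]; simp]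
      exact mul_mem (hL g hg) (hR g' hg')
    have e : Sum.elim u v = ((dg (g, g') : GL (κ ⊕ κ) F) : Matrix (κ ⊕ κ) (κ ⊕ κ) F) *ᵥ Sum.elim w (-w) := by
      rw [dg_mulVec, eg, eg']
    rw [e]
    exact IsAltGram.HasTr.move hΓ h1 hm (C.sub hm)
  refine hΓ.isoGL_le_of_hasTr h2 fun z => ?_
  rw [← Sum.elim_comp_inl_inr z]
  exact hT _ _

/-- Dichotomy at an involution. -/
theorem half_dich (hk : 2 ≤ k) (ih : Dich F k) :
    (∀ y z, dg (y, z) ∈ M → y ∈ subgroupNormalizer (half R) ∧ z ∈ subgroupNormalizer (half R)) ∨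
      isoGL (fromBlocks G 0 0 G) ≤ M :=
  (ih κ G (half R) (projM M) (proj_ctx hG C ha hb)).imp
    (fun h y z hm => ⟨h (mem_projM.2 ⟨z, hm⟩), h (mem_projM.2 ⟨y, dg_swap_mem (C.le hb) hm⟩)⟩)
    (iso_le_of_half hG C ha hb hk)

end Halves

end CfsgLib.Geo.SympNorm
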