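import Cfsg.Agent.Lib.Geo.SympNorm.Coord
import Cfsg.Agent.Lib.Geo.KleinSp.SympType

/-!
# Dimension four: no element is split

A split element lies in a symplectic group whose part normalising the symplectic half of `R` is maximal.
-/

set_option autoImplicit false
set_option maxHeartbeats 1000000

namespace CfsgLib.Geo.SympNorm

open Matrix Cfsg.Geo

variable {ι : Type} [Fintype ι] [DecidableEq ι] {F : Type*} [Field F]

variable {R M : Subgroup (GL ι F)}

/-- An anticommuting pair is exchanged by an element commuting with the centraliser of its product. -/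
theorem IsSymp.swap_to (h : IsSymp R) (hT : h.HasTv M) {x y : GL ι F} (hx : x ∈ R) (hy : y ∈ R) (hxy : Ac x y) :
    ∃ n ∈ M ⊓ subgroupNormalizer R, n * x * n⁻¹ * y⁻¹ ∈ scalars ι F ∧ ∀ z, Commute z (x * y) → Commute n z := by
  obtain ⟨c, hc, hxR, hcx, hcom, hacm⟩ := h.normed_props (mul_mem hx hy)
  refine ⟨tv h.two _ hcx, ⟨hT _ hxR hcx, tv_mem_normalizer hcx h.toIsPre hxR⟩, ?_,
    fun z hz => tv_commute h.two hcx (hcom z hz)⟩
  rw [tv_ac h.two hcx (hacm x (Ac.mul_right' (Commute.refl x) hxy)), show x * (c * (x * y)) = x * c * x * y by group,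
    ← (commute_scalar hc x).eq, neg_mul, mul_inv_cancel_right, mul_assoc]
  exact neg_mem_scalars (mul_mem hc (h.sq_mem hx))

/-- A normalising element made to fix an anticommuting pair. -/
theorem IsSymp.fix_pair (h : IsSymp R) (hle : R ≤ M) (hT : h.HasTv M) {g a b : GL ι F}
    (hg : g ∈ subgroupNormalizer R) (ha : a ∈ R) (hb : b ∈ R) (hab : Ac a b) :
    ∃ m ∈ M ⊓ subgroupNormalizer R, Commute (m * g) a ∧ Commute (m * g) b := by
  have hsig : ∀ {k x y : GL ι F}, y ∈ R → k * x * k⁻¹ * y⁻¹ ∈ scalars ι F →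
      ∀ {g' : GL ι F}, g' * y * g'⁻¹ = x → PC (k * g') y := by
    intro k x y hy e g' e'
    refine pc_of_scalar (h.sq_mem hy) ?_
    rwa [show k * g' * y * (k * g')⁻¹ = k * (g' * y * g'⁻¹) * k⁻¹ by group, e']
  have hRN : ∀ {x}, x ∈ R → x ∈ M ⊓ subgroupNormalizer R := fun {x} hx => ⟨hle hx, Subgroup.le_normalizer hx⟩
  have hns := h.not_ac_scalar hab
  -- fix `a`
  have ha' : g * a * g⁻¹ ∈ R := (Subgroup.mem_normalizer_iff.1 hg a).1 ha
  obtain ⟨n₁, hn₁, e₁⟩ := h.transitive hT ha' ha (fun e => hns.1 ((conj_mem_scalars g).1 e)) hns.1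
  obtain ⟨m₁, hm₁, hm₁a⟩ : ∃ m ∈ M ⊓ subgroupNormalizer R, Commute (m * g) a := by
    rcases hsig ha e₁ rfl with e | e
    · exact ⟨n₁, hn₁, e⟩
    · exact ⟨b * n₁, mul_mem (hRN hb) hn₁, by
        rw [mul_assoc]; exact (commute_of_ac_ac hab e.symm).symm⟩
  have hg₁ : m₁ * g ∈ subgroupNormalizer R := mul_mem hm₁.2 hg
  set g₁ := m₁ * g with hg₁'
  set b' := g₁ * b * g₁⁻¹ with hb'
  have hb'R : b' ∈ R := (Subgroup.mem_normalizer_iff.1 hg₁ b).1 hb
  have hab' : Ac a b' := by
    have := hab.conj g₁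
    rwa [hm₁a.eq, mul_inv_cancel_right] at this
  obtain ⟨n₂, hn₂, hn₂a, e₂⟩ : ∃ n ∈ M ⊓ subgroupNormalizer R, Commute n a ∧ n * b' * n⁻¹ * b⁻¹ ∈ scalars ι F := by
    rcases h.sign b' hb'R b hb with e | e
    · have h1 : Ac b' (a * b) := Ac.mul_right hab'.symm e
      have h2 : Ac (a * b) b := Ac.mul_left hab (Commute.refl b)
      obtain ⟨u, hu, eu, hua⟩ := h.swap_to hT hb'R (mul_mem ha hb) h1
      obtain ⟨w, hw, ew, hwa⟩ := h.swap_to hT (mul_mem ha hb) hb h2
      refine ⟨w * u, mul_mem hw hu, (hwa a ?_).mul_left (hua a ?_), ?_⟩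
      · exact commute_of_ac_ac (Ac.mul_right' (Commute.refl a) hab) hab
      · exact commute_of_ac_ac hab' (Ac.mul_right' (Commute.refl a) hab)
      · rw [show w * u * b' * (w * u)⁻¹ * b⁻¹ =
          w * (u * b' * u⁻¹ * (a * b)⁻¹) * w⁻¹ * (w * (a * b) * w⁻¹ * b⁻¹) by group, scalar_conj eu]
        exact mul_mem eu ew
    · obtain ⟨n, hn, en, hna⟩ := h.swap_to hT hb'R hb e
      exact ⟨n, hn, hna a (commute_of_ac_ac hab' hab), en⟩
  have hn₂g : Commute (n₂ * g₁) a := hn₂a.mul_left hm₁a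
  rcases hsig hb e₂ rfl with e | e
  · refine ⟨n₂ * m₁, mul_mem hn₂ hm₁, ?_, ?_⟩ <;> rw [mul_assoc, ← hg₁']
    exacts [hn₂g, e]
  · refine ⟨a * (n₂ * m₁), mul_mem (hRN ha) (mul_mem hn₂ hm₁), ?_, ?_⟩ <;> rw [mul_assoc a, mul_assoc n₂, ← hg₁']
    exacts [(Commute.refl a).mul_left hn₂g, (commute_of_ac_ac hab.symm e.symm).symm]

theorem IsSymp.exists_pair (h : IsSymp R) (h2c : 2 ≤ Fintype.card ι) : ∃ r ∈ R, ∃ s ∈ R, Ac r s ∧ r * r = -1 ∧ s * s = -1 := by
  obtain ⟨r, hr, hr1⟩ : ∃ r ∈ R, r ∉ scalars ι F := by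
    by_contra! hc
    have hsp : Submodule.span F (matrixSet R) ≤ Submodule.span F {(1 : Matrix ι ι F)} := by
      refine Submodule.span_le.2 ?_
      rintro _ ⟨y, hy, rfl⟩
      obtain ⟨d, hd⟩ := (mem_scalars_iff y).1 (hc y hy)
      rw [SetLike.mem_coe, Submodule.mem_span_singleton]
      exact ⟨d, hd.symm⟩
    rw [h.span] at hsp
    haveI := h.nonempty
    have h1 := Submodule.finrank_mono hsp
    rw [finrank_top, Module.finrank_matrix, Module.finrank_self, mul_one,
      finrank_span_singleton (one_ne_zero (α := Matrix ι ι F))] at h1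
    nlinarith
  obtain ⟨s, hs, hrs⟩ := h.exists_ac hr hr1
  obtain ⟨c, hc, hcr, er, -, -⟩ := h.normed_props hr
  obtain ⟨d, hd, hds, es, -, hac⟩ := h.normed_props hs
  exact ⟨c * r, hcr, d * s, hds, Ac.mul_left' (commute_scalar hc _) (hac r hrs), er, es⟩

/-- In dimension two an anticommuting pair determines everything. -/
theorem IsSymp.two_commute_scalar (h : IsSymp R) (h2c : Fintype.card ι = 2) {r s g : GL ι F} (hr : r ∈ R) (hs : s ∈ R)
    (hrs : Ac r s) (hgr : Commute g r) (hgs : Commute g s) : g ∈ scalars ι F := by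
  let bas : Fin 4 → GL ι F := ![1, r, s, r * s]
  have hbasR : ∀ i, bas i ∈ R := by
    intro i; fin_cases i
    exacts [one_mem R, hr, hs, mul_mem hr hs]
  have hns := h.not_ac_scalar hrs
  have hsym : ∀ {x y : GL ι F}, x⁻¹ * y ∉ scalars ι F → y⁻¹ * x ∉ scalars ι F := fun {x y} hxy e => hxy (by
    have := inv_mem e; rwa [_root_.mul_inv_rev, inv_inv] at this)
  have b01 : (1 : GL ι F)⁻¹ * r ∉ scalars ι F := by rw [inv_one, one_mul]; exact hns.1
  have b02 : (1 : GL ι F)⁻¹ * s ∉ scalars ι F := by rw [inv_one, one_mul]; exact hns.2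
  have b03 : (1 : GL ι F)⁻¹ * (r * s) ∉ scalars ι F := by
    rw [inv_one, one_mul]; exact (h.not_ac_scalar (Ac.mul_left hrs (Commute.refl s))).1
  have b13 : r⁻¹ * (r * s) ∉ scalars ι F := by rw [inv_mul_cancel_left]; exact hns.2
  have b12 : r⁻¹ * s ∉ scalars ι F := fun e => h.not_both (by
    rw [show s = r * (r⁻¹ * s) by group]; exact (Commute.refl r).mul_right (commute_scalar e r).symm) hrs
  have b23 : s⁻¹ * (r * s) ∉ scalars ι F := fun e => hns.1 (by
    have h1 := scalar_conj e s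
    rw [show s * (s⁻¹ * (r * s)) * s⁻¹ = r by group] at h1
    rw [h1]; exact e)
  have hd : ∀ p q, p ≠ q → (bas p)⁻¹ * bas q ∉ scalars ι F := fun p q hpq => by
    fin_cases p <;> fin_cases q <;> first
      | exact absurd rfl hpq
      | exact b01 | exact hsym b01 | exact b02 | exact hsym b02 | exact b03 | exact hsym b03
      | exact b12 | exact hsym b12 | exact b13 | exact hsym b13 | exact b23 | exact hsym b23
  have hli : LinearIndependent F fun i => (bas i : Matrix ι ι F) :=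
    Fintype.linearIndependent_iff.2 fun c hc i => h.coeff_eq_zero bas hbasR hd c hc i
  have hspan := hli.span_eq_top_of_card_eq_finrank (by
    rw [Module.finrank_matrix, Module.finrank_self, mul_one, h2c]; rfl)
  refine h.scalar_of_commute fun x _ => Units.ext ?_
  have hx : (x : Matrix ι ι F) ∈ Submodule.span F (Set.range fun i => (bas i : Matrix ι ι F)) :=
    hspan ▸ Submodule.mem_top
  show Commute (g : Matrix ι ι F) (x : Matrix ι ι F)
  refine Submodule.span_induction ?_ (Commute.zero_right _) (fun a b _ _ ha hb => ha.add_right hb)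
    (fun c a _ ha => ha.smul_right c) hx
  rintro _ ⟨i, rfl⟩
  refine (show Commute g (bas i) from ?_).map (Units.coeHom _)
  fin_cases i
  exacts [Commute.one_right g, hgr, hgs, hgr.mul_right hgs]

local notation "KK" => (Fin 2 ⊕ Fin 2)

variable {R M : Subgroup (GL KK F)}

/-- In dimension four the whole normaliser is generated by `R` and the elements `1 + x`. -/
theorem four_normalizer_le (h : IsSymp R) (ha : aM ∈ R) (hb : bM ∈ R) (hle : R ≤ M) (hT : h.HasTv M) :
    subgroupNormalizer R ≤ M := by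
  intro g hg
  have hab : Ac (aM : GL KK F) bM := Units.ext (by simp [aM_val, bM, fromBlocks_multiply, fromBlocks_neg])
  obtain ⟨m, hm, hma, hmb⟩ := h.fix_pair hle hT hg ha hb hab
  obtain ⟨y, z, e⟩ := exists_dg h.two hma
  rw [e] at hmb
  have e' := congrArg (fun g : GL KK F => (g : Matrix KK KK F).toBlocks₁₂) hmb.eq
  simp [bM, dg_val, fromBlocks_multiply] at e'
  obtain rfl : y = z := Units.ext e'
  have hyN : di y ∈ subgroupNormalizer R := by rw [di_apply, ← e]; exact mul_mem hm.2 hg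
  have hy : y ∈ subgroupNormalizer (half R) := Subgroup.mem_normalizer_iff.2 fun x => by
    show di x ∈ R ↔ di (y * x * y⁻¹) ∈ R
    rw [map_mul, map_mul, map_inv]
    exact Subgroup.mem_normalizer_iff.1 hyN (di x)
  have h' := h.half ha hb
  obtain ⟨r, hr, s, hs, hrs, -, -⟩ := h'.exists_pair (by simp)
  obtain ⟨m₂, hm₂, e1, e2⟩ := h'.fix_pair (M := M.comap di) (fun x hx => hle hx)
    (fun x hx hxx => by
      have hx' : di x * di x = -1 := by rw [← map_mul, hxx, di_neg, map_one]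
      show di (tv _ x hxx) ∈ M
      rw [di_tv _ hxx hx']
      exact hT _ hx hx') hy hr hs hrs
  have hsc := h'.two_commute_scalar (by simp) hr hs hrs e1 e2
  have hyM : di y ∈ M := by
    have := mul_mem (inv_mem (Subgroup.mem_inf.1 hm₂).1) (show m₂ * y ∈ M.comap di from hle (h.scal (di_scalar hsc)))
    rwa [inv_mul_cancel_left] at this
  rw [di_apply, ← e] at hyM
  have := mul_mem (inv_mem (Subgroup.mem_inf.1 hm).1) hyM
  rwa [inv_mul_cancel_left] at this

/-- The index exchange. -/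
def idx : KK ≃ KK where
  toFun := Sum.elim ![Sum.inl 0, Sum.inr 0] ![Sum.inl 1, Sum.inr 1]
  invFun := Sum.elim ![Sum.inl 0, Sum.inr 0] ![Sum.inl 1, Sum.inr 1]
  left_inv := by rintro (i | i) <;> fin_cases i <;> rfl
  right_inv := by rintro (i | i) <;> fin_cases i <;> rfl

/-- The coordinates in which the halves are symplectic planes. -/
noncomputable def sigL : (KK → F) ≃ₗ[F] (KK → F) := LinearEquiv.funCongrLeft F F idx

theorem sig_val (g : GL KK F) : ((coordGL sigL g : GL KK F) : Matrix KK KK F) =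
    (g : Matrix KK KK F).submatrix idx idx := by
  refine Matrix.toLin'.injective (LinearMap.ext fun x => funext fun p => ?_)
  rw [Matrix.toLin'_apply, Matrix.toLin'_apply, coordGL_val, coordAlg_mulVec]
  show ((g : Matrix KK KK F) *ᵥ fun q => x (idx q)) (idx p) = _
  simp only [mulVec, dotProduct, submatrix_apply, Equiv.symm_symm]
  rw [← Equiv.sum_comp idx (fun q => (g : Matrix KK KK F) (idx p) q * x (idx q))]
  refine Finset.sum_congr rfl fun q _ => ?_
  congr 2
  rcases q with i | i <;> fin_cases i <;> rfl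

theorem sig_sp {g : GL KK F} (hg : ((g : Matrix KK KK F).submatrix idx idx)ᵀ * Matrix.J (Fin 2) F *
    (g : Matrix KK KK F).submatrix idx idx = Matrix.J (Fin 2) F) : coordGL sigL g ∈ Cfsg.spGL 2 F :=
  KleinSp.of_mem_sp (by rw [sig_val]; exact hg)

theorem sig_dg {y z : GL (Fin 2) F} (hy : (y : Matrix (Fin 2) (Fin 2) F).det = 1)
    (hz : (z : Matrix (Fin 2) (Fin 2) F).det = 1) : coordGL sigL (dg (y, z)) ∈ Cfsg.spGL 2 F := by
  rw [det_fin_two] at hy hz
  refine sig_sp ?_
  rw [dg_val]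
  ext (a | a) (b | b) <;> fin_cases a <;> fin_cases b <;>
    simp [Matrix.mul_apply, Fintype.sum_sum_type, Fin.sum_univ_two, Matrix.J, idx] <;>
    first
      | ring1
      | linear_combination hy
      | linear_combination -hy
      | linear_combination hz
      | linear_combination -hz

theorem sig_bM : coordGL sigL (bM : GL KK F) ∈ Cfsg.spGL 2 F := by
  refine sig_sp ?_
  show ((fromBlocks 0 1 1 0 : Matrix KK KK F).submatrix idx idx)ᵀ * _ * _ = _
  ext (a | a) (b | b) <;> fin_cases a <;> fin_cases b <;>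
    simp [bM, Matrix.mul_apply, Fintype.sum_sum_type, Fin.sum_univ_two, Matrix.J, idx]

theorem det_tv_two {R' : Subgroup (GL (Fin 2) F)} (h : IsSymp R') {r : GL (Fin 2) F} (hr : r ∈ R')
    (hrr : r * r = -1) (hns : r ∉ scalars (Fin 2) F) :
    (r : Matrix (Fin 2) (Fin 2) F).det = 1 ∧
      ((tv h.two r hrr : GL (Fin 2) F) : Matrix (Fin 2) (Fin 2) F).det = 2 := by
  have htr := h.trace_zero hr hns
  rw [trace_fin_two] at htr
  have e := congrArg (fun g : GL (Fin 2) F => (g : Matrix (Fin 2) (Fin 2) F) 0 0) hrr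
  simp [Matrix.mul_apply, Fin.sum_univ_two] at e
  have hdet : (r : Matrix (Fin 2) (Fin 2) F).det = 1 := by
    rw [det_fin_two]
    linear_combination -e + (r : Matrix (Fin 2) (Fin 2) F) 0 0 * htr
  refine ⟨hdet, ?_⟩
  show (1 + (r : Matrix (Fin 2) (Fin 2) F)).det = 2
  rw [det_fin_two] at hdet ⊢
  simp
  linear_combination hdet + htr

/-- A split element forces the special linear group. -/
theorem four_split [Fintype F] (hp : (Fintype.card F).Prime) (h : IsSymp R) (ha : aM ∈ R) (hb : bM ∈ R) (hle : R ≤ M)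
    (hT : h.HasTv M) {r s : GL (Fin 2) F} (hr : r ∈ half R) (hs : s ∈ half R) (hrr : r * r = -1) (hss : s * s = -1)
    (hrs : Ac r s) (hk : dg (1, (tv h.two r hrr)⁻¹ * tv h.two s hss) ∈ M) : specialLinear KK F ≤ M := by
  classical
  have h2 := h.two
  have hodd : Odd (Fintype.card F) := hp.odd_of_ne_two fun e => h2 (by
    haveI : Fact (Nat.Prime 2) := ⟨Nat.prime_two⟩
    haveI : CharP F 2 := charP_of_card_eq_prime e
    exact_mod_cast CharP.cast_eq_zero F 2)
  have h' := h.half ha hb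
  obtain ⟨hr1, hs1⟩ := h'.not_ac_scalar hrs
  obtain ⟨dr, dTr⟩ := det_tv_two h' hr hrr hr1
  obtain ⟨ds, dTs⟩ := det_tv_two h' hs hss hs1
  set Q := (tv h.two r hrr)⁻¹ * tv h.two s hss with hQ
  have dQ : (Q : Matrix (Fin 2) (Fin 2) F).det = 1 := by
    have e : (tv h.two r hrr) * Q = tv h.two s hss := by rw [hQ, mul_inv_cancel_left]
    have e' := congrArg (fun g : GL (Fin 2) F => (g : Matrix (Fin 2) (Fin 2) F).det) e
    simp only [Units.val_mul, det_mul] at e'
    rw [dTr, dTs] at e'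
    exact (mul_eq_left₀ h2).1 e'
  have hab : Ac (aM : GL KK F) bM := Units.ext (by simp [aM_val, bM, fromBlocks_multiply, fromBlocks_neg])
  have hdib : ∀ x : GL (Fin 2) F, di x * bM = bM * di x := fun x => by rw [di_apply, bM_dg]
  have hdia : ∀ x : GL (Fin 2) F, di x * aM = aM * di x := fun x => by
    rw [di_apply, aM, ← map_mul, ← map_mul]; congr 1; simp
  set R₀ : Subgroup (GL KK F) := Subgroup.closure {di r, di s, aM, bM} with hR₀
  have hR₀R : R₀ ≤ R := (Subgroup.closure_le _).2 (by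
    rintro x (rfl | rfl | rfl | rfl)
    exacts [hr, hs, ha, hb])
  have hm : ∀ {x : GL KK F}, x ∈ ({di r, di s, aM, bM} : Set (GL KK F)) → x ∈ R₀ := fun hx => Subgroup.subset_closure hx
  set Sg := (coordGL (sigL (F := F))).toMonoidHom with hSg
  set R₁ := R₀.map Sg with hR₁
  have hR₁S : R₁ ≤ Cfsg.spGL 2 F := by
    rw [hR₁, hR₀, MonoidHom.map_closure, Subgroup.closure_le]
    rintro _ ⟨x, (rfl | rfl | rfl | rfl), rfl⟩
    exacts [sig_dg dr dr, sig_dg ds ds, sig_dg (by simp) (by simp [Matrix.det_neg]), sig_bM]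
  let f : Pauli.Frame R₁ :=
    { a₁ := Sg (di r), b₁ := Sg (di s), a₂ := Sg aM, b₂ := Sg bM
      a₁R := ⟨_, hm (by simp), rfl⟩, b₁R := ⟨_, hm (by simp), rfl⟩
      a₂R := ⟨_, hm (by simp), rfl⟩, b₂R := ⟨_, hm (by simp), rfl⟩
      a₁s := by rw [← map_mul, ← map_mul, hrr, di_neg, map_one]; exact coordGL_neg_one _
      b₁s := by rw [← map_mul, ← map_mul, hss, di_neg, map_one]; exact coordGL_neg_one _
      a₂s := by
        rw [← map_mul, aM, ← map_mul, show ((1 : GL (Fin 2) F), (-1 : GL (Fin 2) F)) * (1, -1) = 1 by simp, map_one,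
          map_one]
      b₂s := by rw [← map_mul, bM_sq, map_one]
      ab₁ := by
        rw [← map_mul, ← map_mul, ← map_mul, ← map_mul, show r * s = -(s * r) from hrs, di_neg]
        exact coordGL_neg _ _
      ab₂ := by rw [← map_mul, ← map_mul, show (aM : GL KK F) * bM = -(bM * aM) from hab]; exact coordGL_neg _ _
      aa := by rw [← map_mul, ← map_mul, hdia]
      ab := by rw [← map_mul, ← map_mul, hdib]
      ba := by rw [← map_mul, ← map_mul, hdia]
      bb := by rw [← map_mul, ← map_mul, hdib] }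
  have hsign : ∀ a ∈ R₁, ∀ b ∈ R₁, a * b = b * a ∨ a * b = -(b * a) := by
    rintro _ ⟨x, hx, rfl⟩ _ ⟨y, hy, rfl⟩
    exact (h.sign x (hR₀R hx) y (hR₀R hy)).imp (fun e => (e.map Sg).eq) (coord_ac _)
  obtain ⟨-, hmax⟩ := KleinSp.isMaximalIn_of_frame hp hodd hR₁S f hsign
  -- the symplectic half determines `R`
  have hcov : ∀ x ∈ R, ∃ c ∈ scalars KK F, ∃ x₀ ∈ R₀, x = c * x₀ := by
    intro x hx
    obtain ⟨q, hq, hqa⟩ : ∃ q ∈ R₀, Commute (x * q) aM := by
      rcases h.sign x hx aM ha with e | e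
      · exact ⟨1, one_mem _, by rwa [mul_one]⟩
      · exact ⟨bM, hm (by simp), (commute_of_ac_ac e.symm hab).symm⟩
    obtain ⟨q', hq', hqa', hqb'⟩ : ∃ q' ∈ R₀, Commute (x * q') aM ∧ Commute (x * q') bM := by
      rcases h.sign (x * q) (mul_mem hx (hR₀R hq)) bM hb with e | e
      · exact ⟨q, hq, hqa, e⟩
      · refine ⟨q * aM, mul_mem hq (hm (by simp)), ?_, ?_⟩ <;> rw [← mul_assoc]
        exacts [hqa.mul_left (Commute.refl _), (commute_of_ac_ac e.symm hab.symm).symm]
    obtain ⟨y, z, e⟩ := exists_dg h.two hqa'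
    have e' := congrArg (fun g : GL KK F => (g : Matrix KK KK F).toBlocks₁₂) (e ▸ hqb').eq
    simp [bM, dg_val, fromBlocks_multiply] at e'
    obtain rfl : y = z := Units.ext e'
    have hy : y ∈ half R := by rw [mem_half, ← e]; exact mul_mem hx (hR₀R hq')
    obtain ⟨u, hu, hur⟩ : ∃ u ∈ R₀.comap di ⊓ half R, Commute (y * u) r := by
      rcases h'.sign y hy r hr with e1 | e1
      · exact ⟨1, one_mem _, by rwa [mul_one]⟩
      · exact ⟨s, ⟨hm (by simp), hs⟩, (commute_of_ac_ac e1.symm hrs).symm⟩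
    obtain ⟨u', hu', hur', hus'⟩ : ∃ u' ∈ R₀.comap di ⊓ half R, Commute (y * u') r ∧ Commute (y * u') s := by
      rcases h'.sign (y * u) (mul_mem hy hu.2) s hs with e1 | e1
      · exact ⟨u, hu, hur, e1⟩
      · refine ⟨u * r, mul_mem hu ⟨hm (by simp), hr⟩, ?_, ?_⟩ <;> rw [← mul_assoc]
        exacts [hur.mul_left (Commute.refl r), (commute_of_ac_ac e1.symm hrs.symm).symm]
    have hsc := h'.two_commute_scalar (by simp) hr hs hrs hur' hus'
    refine ⟨di (y * u'), di_scalar hsc, (di u')⁻¹ * q'⁻¹, mul_mem (inv_mem hu'.1) (inv_mem hq'), ?_⟩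
    rw [map_mul, mul_assoc (di y), ← mul_assoc (di u'), mul_inv_cancel, one_mul, di_apply, ← e, mul_inv_cancel_right]
  set K := M.map Sg ⊓ Cfsg.spGL 2 F with hK
  have hNK : subgroupNormalizer R₁ ⊓ Cfsg.spGL 2 F ≤ K := by
    rintro g ⟨hg, hgS⟩
    refine ⟨?_, hgS⟩
    obtain ⟨g₀, rfl⟩ := (coordGL (sigL (F := F))).surjective g
    refine ⟨g₀, four_normalizer_le h ha hb hle hT ?_, rfl⟩
    have one : ∀ g₀ : GL KK F, Sg g₀ ∈ subgroupNormalizer R₁ → ∀ x ∈ R, g₀ * x * g₀⁻¹ ∈ R := by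
      intro g₀ hg x hx
      obtain ⟨c, hc, x₀, hx₀, rfl⟩ := hcov x hx
      obtain ⟨y, hy, ey⟩ := (Subgroup.mem_normalizer_iff.1 hg (Sg x₀)).1 ⟨x₀, hx₀, rfl⟩
      rw [← map_inv, ← map_mul, ← map_mul] at ey
      rw [show g₀ * (c * x₀) * g₀⁻¹ = g₀ * c * g₀⁻¹ * (g₀ * x₀ * g₀⁻¹) by group, scalar_conj hc,
        ← (coordGL (sigL (F := F))).injective ey]
      exact mul_mem (h.scal hc) (hR₀R hy)
    refine Subgroup.mem_normalizer_iff.2 fun x => ⟨one g₀ hg x, fun hx => ?_⟩
    have := one g₀⁻¹ (by rw [map_inv]; exact inv_mem hg) _ hx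
    rwa [show g₀⁻¹ * (g₀ * x * g₀⁻¹) * g₀⁻¹⁻¹ = x by group] at this
  rcases hmax K hNK inf_le_right with e | e
  · exfalso
    have hkN := (e.le ⟨⟨_, hk, rfl⟩, sig_dg (by simp) dQ⟩).1
    obtain ⟨w₀, hw₀, ew⟩ := (Subgroup.mem_normalizer_iff.1 hkN (Sg (di r))).1 ⟨_, hm (by simp), rfl⟩
    rw [← map_inv, ← map_mul, ← map_mul] at ew
    have hw : dg (r, Q * r * Q⁻¹) ∈ R := by
      rw [show dg (r, Q * r * Q⁻¹) = dg (1, Q) * di r * (dg (1, Q))⁻¹ by
        rw [di_apply, dg_inv, ← map_mul, ← map_mul]; congr 1; simp, ← (coordGL (sigL (F := F))).injective ew]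
      exact hR₀R hw₀
    have hc : Commute (dg (r, Q * r * Q⁻¹)) (aM : GL KK F) := by
      show dg _ * aM = aM * dg _
      rw [aM, ← map_mul, ← map_mul]; congr 1; simp
    obtain ⟨r', hr', e1⟩ := h.exists_half ha hb hw hc
    have e2 : Q * r * Q⁻¹ = r ∨ Q * r * Q⁻¹ = -r := by
      rcases e1 with e1 | e1 <;>
        obtain ⟨e3, e4⟩ : r = r' ∧ Q * r * Q⁻¹ = _ := Prod.ext_iff.1 (dg_injective e1) <;> subst e3
      exacts [Or.inl e4, Or.inr e4]
    have hc1 : Commute (tv h.two r hrr) r := tv_commute h.two hrr (Commute.refl r)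
    have e5 : tv h.two s hss * r * (tv h.two s hss)⁻¹ = tv h.two r hrr * (Q * r * Q⁻¹) * (tv h.two r hrr)⁻¹ := by
      rw [hQ]; group
    rw [tv_ac h.two hss hrs] at e5
    have hsσ : r * s = r * -1 ∨ r * s = r * 1 := by
      rcases e2 with e2 | e2 <;> rw [e2] at e5
      · left; rw [mul_neg_one, ← neg_eq_iff_eq_neg, e5, hc1.eq, mul_inv_cancel_right]
      · right; rw [mul_one, ← neg_inj, e5, mul_neg, neg_mul, hc1.eq, mul_inv_cancel_right]
    rcases hsσ with e6 | e6 <;> rw [mul_left_cancel e6] at hs1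
    exacts [hs1 (neg_mem_scalars (one_mem _)), hs1 (one_mem _)]
  · obtain ⟨i, hi⟩ := h.root
    have hK2 : ∀ y ∈ specialLinear (Fin 2) F, dg (y, 1) ∈ M := fun y hy => by
      obtain ⟨m, hm, em⟩ := (e.ge (sig_dg (y := y) (z := 1) (congrArg Units.val (MonoidHom.mem_ker.1 hy)) (by simp))).1
      rwa [← (coordGL (sigL (F := F))).injective em]
    have hi0 : i ≠ 0 := by rintro rfl; simp at hi
    have hj1 : jx (κ := Fin 2) (1 : F) (-1) (one_mul _) = aM * bM := Units.ext (by
      show fromBlocks 0 _ _ 0 = ((aM : GL KK F) : Matrix KK KK F) * fromBlocks 0 1 1 0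
      rw [aM_val, fromBlocks_multiply]; simp)
    have hj2 : jx (κ := Fin 2) i i hi = sc i hi0 * bM := Units.ext (by
      show fromBlocks 0 _ _ 0 = i • (1 : Matrix KK KK F) * fromBlocks 0 1 1 0
      rw [smul_mul_assoc, one_mul, fromBlocks_smul, smul_zero])
    exact specialLinear_le_of_block h.two hi le_rfl (hle hb)
      (hT _ (hj1 ▸ mul_mem ha hb) _) (hT _ (hj2 ▸ mul_mem (h.scal (sc_mem _ _)) hb) _) hK2
where
  dg_injective {p q : GL (Fin 2) F × GL (Fin 2) F} (e : dg p = dg q) : p = q := by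
    have e' := congrArg (fun g : GL KK F => (g : Matrix KK KK F)) e
    rw [show p = (p.1, p.2) from rfl, show q = (q.1, q.2) from rfl] at e'
    simp only [dg_val, fromBlocks_inj] at e'
    exact Prod.ext (Units.ext e'.1) (Units.ext e'.2.2.2)

end CfsgLib.Geo.SympNorm
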