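import Cfsg.Agent.Lib.Geo.SympNorm.Two
import Cfsg.Agent.Lib.Geo.SympNorm.Four

/-!
# Over a prime field: normaliser or special linear group
-/

set_option autoImplicit false

namespace CfsgLib.Geo.SympNorm

open Matrix Cfsg.Geo

variable {ι κ : Type} [Fintype ι] [DecidableEq ι] [Fintype κ] [DecidableEq κ] {F : Type*} [Field F]

theorem tv_dg (h2 : (2 : F) ≠ 0) {r s : GL κ F} (hr : r * r = -1) (hs : s * s = -1)
    (h : (dg (r, s) : GL (κ ⊕ κ) F) * dg (r, s) = -1) :
    tv h2 (dg (r, s)) h = dg (tv h2 r hr, tv h2 s hs) := Units.ext (by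
  show 1 + fromBlocks (r : Matrix κ κ F) 0 0 (s : Matrix κ κ F) =
    fromBlocks (1 + (r : Matrix κ κ F)) 0 0 (1 + (s : Matrix κ κ F))
  rw [← fromBlocks_one, fromBlocks_add, add_zero])

theorem dg_inj {p q : GL κ F × GL κ F} (e : (dg p : GL (κ ⊕ κ) F) = dg q) : p = q := by
  have e' := congrArg (fun g : GL (κ ⊕ κ) F => (g : Matrix (κ ⊕ κ) (κ ⊕ κ) F)) e
  rw [show p = (p.1, p.2) from rfl, show q = (q.1, q.2) from rfl] at e'
  simp only [dg_val, fromBlocks_inj] at e'
  exact Prod.ext (Units.ext e'.1) (Units.ext e'.2.2.2)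

variable [Fintype F] {R M : Subgroup (GL ι F)}

/-- The case of dimension four. -/
theorem linear_four (hp : (Fintype.card F).Prime) (h : IsSymp R) (h4 : Fintype.card ι = 4) (hle : R ≤ M)
    (hT : h.HasTv M) : M ≤ subgroupNormalizer R ∨ specialLinear ι F ≤ M := by
  classical
  have hF : 4 ≤ Fintype.card F := by
    obtain ⟨i, hi⟩ := h.root
    by_contra hlt
    rcases (show Fintype.card F = 2 ∨ Fintype.card F = 3 by have := hp.two_le; omega) with e | e <;>
      haveI : Fact (Fintype.card F).Prime := ⟨hp⟩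
    · haveI : CharP F 2 := charP_of_card_eq_prime e
      exact h.two (by exact_mod_cast CharP.cast_eq_zero F 2)
    · have hq := FiniteField.pow_card i
      rw [e, pow_succ, pow_two, hi, neg_one_mul] at hq
      have hi0 : i ≠ 0 := by rintro rfl; simp at hi
      have : (2 : F) * i = 0 := by linear_combination -hq
      exact (mul_eq_zero.1 this).elim h.two hi0
  rcases projNorm_or_specialLinear h (by omega) hle hT hF (fun k hk R' M' h' hle' hT' => by
    obtain rfl : k = 2 := by omega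
    exact two_dichotomy hp h' hle' hT') with hN | hS
  swap
  · exact Or.inr hS
  by_cases hNS : NoSplit h.two R M
  · exact Or.inl (le_normalizer_of_proj h (by omega) hle hT hN hNS)
  right
  rw [NoSplit] at hNS
  push Not at hNS
  obtain ⟨a, ha, haa, ha1, x₁, hx₁, x₂, hx₂, h₁, h₂, h1a, h2a, h12, g, hg, hgP, hgQ⟩ := hNS
  obtain ⟨b, hb, hbb, hab⟩ := h.exists_partner ha ha1
  obtain ⟨k, L, hk, ea, eb⟩ := exists_coord h.two haa hbb hab
  obtain rfl : k = 2 := by omega
  set R₁ := R.map (coordGL L).toMonoidHom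
  set M₁ := M.map (coordGL L).toMonoidHom
  have hh : IsSymp R₁ := h.map L
  have ha₁ : aM ∈ R₁ := ⟨a, ha, ea⟩
  have hb₁ : bM ∈ R₁ := ⟨b, hb, eb⟩
  obtain ⟨r₁, hr₁, e₁⟩ := hh.exists_half ha₁ hb₁ (x := coordGL L x₁) ⟨x₁, hx₁, rfl⟩ (ea ▸ h1a.map (coordGL L))
  obtain ⟨r₂, hr₂, e₂⟩ := hh.exists_half ha₁ hb₁ (x := coordGL L x₂) ⟨x₂, hx₂, rfl⟩ (ea ▸ h2a.map (coordGL L))
  obtain ⟨r, r', hr, hr', ex₁⟩ : ∃ r r', r ∈ half R₁ ∧ r' ∈ half R₁ ∧ coordGL L x₁ = dg (r', r) := by
    rcases e₁ with e | e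
    exacts [⟨r₁, r₁, hr₁, hr₁, e⟩, ⟨-r₁, r₁, (hh.half ha₁ hb₁).neg_mem hr₁, hr₁, e⟩]
  obtain ⟨s, s', hs, hs', ex₂⟩ : ∃ s s', s ∈ half R₁ ∧ s' ∈ half R₁ ∧ coordGL L x₂ = dg (s', s) := by
    rcases e₂ with e | e
    exacts [⟨r₂, r₂, hr₂, hr₂, e⟩, ⟨-r₂, r₂, (hh.half ha₁ hb₁).neg_mem hr₂, hr₂, e⟩]
  have hsq : ∀ {x : GL ι F} {p q : GL (Fin 2) F}, x * x = -1 → coordGL L x = dg (p, q) →
      (p * p = -1 ∧ q * q = -1) ∧ (dg (p, q) : GL (Fin 2 ⊕ Fin 2) F) * dg (p, q) = -1 := by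
    intro x p q hx e
    have e' : (dg (p, q) : GL (Fin 2 ⊕ Fin 2) F) * dg (p, q) = -1 := by rw [← e, ← map_mul, hx, coordGL_neg_one]
    have e2 : dg (p * p, q * q) = (dg ((-1 : GL (Fin 2) F), (-1 : GL (Fin 2) F)) : GL (Fin 2 ⊕ Fin 2) F) := by
      rw [← di_apply, di_neg, map_one, ← e', ← map_mul]
      rfl
    exact ⟨⟨(Prod.ext_iff.1 (dg_inj e2)).1, (Prod.ext_iff.1 (dg_inj e2)).2⟩, e'⟩
  obtain ⟨⟨hr'2, hr2⟩, hx1⟩ := hsq h₁ ex₁
  obtain ⟨⟨hs'2, hs2⟩, hx2⟩ := hsq h₂ ex₂
  have hrs : Ac r s := by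
    have e0 : Ac (dg (r', r) : GL (Fin 2 ⊕ Fin 2) F) (dg (s', s)) := by rw [← ex₁, ← ex₂]; exact coord_ac L h12
    have e := congrArg (fun g : GL (Fin 2 ⊕ Fin 2) F => (g : Matrix (Fin 2 ⊕ Fin 2) (Fin 2 ⊕ Fin 2) F).toBlocks₂₂) e0
    simp [dg_val, fromBlocks_multiply, fromBlocks_neg] at e
    exact Units.ext (by simpa using e)
  refine specialLinear_le_of_map L (four_split hp hh ha₁ hb₁ (Subgroup.map_mono hle) (hasTv_map h L hT) hr hs hr2 hs2 hrs
    ⟨g, hg, Units.ext (ext_proj h.two aM ?_ ?_)⟩)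
  · have e := congrArg (coordAlg L) hgP
    rw [map_mul, proj, map_add, map_one, ← coordGL_val, ← coordGL_val, ea] at e
    refine e.trans ?_
    rw [proj, dg_val, aM_val, ← fromBlocks_one, fromBlocks_add, fromBlocks_multiply]
    simp
  · have e := congrArg (coordAlg L) hgQ
    rw [map_mul, map_mul, proj, map_add, map_one, ← coordGL_val, ← coordGL_val, ← coordGL_val, coordGL_neg, ea,
      map_mul, map_inv, coord_tv L h.two h₁ (ex₁ ▸ hx1), coord_tv L h.two h₂ (ex₂ ▸ hx2),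
      tv_congr h.two _ hx1 ex₁, tv_congr h.two _ hx2 ex₂, tv_dg h.two hr'2 hr2, tv_dg h.two hs'2 hs2, dg_inv,
      ← map_mul] at e
    refine e.trans ?_
    rw [proj, Units.val_neg, Prod.mk_mul_mk, dg_val, dg_val, aM_val, ← fromBlocks_one, fromBlocks_neg, fromBlocks_add,
      fromBlocks_multiply, fromBlocks_multiply]
    simp

omit [Fintype F] in
/-- Transport along new coordinates. -/
theorem le_normalizer_of_map (L : (κ → F) ≃ₗ[F] (ι → F))
    (h : M.map (coordGL L).toMonoidHom ≤ subgroupNormalizer (R.map (coordGL L).toMonoidHom)) :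
    M ≤ subgroupNormalizer R := by
  intro g hg
  have hg' := h ⟨g, hg, rfl⟩
  have key : ∀ x, coordGL L x ∈ R.map (coordGL L).toMonoidHom ↔ x ∈ R := fun x =>
    ⟨fun ⟨y, hy, e⟩ => (coordGL L).injective e ▸ hy, fun hx => ⟨x, hx, rfl⟩⟩
  refine Subgroup.mem_normalizer_iff.2 fun x => ?_
  rw [← key, ← key (g * x * g⁻¹), map_mul, map_mul, map_inv]
  exact Subgroup.mem_normalizer_iff.1 hg' _

/-- Over a prime field an overgroup normalises `R` or contains the special linear group. -/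
theorem linear_dichotomy (hp : (Fintype.card F).Prime) :
    ∀ {m n : ℕ}, 1 ≤ m → n = 2 ^ m → ∀ {R M : Subgroup (GL (Fin n) F)} (h : IsSymp R), R ≤ M → h.HasTv M →
      M ≤ subgroupNormalizer R ∨ specialLinear (Fin n) F ≤ M := by
  intro m
  induction m with
  | zero => intro n hm; omega
  | succ m ih =>
    intro n _ hn R M h hle hT
    rcases Nat.lt_or_ge m 2 with hm2 | hm2
    · rcases (show m = 0 ∨ m = 1 by omega) with rfl | rfl
      · obtain rfl : n = 2 := by simpa using hn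
        exact two_dichotomy hp h hle hT
      · exact linear_four hp h (by rw [Fintype.card_fin]; simpa using hn) hle hT
    have hn8 : 8 ≤ n := by
      rw [hn]
      calc 8 = 2 ^ 3 := rfl
        _ ≤ _ := Nat.pow_le_pow_right two_pos (by omega)
    have hF : 4 ≤ Fintype.card F := by
      by_contra hlt
      obtain ⟨i, hi⟩ := h.root
      rcases (show Fintype.card F = 2 ∨ Fintype.card F = 3 by have := hp.two_le; omega) with e | e <;>
        haveI : Fact (Fintype.card F).Prime := ⟨hp⟩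
      · haveI : CharP F 2 := charP_of_card_eq_prime e
        exact h.two (by exact_mod_cast CharP.cast_eq_zero F 2)
      · have hq := FiniteField.pow_card i
        rw [e, pow_succ, pow_two, hi, neg_one_mul] at hq
        have hi0 : i ≠ 0 := by rintro rfl; simp at hi
        have : (2 : F) * i = 0 := by linear_combination -hq
        exact (mul_eq_zero.1 this).elim h.two hi0
    have hc : Fintype.card (Fin n) = n := Fintype.card_fin n
    rcases projNorm_or_specialLinear h (by omega) hle hT hF (fun k hk R' M' h' hle' hT' =>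
      ih (by omega) (by rw [hc, hn, pow_succ] at hk; omega) h' hle' hT') with hN | hS
    · exact Or.inl (le_normalizer_of_proj h (by omega) hle hT hN (noSplit_of_big h hN (by omega)))
    · exact Or.inr hS

end CfsgLib.Geo.SympNorm
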