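import Cfsg.Agent.Lib.Geo.SympNorm.UnitFour
import Cfsg.Agent.Lib.Geo.SympNorm.Linear

/-!
# Unitary case: normaliser or special unitary group
-/

set_option autoImplicit false
set_option linter.unusedSectionVars false

namespace CfsgLib.Geo.SympNorm

open Matrix Cfsg.Geo
open CfsgLib.Classical.Herm (IsInvol IsHerm fixedSub mem_fixedSub)
open CfsgLib.Geo.UnitWreath (IsGram ip phi adj sqr Sim IsIso bil)

variable {F : Type*} [Field F] [Fintype F] {σ : F →+* F}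
variable {ι : Type} [Fintype ι] [DecidableEq ι] {Γ : Matrix ι ι F} {R M : Subgroup (GL ι F)}

theorem UCtx.iso_invol (hσ : Fld σ) (U : UCtx σ Γ R M) (h : IsSymp R) {g : GL ι F} (hg : g ∈ R) (hgg : g * g = 1) :
    IsIso σ Γ (g : Matrix ι ι F) := by
  obtain ⟨i, hi⟩ := h.root
  have hi0 : i ≠ 0 := by rintro rfl; simp at hi
  have hsg : sc i hi0 * g * (sc i hi0 * g) = -1 := by
    rw [show sc i hi0 * g * (sc i hi0 * g) = sc i hi0 * (g * sc i hi0) * g by group,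
      ← (commute_scalar (sc_mem i hi0) g).eq, ← mul_assoc, mul_assoc (sc i hi0 * sc i hi0), hgg, mul_one]
    exact Units.ext (by simp [sc, smul_smul, hi])
  have h1 := U.iso _ (mul_mem (h.scal (sc_mem i hi0)) hg) hsg
  rw [Units.val_mul, show ((sc i hi0 : GL ι F) : Matrix ι ι F) = i • 1 from rfl, smul_mul_assoc, one_mul,
    IsIso, UnitWreath.adj_smul, smul_mul_smul_comm, hσ.root_skew hi, neg_mul, hi, neg_neg, one_smul] at h1
  exact h1

/-- Dichotomy for a projection. -/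
theorem projNorm_or_big (hσ : Fld σ) (U : UCtx σ Γ R M) (h : IsSymp R) (hbig : 3 ≤ Fintype.card ι) (hle : R ≤ M)
    (hT : h.HasTv M)
    (ih : ∀ k, k + k = Fintype.card ι → ∀ (G₀ : Matrix (Fin k) (Fin k) F) (R' M' : Subgroup (GL (Fin k) F))
      (h' : IsSymp R') (_ : UCtx σ G₀ R' M'), R' ≤ M' → h'.HasTv M' →
      M' ≤ subgroupNormalizer R' ∨ ((k = 2 → Nat.card (fixedSub σ) ≠ 3) ∧ Big σ G₀ M')) :
    ProjNorm R M ∨ Big σ Γ M := by
  refine (Classical.em (Big σ Γ M)).symm.imp (fun hS => ?_) id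
  intro a ha haa ha1 g hg hga x hx hxa
  obtain ⟨b, hb, hbb, hab⟩ := h.exists_partner ha ha1
  obtain ⟨k, L, hk, ea, eb⟩ := exists_coord h.two haa hbb hab
  obtain ⟨Γ₁, U₁, hback⟩ := U.exists_map L
  set R₁ := R.map (coordGL L).toMonoidHom
  set M₁ := M.map (coordGL L).toMonoidHom
  have h₁ : IsSymp R₁ := h.map L
  have ha₁ : aM ∈ R₁ := ⟨a, ha, ea⟩
  have hb₁ : bM ∈ R₁ := ⟨b, hb, eb⟩
  have hle₁ : R₁ ≤ M₁ := Subgroup.map_mono hle
  have hT₁ : h₁.HasTv M₁ := hasTv_map h L hT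
  have haa' : (aM : GL (Fin k ⊕ Fin k) F) * aM = 1 := by
    rw [← ea, ← map_mul, haa, map_one]
  obtain ⟨G₀, hG, rfl⟩ := gram_block h.two U₁.gram (U₁.iso_invol hσ h₁ ha₁ haa') (U₁.iso_invol hσ h₁ hb₁ bM_sq)
  have h' := h₁.half ha₁ hb₁
  have U' : UCtx σ G₀ (half R₁) (projM M₁) := ⟨hG, fun y hy => by
      obtain ⟨z, hz⟩ := mem_projM.1 hy
      exact sim_half hG (U₁.sim _ hz), fun r hr hrr => iso_half hG (z := r) (U₁.iso _ hr (by
        show dg (r, r) * dg (r, r) = -1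
        rw [← di_apply, ← map_mul, hrr, di_neg, map_one]))⟩
  rcases ih k hk.symm G₀ (half R₁) (projM M₁) h' U' (half_le_projM hle₁) (hasTv_proj h₁ ha₁ hb₁ hT₁) with
    hN | ⟨hp3, hY⟩
  · obtain ⟨x₁', ⟨x₁, hx₁, rfl⟩, hx₁a, e⟩ := projNorm_at h₁.toIsPre ha₁ hb₁ hN (g := coordGL L g) ⟨g, hg, rfl⟩
      (ea ▸ hga.map (coordGL L)) (x := coordGL L x) ⟨x, hx, rfl⟩ (ea ▸ hxa.map (coordGL L))
    refine ⟨x₁, hx₁, ?_, (coordAlg L).injective ?_⟩
    · exact Commute.of_map (coordGL L).injective (by rw [ea]; exact hx₁a)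
    · have hp : coordAlg L (proj a) = proj aM := by rw [proj, map_add, map_one, ← coordGL_val, ea]; rfl
      rw [map_mul, map_mul, hp, ← coordGL_val, ← coordGL_val, map_mul, map_mul, map_inv]
      exact e
  · exfalso
    refine hS (hback ?_)
    obtain ⟨i, hi⟩ := h.root
    have hk2 : 2 ≤ k := by omega
    obtain ⟨r, hr, hr1, hrr⟩ : ∃ r ∈ half R₁, r ∉ scalars (Fin k) F ∧ r * r = -1 := by
      obtain ⟨r, hr, s, -, hrs, hrr, -⟩ := h'.exists_pair (by rw [Fintype.card_fin]; exact hk2)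
      exact ⟨r, hr, (h'.not_ac_scalar hrs).1, hrr⟩
    let j : GL (Fin k) F →* GL (Fin k ⊕ Fin k) F := dg.comp (MonoidHom.inl _ _)
    have hj : ∀ y, j y = dg (y, 1) := fun y => rfl
    have hnorm : ∀ g : GL (Fin k) F, IsIso σ G₀ (g : Matrix (Fin k) (Fin k) F) →
        (g : Matrix (Fin k) (Fin k) F).det = 1 → ∀ y ∈ M₁.comap j, g * y * g⁻¹ ∈ M₁.comap j := fun g h1 h2 y hy => by
      obtain ⟨z, hz⟩ := mem_projM.1 (mem_of_big hσ hG (by rw [Fintype.card_fin]; exact hk2) hY h1 h2)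
      have e : j (g * y * g⁻¹) = dg (g, z) * j y * (dg (g, z))⁻¹ := by
        rw [hj, hj, dg_inv, ← map_mul, ← map_mul]; congr 1; simp
      rw [Subgroup.mem_comap, e]
      exact mul_mem (mul_mem hz hy) (inv_mem hz)
    have hrK : r ∈ M₁.comap j := kernel_elt h₁ ha₁ hle₁ hT₁ hr hrr
    have hri : IsIso σ G₀ (r : Matrix (Fin k) (Fin k) F) := U'.iso r hr hrr
    have hK : Big σ G₀ (M₁.comap j) := by
      by_cases hk3 : k = 2
      · exact big_two_of_normalized hσ (hp3 hk3) hG (by rw [Fintype.card_fin]; exact hk3) hnorm hrK hrr hri hr1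
      · exact big_of_normalized hσ hG (by rw [Fintype.card_fin]; omega) hnorm hrK hri hr1
    have hj1 : jx (κ := Fin k) (1 : F) (-1) (one_mul _) = aM * bM := Units.ext (by
      show fromBlocks 0 _ _ 0 = ((aM : GL (Fin k ⊕ Fin k) F) : Matrix (Fin k ⊕ Fin k) (Fin k ⊕ Fin k) F) * fromBlocks 0 1 1 0
      rw [aM_val, fromBlocks_multiply]; simp)
    have hi0 : i ≠ 0 := by rintro rfl; simp at hi
    have hj2 : jx (κ := Fin k) i i hi = sc i hi0 * bM := Units.ext (by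
      show fromBlocks 0 _ _ 0 = i • (1 : Matrix (Fin k ⊕ Fin k) (Fin k ⊕ Fin k) F) * fromBlocks 0 1 1 0
      rw [smul_mul_assoc, one_mul, fromBlocks_smul, smul_zero])
    exact big_block hσ hG (by rw [Fintype.card_fin]; exact hk2) hi U₁.sim (hle₁ hb₁)
      (hT₁ _ (hj1 ▸ mul_mem ha₁ hb₁) _) (hT₁ _ (hj2 ▸ mul_mem (h₁.scal (sc_mem _ _)) hb₁) _) hK

/-- The case of dimension four. -/
theorem unit_four (hσ : Fld σ) (U : UCtx σ Γ R M) (h : IsSymp R) (h4 : Fintype.card ι = 4) (hle : R ≤ M)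
    (hT : h.HasTv M) : M ≤ subgroupNormalizer R ∨ Big σ Γ M := by
  classical
  rcases projNorm_or_big hσ U h (by omega) hle hT (fun k hk G₀ R' M' h' U' hle' hT' => by
    obtain rfl : k = 2 := by omega
    exact (two_unit hσ h' hle' hT' U').imp id (fun e => ⟨fun _ => e.1, e.2⟩)) with hN | hS
  swap
  · exact Or.inr hS
  by_cases hNS : NoSplit h.two R M
  · exact Or.inl (le_normalizer_of_proj h (by omega) hle hT hN hNS)
  right
  rw [NoSplit] at hNS
  push Not at hNS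
  obtain ⟨a, ha, haa, ha1, x₁, hx₁, x₂, hx₂, h₁, h₂, h1a, h2a, h12, g, hg, hgP, hgQ⟩ := hNS
  obtain ⟨b, hb, hbb, hab⟩ := h.exists_partner ha ha1
  obtain ⟨k, L, hk, ea, eb⟩ := exists_coord h.two haa hbb hab
  obtain rfl : k = 2 := by omega
  obtain ⟨Γ₁, U₁, hback⟩ := U.exists_map L
  set R₁ := R.map (coordGL L).toMonoidHom
  set M₁ := M.map (coordGL L).toMonoidHom
  have hh : IsSymp R₁ := h.map L
  have ha₁ : aM ∈ R₁ := ⟨a, ha, ea⟩
  have hb₁ : bM ∈ R₁ := ⟨b, hb, eb⟩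
  obtain ⟨r₁, hr₁, e₁⟩ := hh.exists_half ha₁ hb₁ (x := coordGL L x₁) ⟨x₁, hx₁, rfl⟩ (ea ▸ h1a.map (coordGL L))
  obtain ⟨r₂, hr₂, e₂⟩ := hh.exists_half ha₁ hb₁ (x := coordGL L x₂) ⟨x₂, hx₂, rfl⟩ (ea ▸ h2a.map (coordGL L))
  obtain ⟨r, r', hr, hr', ex₁⟩ : ∃ r r', r ∈ half R₁ ∧ r' ∈ half R₁ ∧ coordGL L x₁ = dg (r', r) := by
    rcases e₁ with e | e
    exacts [⟨r₁, r₁, hr₁, hr₁, e⟩, ⟨-r₁, r₁, (hh.half ha₁ hb₁).neg_mem hr₁, hr₁, e⟩]
  obtain ⟨s, s', hs, hs', ex₂⟩ : ∃ s s', s ∈ half R₁ ∧ s' ∈ half R₁ ∧ coordGL L x₂ = dg (s', s) := by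
    rcases e₂ with e | e
    exacts [⟨r₂, r₂, hr₂, hr₂, e⟩, ⟨-r₂, r₂, (hh.half ha₁ hb₁).neg_mem hr₂, hr₂, e⟩]
  have hsq : ∀ {x : GL ι F} {p q : GL (Fin 2) F}, x * x = -1 → coordGL L x = dg (p, q) →
      (p * p = -1 ∧ q * q = -1) ∧ (dg (p, q) : GL (Fin 2 ⊕ Fin 2) F) * dg (p, q) = -1 := by
    intro x p q hx e
    have e' : (dg (p, q) : GL (Fin 2 ⊕ Fin 2) F) * dg (p, q) = -1 := by rw [← e, ← map_mul, hx, coordGL_neg_one]
    have e2 : dg (p * p, q * q) = (dg ((-1 : GL (Fin 2) F), (-1 : GL (Fin 2) F)) : GL (Fin 2 ⊕ Fin 2) F) := by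
      rw [← di_apply, di_neg, map_one, ← e', ← map_mul]
      rfl
    exact ⟨⟨(Prod.ext_iff.1 (dg_inj e2)).1, (Prod.ext_iff.1 (dg_inj e2)).2⟩, e'⟩
  obtain ⟨⟨hr'2, hr2⟩, hx1⟩ := hsq h₁ ex₁
  obtain ⟨⟨hs'2, hs2⟩, hx2⟩ := hsq h₂ ex₂
  have hrs : Ac r s := by
    have e0 : Ac (dg (r', r) : GL (Fin 2 ⊕ Fin 2) F) (dg (s', s)) := by rw [← ex₁, ← ex₂]; exact coord_ac L h12
    have e := congrArg (fun g : GL (Fin 2 ⊕ Fin 2) F => (g : Matrix (Fin 2 ⊕ Fin 2) (Fin 2 ⊕ Fin 2) F).toBlocks₂₂) e0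
    simp [dg_val, fromBlocks_multiply, fromBlocks_neg] at e
    exact Units.ext (by simpa using e)
  refine hback (four_split_unit hσ U₁ hh ha₁ hb₁ (Subgroup.map_mono hle) (hasTv_map h L hT) hr hs hr2 hs2 hrs
    ⟨g, hg, Units.ext (ext_proj h.two aM ?_ ?_)⟩)
  · have e := congrArg (coordAlg L) hgP
    rw [map_mul, proj, map_add, map_one, ← coordGL_val, ← coordGL_val, ea] at e
    refine e.trans ?_
    rw [proj, dg_val, aM_val, ← fromBlocks_one, fromBlocks_add, fromBlocks_multiply]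
    simp
  · have e := congrArg (coordAlg L) hgQ
    rw [map_mul, map_mul, proj, map_add, map_one, ← coordGL_val, ← coordGL_val, ← coordGL_val, coordGL_neg, ea,
      map_mul, map_inv, coord_tv L h.two h₁ (ex₁ ▸ hx1), coord_tv L h.two h₂ (ex₂ ▸ hx2),
      tv_congr h.two _ hx1 ex₁, tv_congr h.two _ hx2 ex₂, tv_dg h.two hr'2 hr2, tv_dg h.two hs'2 hs2, dg_inv,
      ← map_mul] at e
    refine e.trans ?_
    rw [proj, Units.val_neg, Prod.mk_mul_mk, dg_val, dg_val, aM_val, ← fromBlocks_one, fromBlocks_neg, fromBlocks_add,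
      fromBlocks_multiply, fromBlocks_multiply]
    simp

/-- An overgroup of similitudes normalises `R` or contains the special unitary group. -/
theorem unit_dichotomy (hσ : Fld σ) :
    ∀ {m n : ℕ}, 2 ≤ m → n = 2 ^ m → ∀ {Γ : Matrix (Fin n) (Fin n) F} {R M : Subgroup (GL (Fin n) F)} (h : IsSymp R),
      UCtx σ Γ R M → R ≤ M → h.HasTv M → M ≤ subgroupNormalizer R ∨ Big σ Γ M := by
  intro m
  induction m with
  | zero => intro n hm; omega
  | succ m ih =>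
    intro n hm hn Γ R M h U hle hT
    rcases Nat.lt_or_ge m 2 with hm2 | hm2
    · obtain rfl : m = 1 := by omega
      exact unit_four hσ U h (by rw [Fintype.card_fin]; simpa using hn) hle hT
    have hn8 : 8 ≤ n := by
      rw [hn]
      calc 8 = 2 ^ 3 := rfl
        _ ≤ _ := Nat.pow_le_pow_right two_pos (by omega)
    have hc : Fintype.card (Fin n) = n := Fintype.card_fin n
    rcases projNorm_or_big hσ U h (by omega) hle hT (fun k hk G₀ R' M' h' U' hle' hT' =>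
      (ih hm2 (by rw [hc, hn, pow_succ] at hk; omega) h' U' hle' hT').imp id
        (fun e => ⟨fun h2 => by omega, e⟩)) with hN | hS
    · exact Or.inl (le_normalizer_of_proj h (by omega) hle hT hN (noSplit_of_big h hN (by omega)))
    · exact Or.inr hS

/-- Not every transvection normalises `R`. -/
theorem not_normalizer_big (hσ : Fld σ) (hΓ : IsGram σ Γ) (h5 : 5 ≤ Fintype.card ι) (h : IsSymp R)
    (hiso : ∀ x ∈ R, x * x = -1 → IsIso σ Γ (x : Matrix ι ι F))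
    (hN : ∀ (u : ι → F) (hu : ip σ Γ u u = 0) (c : F), c + σ c = 0 → trvGL σ Γ hu c ∈ subgroupNormalizer R) :
    False := by
  classical
  have h2 := h.two
  obtain ⟨x, hxR, hx1, hxx⟩ : ∃ x ∈ R, x ∉ scalars ι F ∧ x * x = -1 := by
    obtain ⟨r, hr, s, -, hrs, hrr, -⟩ := h.exists_pair (by omega)
    exact ⟨r, hr, (h.not_ac_scalar hrs).1, hrr⟩
  have hxi := hiso x hxR hxx
  have H := herm_of hσ.inv hΓ
  obtain ⟨u, hu0, hu, hmv⟩ := exists_moved hσ hΓ (by omega) hx1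
  obtain ⟨c, hc0, hc⟩ := H.exists_skew
  set w := (x : Matrix ι ι F) *ᵥ u with hw
  have hww : ip σ Γ w w = 0 := (iso_ip hΓ hxi u u).trans hu
  set t := trvGL σ Γ hu c
  have hcR : x * t * x⁻¹ * t⁻¹ ∈ R := by
    have h1 := (Subgroup.mem_normalizer_iff.1 (hN u hu c hc) x⁻¹).1 (R.inv_mem hxR)
    simpa [mul_assoc] using R.mul_mem hxR h1
  let L : (ι → F) →ₗ[F] F × F := (bil σ Γ u).prod (bil σ Γ w)
  set Z := LinearMap.ker L
  have hZ : Fintype.card ι ≤ Module.finrank F Z + 2 := by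
    have h1 := LinearMap.finrank_range_add_finrank_ker L
    have h2' := Submodule.finrank_le (LinearMap.range L)
    rw [Module.finrank_prod, Module.finrank_self] at h2'
    rw [Module.finrank_fintype_fun_eq_card] at h1
    have e : Module.finrank F Z = Module.finrank F (LinearMap.ker L) := rfl
    omega
  have hfix : ∀ v ∈ Z, ((x * t * x⁻¹ * t⁻¹ : GL ι F) : Matrix ι ι F) *ᵥ v = v := by
    intro v hv
    have h1 : ip σ Γ u v = 0 := congrArg Prod.fst (LinearMap.mem_ker.1 hv)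
    have h2' : ip σ Γ w v = 0 := congrArg Prod.snd (LinearMap.mem_ker.1 hv)
    rw [trvGL_conj hΓ hxi, Units.val_mul, ← mulVec_mulVec,
      show ((t⁻¹ : GL ι F) : Matrix ι ι F) = 1 - c • sqr σ Γ u from rfl, sub_mulVec, one_mulVec, smul_mulVec,
      UnitWreath.sqr_mulVec, h1, zero_smul, smul_zero, sub_zero, trvGL_mulVec, h2', mul_zero, zero_smul, add_zero]
  obtain ⟨y, hy⟩ := H.exists_apply_eq_one hu0
  rw [UnitWreath.bil_apply] at hy
  have hne : x * t * x⁻¹ * t⁻¹ ≠ 1 := fun e => by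
    rw [mul_inv_eq_one, mul_inv_eq_iff_eq_mul] at e
    have e2 := congrArg (fun g : GL ι F => (g : Matrix ι ι F) *ᵥ y) e
    simp only [Units.val_mul, ← mulVec_mulVec, t, trvGL_mulVec, mulVec_add, mulVec_smul, hy, mul_one, ← hw] at e2
    refine hmv (ip σ Γ u ((x : Matrix ι ι F) *ᵥ y)) (smul_right_injective _ hc0 ?_)
    show c • w = c • _
    rw [smul_smul]
    exact add_left_cancel e2
  by_cases hs : x * t * x⁻¹ * t⁻¹ ∈ scalars ι F
  · obtain ⟨s, hs'⟩ := (mem_scalars_iff _).1 hs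
    obtain ⟨v, hv, hv0⟩ := Submodule.exists_mem_ne_zero_of_ne_bot (p := Z)
      (fun e => by rw [e, finrank_bot] at hZ; omega)
    have := hfix v hv
    rw [hs', smul_mulVec, one_mulVec] at this
    exact hne (Units.ext (by
      rw [hs', smul_left_injective F hv0 (this.trans (one_smul F v).symm), one_smul, Units.val_one]))
  obtain ⟨z, -, hcz⟩ := h.exists_ac hcR hs
  set d := x * t * x⁻¹ * t⁻¹
  have hinj : Function.Injective (Matrix.toLin' (z : Matrix ι ι F)) := fun p q e => by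
    have := congrArg (((z⁻¹ : GL ι F) : Matrix ι ι F) *ᵥ ·) e
    simpa [Matrix.toLin'_apply, mulVec_mulVec] using this
  let Z' := Z.map (Matrix.toLin' (z : Matrix ι ι F))
  have hdim : Module.finrank F Z' = Module.finrank F Z :=
    (Submodule.equivMapOfInjective _ hinj Z).finrank_eq.symm
  have hdis : Disjoint Z Z' := by
    rw [Submodule.disjoint_def]
    rintro v hv ⟨p, hp, rfl⟩
    rw [Matrix.toLin'_apply] at hv ⊢
    have h1 := hfix _ hv
    rw [mulVec_mulVec, ← Units.val_mul, show d * z = -(z * d) from hcz, Units.val_neg, Units.val_mul, neg_mulVec,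
      ← mulVec_mulVec, hfix p hp] at h1
    exact (smul_eq_zero.1 (show (2 : F) • ((z : Matrix ι ι F) *ᵥ p) = 0 by
      rw [two_smul]; nth_rewrite 1 [← h1]; exact neg_add_cancel _)).resolve_left h2
  have h1 := Submodule.finrank_sup_add_finrank_inf_eq Z Z'
  rw [hdis.eq_bot, finrank_bot] at h1
  have h3 := Submodule.finrank_le (Z ⊔ Z')
  rw [Module.finrank_fintype_fun_eq_card] at h3
  omega

end CfsgLib.Geo.SympNorm
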