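import Cfsg.Agent.Lib.Geo.SympNorm.SpPart
import Cfsg.Agent.Lib.Geo.SympNorm.Linear
import Cfsg.Agent.Lib.Geo.SympNorm.Unit
import Mathlib.Algebra.QuadraticAlgebra.Basic

/-!
# The two kinds of odd prime fields
-/

set_option autoImplicit false
set_option linter.unusedSectionVars false
set_option maxHeartbeats 1000000

namespace CfsgLib.Geo.SympNorm

open Matrix Cfsg.Geo
open CfsgLib.Classical.Herm (fixedSub mem_fixedSub)
open CfsgLib.Geo.UnitWreath (IsGram adj Sim IsIso)

variable {F : Type*} [Field F] [Fintype F] {n k : ℕ} {G : Matrix (Fin n) (Fin n) F}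
  {R M : Subgroup (GL (Fin n ⊕ Fin n) F)}

/-- The centraliser statement for an element of square minus one. -/
def PartOne (R M : Subgroup (GL (Fin n ⊕ Fin n) F)) : Prop :=
  ∀ g ∈ M, Commute g (aM * bM) → ∀ d ∈ R, Commute d (aM * bM) → g * d * g⁻¹ ∈ R

/-- With a root of minus one in the field. -/
theorem part_one_linear (hp : (Fintype.card F).Prime) {i : F} (hi : i * i = -1) (hG : IsAltGram G)
    (C : SpCtx (fromBlocks G 0 0 G) (k + 1) R M) (ha : aM ∈ R) (hb : bM ∈ R) (hk : 2 ≤ k) :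
    PartOne R M ∨ isoGL (fromBlocks G 0 0 G) ≤ M := by
  refine part_one (RingHom.id F) hi hG C ha hb hk fun hS hle hT => ?_
  have h' := C.sp.half hG ha hb
  have hn : n = 2 ^ k := by simpa using h'.dim
  refine (linear_dichotomy hp (by omega) hn hS hle hT).imp id fun hSL y hy => hSL ?_
  have h4 : 4 ≤ Fintype.card (Fin n) := h'.dim ▸ (Nat.pow_le_pow_right two_pos hk : 2 ^ 2 ≤ 2 ^ k)
  refine MonoidHom.mem_ker.2 (Units.ext ?_)
  rw [Matrix.GeneralLinearGroup.val_det_apply, mapGL_val, Units.val_one]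
  exact (congrArg Matrix.det (Matrix.ext fun a b => rfl)).trans (hG.det_eq_one h'.two h4 hy)

/-- The field with a root of minus one adjoined. -/
abbrev QF (F : Type*) [Field F] := QuadraticAlgebra F (-1) 0

/-- Without a root of minus one. -/
theorem part_one_unit (hp : (Fintype.card F).Prime) (h4p : Fintype.card F % 4 = 3) (hG : IsAltGram G)
    (C : SpCtx (fromBlocks G 0 0 G) (k + 1) R M) (ha : aM ∈ R) (hb : bM ∈ R) (hk : 2 ≤ k) :
    PartOne R M ∨ isoGL (fromBlocks G 0 0 G) ≤ M := by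
  classical
  haveI hfact : Fact (∀ r : F, r ^ 2 ≠ (-1) + 0 * r) := ⟨fun r hr => by
    have hsq : IsSquare (-1 : F) := ⟨r, by rw [← pow_two, hr, zero_mul, add_zero]⟩
    exact FiniteField.isSquare_neg_one_iff.1 hsq h4p⟩
  haveI : Fintype (QF F) := Fintype.ofEquiv (F × F) (QuadraticAlgebra.equivProd (-1 : F) 0).symm
  let φ : F →+* (QF F) := algebraMap F (QF F)
  let i : (QF F) := ⟨0, 1⟩
  let σ : (QF F) →+* (QF F) := starRingEnd (QF F)
  have hi : i * i = -1 := by ext <;> simp [i] <;> rfl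
  have hσφ : ∀ a, σ (φ a) = φ a := fun a => by
    show star (algebraMap F (QF F) a) = algebraMap F (QF F) a
    ext <;> simp
  have hσi : σ i = -i := by
    show star i = -i
    ext <;> simp [i]
  have hinv : CfsgLib.Classical.Herm.IsInvol σ :=
    ⟨fun e => by
      have e1 : σ i = i := by rw [e]; rfl
      rw [hσi] at e1
      have := congrArg QuadraticAlgebra.im e1
      simp [i] at this
      exact C.sp.two (by linear_combination -this), fun a => star_star a⟩
  have hfix : Nat.card (fixedSub σ) = Fintype.card F := by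
    rw [← Nat.card_eq_fintype_card]
    refine (Nat.card_eq_of_bijective (fun a : F => (⟨φ a, mem_fixedSub.2 (hσφ a)⟩ : fixedSub σ))
      ⟨fun a b e => φ.injective (congrArg Subtype.val e), fun z => ⟨(z : (QF F)).re, Subtype.ext ?_⟩⟩).symm
    have hz : star (z : (QF F)) = z := mem_fixedSub.1 z.2
    have him : (z : (QF F)).im = 0 := by
      have := congrArg QuadraticAlgebra.im hz
      simp at this
      exact (mul_eq_zero.1 (show (2 : F) * (z : (QF F)).im = 0 by linear_combination -this)).resolve_left C.sp.two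
    show algebraMap F (QF F) (z : (QF F)).re = z
    ext <;> simp [him]
  have hσ : Fld σ := ⟨hinv, hfix ▸ hp, hfix ▸ h4p⟩
  refine part_one φ hi hG C ha hb hk fun hS hle hT => ?_
  have h' := C.sp.half hG ha hb
  have hn : n = 2 ^ k := by simpa using h'.dim
  have h4 : 4 ≤ Fintype.card (Fin n) := h'.dim ▸ (Nat.pow_le_pow_right two_pos hk : 2 ^ 2 ≤ 2 ^ k)
  set Γ' : Matrix (Fin n) (Fin n) (QF F) := i • G.map φ with hΓ'def
  have hGu : IsUnit (G.map φ).det := by
    rw [show G.map φ = φ.mapMatrix G from rfl, ← RingHom.map_det]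
    exact hG.unit.map φ
  have hi0 : i ≠ 0 := fun e => by
    have := congrArg QuadraticAlgebra.im e
    simp [i] at this
  have hmapσ : ∀ Z : Matrix (Fin n) (Fin n) F, (Z.map φ).map σ = Z.map φ := fun Z => by
    exact Matrix.ext fun a b => hσφ _
  have hΓ' : IsGram σ Γ' := by
    refine ⟨hinv.invol, ?_, ?_⟩
    · rw [hΓ'def, Matrix.map_smul' σ _ _ (fun a b => map_mul σ a b), transpose_smul, hmapσ, ← Matrix.transpose_map,
        hG.skew, hσi, Matrix.map_neg φ (map_neg φ), neg_smul, smul_neg, neg_neg]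
    · rw [hΓ'def, det_smul]
      exact ((isUnit_iff_ne_zero.2 hi0).pow _).mul hGu
  have hadj : ∀ Z W : Matrix (Fin n) (Fin n) (QF F), (Z.map σ)ᵀ * G.map φ * W = G.map φ → adj σ Γ' Γ' Z * W = 1 := by
    intro Z W e
    rw [adj, Matrix.mul_assoc, Matrix.mul_assoc, hΓ'def, Matrix.smul_mul, Matrix.mul_smul, ← Matrix.mul_assoc (Z.map σ)ᵀ,
      e, ← hΓ'def, hΓ'.inv_mul]
  have hmapiso : ∀ y ∈ isoGL G, IsIso σ Γ' ((mapGL φ y : GL (Fin n) (QF F)) : Matrix (Fin n) (Fin n) (QF F)) := fun y hy => by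
    refine hadj _ _ ?_
    rw [mapGL_val, hmapσ, ← Matrix.transpose_map, ← Matrix.map_mul, ← Matrix.map_mul, mem_isoGL.1 hy]
  have hscal : ∀ c ∈ scalars (Fin n) (QF F), Sim σ Γ' ((c : GL (Fin n) (QF F)) : Matrix (Fin n) (Fin n) (QF F)) := fun c hc => by
    obtain ⟨d, hd⟩ := (mem_scalars_iff c).1 hc
    refine ⟨σ d * d, mul_ne_zero ((map_ne_zero σ).2 d.ne_zero) d.ne_zero, ?_⟩
    rw [hd, UnitWreath.adj_smul, UnitWreath.adj_one hΓ', smul_mul_smul_comm, one_mul]
  have hU : UCtx σ Γ' ((half R).map (mapGL φ) ⊔ scalars (Fin n) (QF F)) (imgX φ hi G M) := by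
    refine ⟨hΓ', fun g hg => ?_, fun x hx hxx => ?_⟩
    · obtain ⟨_, ⟨z, -, rfl⟩, c, hc, rfl⟩ := Subgroup.mem_sup_of_normal_right.1 hg
      rw [Units.val_mul]
      refine UnitWreath.Sim.mul hΓ' (UnitWreath.IsIso.sim (hadj _ _ ?_)) (hscal c hc)
      rw [phiX_val]
      refine Eq.trans ?_ (phiM_gram φ hi z.2)
      congr 3
      rw [phiM, Matrix.map_add σ (map_add σ), Matrix.map_smul' σ _ _ (fun a b => map_mul σ a b), hmapσ, hmapσ, hσi,
        neg_smul, ← sub_eq_add_neg]
    · obtain ⟨_, ⟨r, hr, rfl⟩, c, hc, rfl⟩ := Subgroup.mem_sup_of_normal_right.1 hx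
      obtain ⟨d, hd⟩ := (mem_scalars_iff c).1 hc
      haveI := h'.pre.nonempty
      obtain ⟨j₀⟩ := ‹Nonempty (Fin n)›
      rw [show mapGL φ r * c * (mapGL φ r * c) = mapGL φ r * (c * mapGL φ r) * c by group,
        (commute_scalar hc _).eq, show mapGL φ r * (mapGL φ r * c) * c = mapGL φ r * mapGL φ r * (c * c) by group,
        ← map_mul] at hxx
      have hσd : σ d * d = 1 := by
        rcases h'.sq r hr with e | e
        · rw [e, map_one, one_mul] at hxx
          have hdd : (d : (QF F)) * d = i * i := by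
            have := congrArg (fun g : GL (Fin n) (QF F) => (g : Matrix (Fin n) (Fin n) (QF F)) j₀ j₀) hxx
            simp [hd] at this
            rw [this, hi]
          rcases mul_self_eq_mul_self_iff.1 hdd with e' | e'
          · rw [e', hσi, neg_mul, hi, neg_neg]
          · rw [e', map_neg, hσi, neg_neg, mul_neg, hi, neg_neg]
        · rw [e, mapGL_neg_one, neg_one_mul, neg_inj] at hxx
          have hdd : (d : (QF F)) * d = 1 := by
            have := congrArg (fun g : GL (Fin n) (QF F) => (g : Matrix (Fin n) (Fin n) (QF F)) j₀ j₀) hxx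
            simpa [hd] using this
          rcases mul_self_eq_one_iff.1 hdd with e' | e' <;> simp [e']
      rw [Units.val_mul, IsIso, hd, Matrix.mul_smul, Matrix.mul_one, UnitWreath.adj_smul, smul_mul_smul_comm, hσd,
        one_smul]
      exact hmapiso r (h'.le hr)
  refine (unit_dichotomy hσ (m := k) hk hn hS hU hle hT).imp id fun hB y hy => ?_
  refine mem_of_big hσ hΓ' (by omega) hB (hmapiso y hy) ?_
  rw [mapGL_val, show (y : Matrix (Fin n) (Fin n) F).map φ = φ.mapMatrix (y : Matrix (Fin n) (Fin n) F) from rfl,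
    ← RingHom.map_det, hG.det_eq_one h'.two h4 hy, map_one]

/-- Either kind of odd prime field. -/
theorem part_one_prime (hp : (Fintype.card F).Prime) (hG : IsAltGram G)
    (C : SpCtx (fromBlocks G 0 0 G) (k + 1) R M) (ha : aM ∈ R) (hb : bM ∈ R) (hk : 2 ≤ k) :
    PartOne R M ∨ isoGL (fromBlocks G 0 0 G) ≤ M := by
  by_cases hsq : IsSquare (-1 : F)
  · obtain ⟨i, hi⟩ := hsq
    exact part_one_linear hp hi.symm hG C ha hb hk
  · refine part_one_unit hp ?_ hG C ha hb hk
    rw [FiniteField.isSquare_neg_one_iff, not_not] at hsq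
    exact hsq

end CfsgLib.Geo.SympNorm
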