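import Cfsg.Agent.Lib.Geo.SympNorm.SpTwist
import Cfsg.Agent.Lib.Geo.SympNorm.SpFields

/-!
# Centralisers of elements of `R` in a small overgroup
-/

set_option autoImplicit false
set_option linter.unusedSectionVars false

namespace CfsgLib.Geo.SympNorm

open Matrix Cfsg.Geo

variable {ι : Type} [Fintype ι] [DecidableEq ι] {F : Type*} [Field F]

section Local

variable {Γ : Matrix ι ι F} {k : ℕ} {R M : Subgroup (GL ι F)}

/-- Coordinates at an involution and a partner. -/
theorem SpCtx.exists_coords (C : SpCtx Γ k R M) {a b : GL ι F} (ha : a ∈ R) (hb : b ∈ R) (haa : a * a = 1)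
    (hbb : b * b = 1) (hab : Ac a b) :
    ∃ (n : ℕ) (L : (Fin n ⊕ Fin n → F) ≃ₗ[F] (ι → F)) (G : Matrix (Fin n) (Fin n) F),
      IsAltGram G ∧ coordGL L a = aM ∧ coordGL L b = bM ∧
        SpCtx (fromBlocks G 0 0 G) k (R.map (coordGL L).toMonoidHom) (M.map (coordGL L).toMonoidHom) ∧
        (isoGL (fromBlocks G 0 0 G) ≤ M.map (coordGL L).toMonoidHom → isoGL Γ ≤ M) := by
  obtain ⟨n, L, -, ea, eb⟩ := exists_coord C.sp.two haa hbb hab
  obtain ⟨Γ', hΓ', hmem, -⟩ := exists_altGram C.sp.gram L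
  obtain ⟨G, hG, rfl⟩ := gram_halves C.sp.two hΓ' (ea ▸ (hmem a).2 (C.sp.le ha)) (eb ▸ (hmem b).2 (C.sp.le hb))
  refine ⟨n, L, G, hG, ea, eb, C.map L hΓ' hmem, fun h g hg => ?_⟩
  obtain ⟨g', hg', e⟩ := h ((hmem g).2 hg)
  rwa [← (coordGL L).injective e]

/-- The two local statements. -/
structure Loc (R M : Subgroup (GL ι F)) : Prop where
  part : ∀ x ∈ R, x * x = -1 → ∀ g ∈ M, Commute g x → ∀ d ∈ R, Commute d x → g * d * g⁻¹ ∈ R
  proj : ProjNorm R M

theorem SpCtx.loc_or_all [Fintype F] (hp : (Fintype.card F).Prime) (C : SpCtx Γ (k + 1) R M) (hk : 2 ≤ k)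
    (ih : Dich F k) : Loc R M ∨ isoGL Γ ≤ M := by
  refine (Classical.em (isoGL Γ ≤ M)).symm.imp (fun hS => ⟨?_, ?_⟩) id
  · intro x hx hxx g hg hgx d hd hdx
    obtain ⟨a, ha, haa, hax⟩ : ∃ a ∈ R, a * a = 1 ∧ Ac a x := by
      obtain ⟨a, ha, hxa⟩ := C.sp.pre.exists_ac hx (C.sp.not_scalar_of_nons hx hxx)
      rcases C.sp.sq a ha with e | e
      · exact ⟨a, ha, e, hxa.symm⟩
      · obtain ⟨t, ht, et, hta, htx⟩ := C.sp.exists_nons₂ (by omega) ha hx
        exact ⟨a * t, mul_mem ha ht, by rw [commute_sq_mul hta.symm, e, et, neg_mul_neg, one_mul],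
          Ac.mul_left hxa.symm htx⟩
    have hbb : a * x * (a * x) = 1 := by rw [hax.sq_mul, haa, hxx, one_mul, neg_neg]
    obtain ⟨n, L, G, hG, ea, eb, C', hback⟩ :=
      C.exists_coords ha (mul_mem ha hx) haa hbb (Ac.mul_right' (Commute.refl a) hax)
    have ex : coordGL L x = aM * bM := by
      rw [← ea, ← eb, ← map_mul, ← mul_assoc, haa, one_mul]
    rcases part_one_prime hp hG C' ⟨a, ha, ea⟩ ⟨_, mul_mem ha hx, eb⟩ hk with h1 | h1
    · have hg' : coordGL L g ∈ M.map (coordGL L).toMonoidHom := ⟨g, hg, rfl⟩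
      have hd' : coordGL L d ∈ R.map (coordGL L).toMonoidHom := ⟨d, hd, rfl⟩
      obtain ⟨y, hy, e⟩ := h1 (coordGL L g) hg' (ex ▸ hgx.map (coordGL L)) (coordGL L d) hd'
        (ex ▸ hdx.map (coordGL L))
      rw [← map_inv, ← map_mul, ← map_mul] at e
      exact (coordGL L).injective e ▸ hy
    · exact absurd (hback h1) hS
  · intro a ha haa ha1 g hg hga x hx hxa
    obtain ⟨b, hb, hbb, hab⟩ := C.sp.exists_partner ha haa ha1
    obtain ⟨n, L, G, hG, ea, eb, C', hback⟩ := C.exists_coords ha hb haa hbb hab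
    rcases half_dich hG C' ⟨a, ha, ea⟩ ⟨b, hb, eb⟩ hk ih with hN | h1
    · obtain ⟨x₁', ⟨x₁, hx₁, rfl⟩, hx₁a, e⟩ := projNorm_at (M := M.map (coordGL L).toMonoidHom) C'.sp.pre ⟨a, ha, ea⟩ ⟨b, hb, eb⟩
        (fun y hy => by obtain ⟨z, hz⟩ := mem_projM.1 hy; exact (hN y z hz).1) (g := coordGL L g) ⟨g, hg, rfl⟩
        (ea ▸ hga.map (coordGL L)) (x := coordGL L x) ⟨x, hx, rfl⟩ (ea ▸ hxa.map (coordGL L))
      refine ⟨x₁, hx₁, ?_, (coordAlg L).injective ?_⟩
      · exact Commute.of_map (coordGL L).injective (by rw [ea]; exact hx₁a)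
      · have hpr : coordAlg L (proj a) = proj aM := by rw [proj, map_add, map_one, ← coordGL_val, ea]; rfl
        rw [map_mul, map_mul, hpr, ← coordGL_val, ← coordGL_val, map_mul, map_mul, map_inv]
        exact e
    · exact absurd (hback h1) hS

end Local

section Blocks

variable {n k : ℕ} {G : Matrix (Fin n) (Fin n) F} {R M : Subgroup (GL (Fin n ⊕ Fin n) F)}

/-- The centraliser of the sign. -/
theorem cent_block [Fintype F] (hp : (Fintype.card F).Prime) (hG : IsAltGram G)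
    (C : SpCtx (fromBlocks G 0 0 G) (k + 1) R M) (ha : aM ∈ R) (hb : bM ∈ R) (hk : 2 ≤ k) (ih : Dich F k)
    (hS : ¬ isoGL (fromBlocks G 0 0 G) ≤ M) :
    ∀ g ∈ M, Commute g aM → g ∈ subgroupNormalizer R := by
  classical
  obtain ⟨hpart, hproj⟩ := (C.loc_or_all hp hk ih).resolve_right hS
  have hN := (half_dich hG C ha hb hk ih).resolve_right hS
  have h' := C.sp.half hG ha hb
  have hp' := h'.pre
  haveI := h'.finite
  haveI := C.sp.finite
  haveI := hp'.nonempty
  set H := half R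
  let L : Subgroup (GL (Fin n) F) := M.comap (dg.comp (MonoidHom.inr _ _))
  have hLm : ∀ Q, Q ∈ L ↔ dg (1, Q) ∈ M := fun Q => Iff.rfl
  have hL : L ≤ subgroupNormalizer H ⊓ isoGL G := fun Q hQ =>
    ⟨(hN 1 Q hQ).2, (dg_mem_iso_iff.1 (C.sub hQ)).2⟩
  have hconj : ∀ m ∈ subgroupNormalizer H ⊓ isoGL G, ∀ Q ∈ L, m * Q * m⁻¹ ∈ L := by
    intro m hm Q hQ
    have hdm : di m ∈ M := C.above ⟨di_mem_normalizer C.sp ha hb hm.1, dg_mem_iso_iff.2 ⟨hm.2, hm.2⟩⟩
    rw [hLm, show dg (1, m * Q * m⁻¹) = di m * dg (1, Q) * (di m)⁻¹ by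
      rw [di_apply, dg_inv, ← map_mul, ← map_mul]; congr 1; simp]
    exact mul_mem (mul_mem hdm hQ) (inv_mem hdm)
  have hnonsL : ∀ r ∈ H, r * r = -1 → r ∈ L := fun r hr er => by
    rw [hLm]
    exact dg_swap_mem (C.le hb) (C.above ⟨kernel_normalizer C.sp ha hb hr er, dg_mem_iso_iff.2 ⟨h'.le hr, one_mem _⟩⟩)
  have hHL : H ≤ L := by
    intro r hr
    rcases h'.sq r hr with e | e
    · obtain ⟨t, ht, et, htr⟩ := h'.exists_nons₁ (by omega) hr
      have h1 := hnonsL (r * t) (mul_mem hr ht) (by rw [commute_sq_mul htr.symm, e, et, one_mul])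
      have := mul_mem h1 (inv_mem (hnonsL t ht et))
      rwa [mul_inv_cancel_right] at this
    · exact hnonsL r hr e
  -- commuting exactly with an element of square minus one
  have hfix1 : ∀ Q ∈ L, ∀ s ∈ H, s * s = -1 → Commute Q s → Q ∈ H := by
    intro Q hQ s hs es hQs
    have hxx : di s * di s = -1 := by rw [← map_mul, es, di_neg, map_one]
    have h1 := hpart (di s) hs hxx (dg (1, Q)) hQ (by
      rw [di_apply]; exact Commute.map (Commute.prod (Commute.one_left s) hQs) dg) bM hb (di_commute_bM s).symm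
    rw [mul_assoc, dg_inv, bM_dg, ← mul_assoc, ← map_mul, Prod.mk_mul_mk, inv_one, one_mul, mul_one] at h1
    have h2 := mul_mem h1 hb
    rw [mul_assoc, bM_sq, mul_one] at h2
    obtain ⟨r, hr, e | e⟩ := C.sp.pre.exists_half ha hb h2 (dg_commute_aM _ _)
    · have e' := congrArg (fun g : GL (Fin n ⊕ Fin n) F => (g : Matrix (Fin n ⊕ Fin n) (Fin n ⊕ Fin n) F).toBlocks₂₂) e
      simp [dg_val] at e'
      rw [show Q = r from Units.ext e']; exact hr
    · have e' := congrArg (fun g : GL (Fin n ⊕ Fin n) F => (g : Matrix (Fin n ⊕ Fin n) (Fin n ⊕ Fin n) F).toBlocks₂₂) e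
      simp [dg_val] at e'
      rw [show Q = -r from Units.ext (by rw [Units.val_neg]; exact e')]; exact h'.neg_mem hr
  have adjust : ∀ Q ∈ L, ∀ d ∈ H, d ∉ scalars (Fin n) F → PC Q d → ∃ Q' ∈ L, Commute Q' d ∧ (Q' ∈ H → Q ∈ H) := by
    intro Q hQ d hd hd1 hp
    rcases hp with e | e
    · exact ⟨Q, hQ, e, id⟩
    · obtain ⟨f, hf, hdf⟩ := hp'.exists_ac hd hd1
      refine ⟨Q * f, mul_mem hQ (hHL hf), (commute_of_ac_ac e.symm hdf).symm, fun h => ?_⟩
      have := mul_mem h (inv_mem hf)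
      rwa [mul_inv_cancel_right] at this
  have hfix : ∀ Q ∈ L, ∀ d ∈ H, d ∉ scalars (Fin n) F → PC Q d → Q ∈ H := by
    intro Q₀ hQ₀ s hs hs1 hpc
    obtain ⟨Q, hQ, hQs, back⟩ := adjust Q₀ hQ₀ s hs hs1 hpc
    refine back ?_
    rcases h'.sq s hs with es | es
    swap
    · exact hfix1 Q hQ s hs es hQs
    -- the involution: values on its centraliser
    have hva : ∀ d ∈ H, Commute d s → Q * d * Q⁻¹ * d⁻¹ ∈ scalars (Fin n) F ∨
        Q * d * Q⁻¹ * d⁻¹ * s⁻¹ ∈ scalars (Fin n) F := by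
      intro d hd hds
      have hss : di s * di s = 1 := by rw [← map_mul, es, map_one]
      have hs1' : di s ∉ scalars (Fin n ⊕ Fin n) F := fun h => by
        obtain ⟨c, hc, e⟩ := exists_scalar_di h
        exact hs1 (di_injective e ▸ hc)
      obtain ⟨x₁, hx₁, hx₁s, e⟩ := hproj (di s) hs hss hs1' (dg (1, Q)) hQ (by
        rw [di_apply]; exact Commute.map (Commute.prod (Commute.one_left s) hQs) dg) (di d) hd (hds.map di)
      have hP : proj (di s) = fromBlocks (proj s) 0 0 (proj s) := by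
        rw [proj, di_apply, dg_val, proj, ← fromBlocks_one, fromBlocks_add, add_zero]
      have hPne : proj s ≠ 0 := hp'.proj_ne hs hs1
      rw [show dg (1, Q) * di d * (dg (1, Q))⁻¹ = dg (d, Q * d * Q⁻¹) by
        rw [di_apply, dg_inv, ← map_mul, ← map_mul]; congr 1; simp, hP] at e
      have hdQ : Q * d * Q⁻¹ ∈ H := (Subgroup.mem_normalizer_iff.1 (hL hQ).1 d).1 hd
      obtain ⟨r, ε, hε, hr, er1, er2⟩ : ∃ r : GL (Fin n) F, ∃ ε : F, (ε = 1 ∨ ε = -1) ∧ r ∈ H ∧
          (d : Matrix (Fin n) (Fin n) F) * proj s = (r : Matrix (Fin n) (Fin n) F) * proj s ∧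
          ((Q * d * Q⁻¹ : GL (Fin n) F) : Matrix (Fin n) (Fin n) F) * proj s =
            ε • ((r : Matrix (Fin n) (Fin n) F) * proj s) := by
        rcases C.sp.sign x₁ hx₁ aM ha with hc | hc
        · obtain ⟨r, hr, rfl | rfl⟩ := C.sp.pre.exists_half ha hb hx₁ hc
          · rw [dg_val, dg_val, fromBlocks_multiply, fromBlocks_multiply, fromBlocks_inj] at e
            simp only [Matrix.mul_zero, Matrix.zero_mul, add_zero, zero_add] at e
            exact ⟨r, 1, Or.inl rfl, hr, e.1, by rw [one_smul]; exact e.2.2.2⟩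
          · rw [dg_val, dg_val, fromBlocks_multiply, fromBlocks_multiply, fromBlocks_inj] at e
            simp only [Matrix.mul_zero, Matrix.zero_mul, add_zero, zero_add, Units.val_neg] at e
            exact ⟨r, -1, Or.inr rfl, hr, e.1, by rw [e.2.2.2, Matrix.neg_mul, neg_one_smul]⟩
        · exfalso
          have e' := congrArg (fun g : GL (Fin n ⊕ Fin n) F => (g : Matrix (Fin n ⊕ Fin n) (Fin n ⊕ Fin n) F).toBlocks₁₁)
            (show x₁ * aM = -(aM * x₁) from hc)
          simp only [Units.val_mul, Units.val_neg, aM_val] at e'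
          rw [← fromBlocks_toBlocks (x₁ : Matrix (Fin n ⊕ Fin n) (Fin n ⊕ Fin n) F), fromBlocks_multiply,
            fromBlocks_multiply, fromBlocks_neg] at e'
          simp only [toBlocks_fromBlocks₁₁, Matrix.mul_one, Matrix.mul_zero, Matrix.one_mul, Matrix.zero_mul,
            add_zero] at e'
          have hz : (x₁ : Matrix (Fin n ⊕ Fin n) (Fin n ⊕ Fin n) F).toBlocks₁₁ = 0 :=
            (smul_eq_zero.1 (show (2 : F) • (x₁ : Matrix (Fin n ⊕ Fin n) (Fin n ⊕ Fin n) F).toBlocks₁₁ = 0 by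
              rw [two_smul]; nth_rewrite 1 [e']; exact neg_add_cancel _)).resolve_left C.sp.two
          have e'' := congrArg Matrix.toBlocks₁₁ e
          rw [← fromBlocks_toBlocks (x₁ : Matrix (Fin n ⊕ Fin n) (Fin n ⊕ Fin n) F), dg_val, fromBlocks_multiply,
            fromBlocks_multiply, toBlocks_fromBlocks₁₁, toBlocks_fromBlocks₁₁, hz] at e''
          simp only [Matrix.zero_mul, Matrix.mul_zero, add_zero] at e''
          exact hPne (cancel_left d e'')
      rw [← er1] at er2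
      set z := d⁻¹ * (Q * d * Q⁻¹) with hz
      have hzH : z ∈ H := mul_mem (inv_mem hd) hdQ
      have hzs : Commute z s := hds.inv_left.mul_left ((hQs.mul_left hds).mul_left hQs.inv_left)
      have ez : (z : Matrix (Fin n) (Fin n) F) * proj s = ε • proj s := by
        rw [hz, Units.val_mul, Matrix.mul_assoc, er2, Matrix.mul_smul, ← Matrix.mul_assoc, Units.inv_mul,
          Matrix.one_mul]
      have hdz : Q * d * Q⁻¹ = d * z := by rw [hz, mul_inv_cancel_left]
      rcases hp'.mem_of_proj hs hs1 hzH hzs ez with h1 | h1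
      · left
        rw [hdz, scalar_conj h1]; exact h1
      · right
        rw [hdz, show d * z * d⁻¹ * s⁻¹ = d * (z * s⁻¹) * (s * d⁻¹ * s⁻¹) by group, hds.inv_left.symm.eq,
          mul_inv_cancel_right, scalar_conj h1]
        exact h1
    -- a fixed element of square minus one
    let D : Subgroup (GL (Fin n) F) := fixedBy H Q ⊓ cenIn H s
    have hD : ∀ d, d ∈ D ↔ d ∈ H ∧ Commute d s ∧ PC Q d := fun d => by
      refine ⟨fun h => ⟨h.1.1, (mem_cenIn.1 h.2).2, h.1.2⟩, fun h => ⟨⟨h.1, h.2.2⟩, mem_cenIn.2 ⟨h.1, h.2.1⟩⟩⟩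
    have hfin : Finite (cenIn H s) := Finite.of_injective (Subgroup.inclusion (cenIn_le H s)) (Subgroup.inclusion_injective _)
    have hcard : Nat.card (cenIn H s) ≤ 2 * Nat.card D := by
      haveI : Finite D := Finite.of_injective (Subgroup.inclusion (inf_le_right : D ≤ cenIn H s))
        (Subgroup.inclusion_injective _)
      by_cases hall : ∀ t ∈ cenIn H s, PC Q t
      · have : cenIn H s ≤ D := fun t ht => (hD t).2 ⟨(mem_cenIn.1 ht).1, (mem_cenIn.1 ht).2, hall t ht⟩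
        have h1 := Nat.card_le_card_of_injective _ (Subgroup.inclusion_injective this)
        omega
      push Not at hall
      obtain ⟨t₀, ht₀, hne⟩ := hall
      have hmul : ∀ t ∈ cenIn H s, ¬ PC Q t → t₀ * t ∈ D := by
        intro t ht hn
        obtain ⟨htH, hts⟩ := mem_cenIn.1 ht
        obtain ⟨ht₀H, ht₀s⟩ := mem_cenIn.1 ht₀
        refine (hD _).2 ⟨mul_mem ht₀H htH, ht₀s.mul_left hts, pc_of_scalar (hp'.sq_mem (mul_mem ht₀H htH)) ?_⟩
        have a0 := (hva t₀ ht₀H ht₀s).resolve_left fun e => hne (pc_of_scalar (hp'.sq_mem ht₀H) e)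
        have a1 := (hva t htH hts).resolve_left fun e => hn (pc_of_scalar (hp'.sq_mem htH) e)
        rw [← bar_eq_one] at a0 a1 ⊢
        simp only [map_mul, map_inv, mul_inv_eq_one] at a0 a1 ⊢
        have hcs := hp'.bar_comm hs ht₀H
        have hss := hp'.bar_sq hs
        calc bar Q * (bar t₀ * bar t) * (bar Q)⁻¹
            = bar Q * bar t₀ * (bar Q)⁻¹ * (bar Q * bar t * (bar Q)⁻¹) := by group
          _ = (bar Q * bar t₀ * (bar Q)⁻¹ * (bar t₀)⁻¹) * bar t₀ *
                ((bar Q * bar t * (bar Q)⁻¹ * (bar t)⁻¹) * bar t) := by group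
          _ = bar s * bar t₀ * (bar s * bar t) := by rw [a0, a1]
          _ = bar t₀ * (bar s * bar s) * bar t := by rw [hcs]; group
          _ = bar t₀ * bar t := by rw [hss, mul_one]
      let f : cenIn H s → Bool × D := fun t =>
        if hc : PC Q (t : GL (Fin n) F) then
          (true, ⟨t, (hD _).2 ⟨(mem_cenIn.1 t.2).1, (mem_cenIn.1 t.2).2, hc⟩⟩)
        else (false, ⟨t₀ * t, hmul t t.2 hc⟩)
      have hf : Function.Injective f := by
        intro u v e
        by_cases hu : PC Q (u : GL (Fin n) F) <;> by_cases hv : PC Q (v : GL (Fin n) F) <;> simp [f, hu, hv] at e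
        · exact e
        · exact e
      have h1 := Nat.card_le_card_of_injective f hf
      simpa [Nat.card_prod] using h1
    obtain ⟨d, hd, ed⟩ := h'.exists_nons (D := D) (fun d hd => ((hD d).1 hd).1) (by
      have h1 := (h'.card_cen₁ hs).trans hcard
      have h2 : 2 ^ (k + 1 + 1) ≤ 2 ^ (2 * k) := Nat.pow_le_pow_right two_pos (by omega)
      rw [pow_succ] at h2
      omega)
    obtain ⟨hdH, -, hpd⟩ := (hD d).1 hd
    obtain ⟨Q', hQ', hQ'd, back'⟩ := adjust Q hQ d hdH (h'.not_scalar_of_nons hdH ed) hpd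
    exact back' (hfix1 Q' hQ' d hdH ed hQ'd)
  have hLH : L ≤ H := h'.twist_le hk L hL hconj hfix
  intro g hg hga
  obtain ⟨y, z, rfl⟩ := exists_dg C.sp.two hga
  obtain ⟨hyN, -⟩ := hN y z hg
  have hyi := (dg_mem_iso_iff.1 (C.sub hg)).1
  have hdy : di y ∈ subgroupNormalizer R := di_mem_normalizer C.sp ha hb hyN
  have hQ : dg (1, y⁻¹ * z) ∈ M := by
    rw [show dg (1, y⁻¹ * z) = (di y)⁻¹ * dg (y, z) by rw [di_apply, dg_inv, ← map_mul]; simp]
    exact mul_mem (inv_mem (C.above ⟨hdy, dg_mem_iso_iff.2 ⟨hyi, hyi⟩⟩)) hg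
  rw [show dg (y, z) = di y * dg (1, y⁻¹ * z) by rw [di_apply, ← map_mul]; simp]
  refine mul_mem hdy ?_
  set Q := y⁻¹ * z
  have hQH : Q ∈ H := hLH hQ
  refine mem_normalizer_of_conj (conj_mem_of C.sp.pre ha hb (fun s hs => ?_) ?_)
  · have m1 : dg (s, s) ∈ R := hs
    have m2 : dg (s, -s) ∈ R := by
      rw [show dg (s, -s) = di s * aM by rw [di_apply, aM, ← map_mul]; simp]; exact mul_mem hs ha
    have e1 : ∀ t : GL (Fin n) F, dg (1, Q) * dg (s, t) * (dg (1, Q))⁻¹ = dg (s, Q * t * Q⁻¹) := fun t => by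
      rw [dg_inv, ← map_mul, ← map_mul]; congr 1; simp
    rw [e1, e1, show Q * -s * Q⁻¹ = -(Q * s * Q⁻¹) by rw [mul_neg, neg_mul]]
    rcases (h'.sign Q hQH s hs).conj_mem with e | e <;> rw [e]
    · exact ⟨m1, m2⟩
    · rw [neg_neg]; exact ⟨m2, m1⟩
  · rw [mul_assoc, dg_inv, bM_dg, ← mul_assoc, ← map_mul, Prod.mk_mul_mk, inv_one, one_mul, mul_one]
    refine mul_mem ?_ hb
    rcases h'.sq Q hQH with e | e
    · rw [inv_eq_of_mul_eq_one_right e]; exact hQH
    · rw [show Q⁻¹ = -Q from inv_eq_of_mul_eq_one_right (by rw [mul_neg, e, neg_neg]),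
        show dg (-Q, Q) = -(di Q * aM) by
          refine Units.ext ?_
          simp [di_apply, dg_val, aM_val, fromBlocks_multiply, fromBlocks_neg]]
      exact C.sp.neg_mem (mul_mem hQH ha)

end Blocks

variable {Γ : Matrix ι ι F} {k : ℕ} {R M : Subgroup (GL ι F)}

/-- Centralisers of non-scalar elements normalise. -/
theorem SpCtx.cent [Fintype F] (hp : (Fintype.card F).Prime) (C : SpCtx Γ (k + 1) R M) (hk : 2 ≤ k) (ih : Dich F k)
    (hS : ¬ isoGL Γ ≤ M) :
    ∀ g ∈ M, ∀ a ∈ R, a ∉ scalars ι F → PC g a → g ∈ subgroupNormalizer R := by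
  have sing : ∀ g ∈ M, ∀ a ∈ R, a * a = 1 → a ∉ scalars ι F → PC g a → g ∈ subgroupNormalizer R := by
    intro g hg a ha haa ha1 hga
    obtain ⟨b, hb, hbb, hab⟩ := C.sp.exists_partner ha haa ha1
    obtain ⟨n, L, G, hG, ea, eb, C', hback⟩ := C.exists_coords ha hb haa hbb hab
    have h1 := cent_block hp hG C' ⟨a, ha, ea⟩ ⟨b, hb, eb⟩ hk ih (fun h => hS (hback h))
    rcases hga with e | e
    · exact (coord_mem_normalizer L).1 (h1 _ ⟨g, hg, rfl⟩ (ea ▸ e.map (coordGL L)))
    · have h2 := (coord_mem_normalizer L).1 (h1 _ ⟨b * g, mul_mem (C.le hb) hg, rfl⟩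
        (ea ▸ (commute_of_ac_ac hab e.symm).symm.map (coordGL L)))
      have := mul_mem (inv_mem (show b ∈ subgroupNormalizer R from Subgroup.le_normalizer hb)) h2
      rwa [inv_mul_cancel_left] at this
  intro g hg x hx hx1 hgx
  rcases C.sp.sq x hx with hxx | hxx
  · exact sing g hg x hx hxx hx1 hgx
  obtain ⟨e, he, hxe⟩ := C.sp.pre.exists_ac hx hx1
  have main : ∀ g ∈ M, Commute g x → g ∈ subgroupNormalizer R := by
    intro g hg hgx
    obtain ⟨a, ha, haa, ha1, hax⟩ := C.sp.exists_sing (by omega) hx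
    have hr : g * a * g⁻¹ ∈ R := ((C.loc_or_all hp hk ih).resolve_right hS).part x hx hxx g hg hgx a ha hax
    have hr1 : g * a * g⁻¹ ∉ scalars ι F := fun h => ha1 ((conj_mem_scalars g).1 h)
    have hrr : g * a * g⁻¹ * (g * a * g⁻¹) = a * a := by
      rw [show g * a * g⁻¹ * (g * a * g⁻¹) = g * (a * a) * g⁻¹ by group, scalar_conj (C.sp.pre.sq_mem ha)]
    obtain ⟨m, hm, hme⟩ := C.sp.transitive (by omega) hr ha hr1 ha1 hrr
    have h1 := sing (m * g) (mul_mem (C.above hm) hg) a ha haa ha1 (pc_of_scalar (C.sp.pre.sq_mem ha)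
      (by rwa [show m * g * a * (m * g)⁻¹ = m * (g * a * g⁻¹) * m⁻¹ by group]))
    have hmN : m ∈ subgroupNormalizer R := hm.1
    have := mul_mem (inv_mem hmN) h1
    rwa [inv_mul_cancel_left] at this
  rcases hgx with h | h
  · exact main g hg h
  · have h2 := main (e * g) (mul_mem (C.le he) hg) (commute_of_ac_ac hxe h.symm).symm
    have := mul_mem (inv_mem (show e ∈ subgroupNormalizer R from Subgroup.le_normalizer he)) h2
    rwa [inv_mul_cancel_left] at this

end CfsgLib.Geo.SympNorm
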