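import Cfsg.Agent.Lib.Geo.SympNorm.Coord
import Cfsg.Agent.Lib.Geo.Asch.Span
import Cfsg.Agent.Lib.Geo.Asch.LinearMax
import Cfsg.Agent.Lib.Geo.PauliApply

/-!
# From groups of symplectic type to `IsSymp`
-/

set_option autoImplicit false

namespace CfsgLib.Geo.SympNorm

open Matrix Cfsg.Geo

variable {ι : Type} [Fintype ι] [DecidableEq ι] {F : Type*} [Field F] {R : Subgroup (GL ι F)}

/-- Exponent four, commutators and squares `±1`. -/
theorem type_facts [Finite F] (h2 : (2 : F) ≠ 0) (h2c : 2 ≤ Fintype.card ι) (hs : IsSymplecticTypeGroup 2 R)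
    (hi : ActsAbsolutelyIrreducibly (matrixSet R)) :
    (∀ x ∈ R, ∀ y ∈ R, PC x y) ∧ (∀ x ∈ R, x * x = 1 ∨ x * x = -1) ∧ (∀ x ∈ R, x ^ 4 = 1) := by
  haveI : Nonempty ι := Fintype.card_pos_iff.1 (by omega)
  haveI : Finite R := inferInstance
  haveI : Nontrivial ι := Fintype.one_lt_card_iff_nontrivial.1 (by omega)
  obtain ⟨a, ha, b, hb, hab⟩ := CfsgLib.Geo.Asch.not_abelian_of_absIrred hi
  haveI : Nontrivial R := ⟨⟨a, ha⟩, ⟨b, hb⟩, fun e => hab (by obtain rfl : a = b := congrArg Subtype.val e; rfl)⟩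
  haveI := hs.pGroup.center_nontrivial
  haveI : Fact (Nat.Prime 2) := ⟨Nat.prime_two⟩
  obtain ⟨c, hc⟩ := exists_prime_orderOf_dvd_card' (G := Subgroup.center R) 2 (by
    obtain ⟨k, hk⟩ := IsPGroup.iff_card.1 (hs.pGroup.to_subgroup (Subgroup.center R))
    have h1 : 1 < Nat.card (Subgroup.center R) := Finite.one_lt_card
    rw [hk] at h1 ⊢
    exact dvd_pow_self 2 (by rintro rfl; simp at h1))
  have hc2 : (c : R) * (c : R) = 1 := by
    rw [← Subgroup.coe_mul, ← pow_two, ← hc, pow_orderOf_eq_one, Subgroup.coe_one]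
  have hc1 : (c : R) ≠ 1 := fun e => by
    rw [show c = 1 from Subtype.ext e, orderOf_one] at hc
    norm_num at hc
  have h4' : ∀ x : R, x ^ 4 = 1 := fun x => by
    have e := hs.exponent_eq
    rw [show 2 * Nat.gcd 2 2 = 4 by decide] at e
    rw [← e, Monoid.pow_exponent_eq_one]
  obtain ⟨hcomm, hsq⟩ := CfsgLib.Techniques.symplectic_exponent_four (Q := R) ⟨hs.pGroup, hs.cyclic_of_characteristic⟩
    h4' c.2 hc2 hc1
  have hcv : ((c : R) : GL ι F) = -1 := by
    obtain ⟨d, hd⟩ := (mem_scalars_iff _).1 (CfsgLib.Geo.Asch.mem_scalars_of_commute hi (g := ((c : R) : GL ι F))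
      fun n hn => (congrArg Subtype.val (Subgroup.mem_center_iff.1 c.2 ⟨n, hn⟩)).symm)
    have e := congrArg (fun u : R => ((u : GL ι F) : Matrix ι ι F)) hc2
    simp only [Subgroup.coe_mul, Units.val_mul, hd, smul_mul_smul_comm, one_mul, Subgroup.coe_one, Units.val_one] at e
    obtain ⟨i⟩ := ‹Nonempty ι›
    have e' := congrFun₂ e i i
    simp at e'
    rcases mul_self_eq_one_iff.1 e' with h | h
    · exact absurd (Subtype.ext (Units.ext (by rw [hd, h, one_smul]; rfl))) hc1
    · exact Units.ext (by rw [hd, h, neg_smul, one_smul]; simp)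
  refine ⟨fun a ha b hb => ?_, fun a ha => ?_, fun a ha => congrArg Subtype.val (h4' ⟨a, ha⟩)⟩
  · rcases hcomm ⟨a, ha⟩ ⟨b, hb⟩ with e | e
    · left
      exact congrArg Subtype.val (commutatorElement_eq_one_iff_mul_comm.1 e)
    · right
      have e' : a * b * a⁻¹ * b⁻¹ = -1 := by
        have := congrArg Subtype.val e
        rw [hcv] at this
        exact this
      rw [mul_inv_eq_iff_eq_mul, mul_inv_eq_iff_eq_mul, neg_one_mul, neg_mul] at e'
      exact e'
  · rcases hsq ⟨a, ha⟩ with e | e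
    · exact Or.inl (congrArg Subtype.val e)
    · exact Or.inr ((congrArg Subtype.val e).trans hcv)

/-- With the scalars adjoined the group satisfies `IsSymp`. -/
theorem isSymp_of_type [Finite F] (h2 : (2 : F) ≠ 0) (hn : (Fintype.card ι : F) ≠ 0) (h2c : 2 ≤ Fintype.card ι)
    (hroot : ∃ i : F, i * i = -1) (hs : IsSymplecticTypeGroup 2 R) (hi : ActsAbsolutelyIrreducibly (matrixSet R)) :
    IsSymp (R ⊔ scalars ι F) where
  two := h2
  card_ne := hn
  scal := le_sup_right
  neg_one_mem := Subgroup.mem_sup_right (neg_mem_scalars (one_mem _))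
  sign := fun x hx y hy => by
    obtain ⟨a, ha, c, hc, rfl⟩ := Subgroup.mem_sup_of_normal_right.1 hx
    obtain ⟨b, hb, d, hd, rfl⟩ := Subgroup.mem_sup_of_normal_right.1 hy
    exact PC.mul_left (((type_facts h2 h2c hs hi).1 a ha b hb).mul_right (pc_scalar hd a).symm) (pc_scalar hc _)
  sq_mem := fun {x} hx => by
    obtain ⟨a, ha, c, hc, rfl⟩ := Subgroup.mem_sup_of_normal_right.1 hx
    rw [show a * c * (a * c) = a * (c * a) * c by group, (commute_scalar hc a).eq,
      show a * (a * c) * c = a * a * (c * c) by group]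
    refine mul_mem ?_ (mul_mem hc hc)
    rcases (type_facts h2 h2c hs hi).2.1 a ha with e | e <;> rw [e]
    exacts [one_mem _, neg_mem_scalars (one_mem _)]
  normed := fun x hx => by
    obtain ⟨a, ha, c, hc, rfl⟩ := Subgroup.mem_sup_of_normal_right.1 hx
    obtain ⟨i, hi'⟩ := hroot
    have hi0 : i ≠ 0 := by rintro rfl; simp at hi'
    obtain ⟨e, he, hee⟩ : ∃ e ∈ scalars ι F, (e * a) * (e * a) = -1 := by
      rcases (type_facts h2 h2c hs hi).2.1 a ha with h | h
      · refine ⟨sc i hi0, sc_mem _ _, ?_⟩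
        rw [show sc i hi0 * a * (sc i hi0 * a) = sc i hi0 * (a * sc i hi0) * a by group,
          ← (commute_scalar (sc_mem i hi0) a).eq, ← mul_assoc, mul_assoc (sc i hi0 * sc i hi0), h, mul_one]
        exact Units.ext (by simp [sc, smul_smul, hi'])
      · exact ⟨1, one_mem _, by rw [one_mul, h]⟩
    refine ⟨e * c⁻¹, mul_mem he (inv_mem hc), ?_⟩
    rw [show e * c⁻¹ * (a * c) = e * (c⁻¹ * a * c) by group,
      show c⁻¹ * a * c = a by rw [mul_assoc, ← (commute_scalar hc a).eq, inv_mul_cancel_left]]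
    exact hee
  span := by
    haveI : Nonempty ι := Fintype.card_pos_iff.1 (by omega)
    exact top_unique ((CfsgLib.Geo.Asch.span_eq_top hi).ge.trans
      (Submodule.span_mono (Set.image_mono (le_sup_left (b := scalars ι F)))))
  root := hroot

/-- The scalars of fourth power one lie in the group. -/
theorem scalar_mem [Fintype F] (h2 : (2 : F) ≠ 0) (h2c : 2 ≤ Fintype.card ι) (hs : IsSymplecticTypeGroup 2 R)
    (hi : ActsAbsolutelyIrreducibly (matrixSet R)) (hZ : Nat.card (Subgroup.center R) = 4) {c : GL ι F}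
    (hc : c ∈ scalars ι F) (hc4 : c ^ 4 = 1) : c ∈ R := by
  classical
  haveI : Nonempty ι := Fintype.card_pos_iff.1 (by omega)
  let φ : rootsOfUnity 4 F →* GL ι F :=
    (Units.map (Matrix.scalar ι : F →+* Matrix ι ι F).toMonoidHom).comp (rootsOfUnity 4 F).subtype
  have hin : ∀ g : GL ι F, g ∈ scalars ι F → g ^ 4 = 1 → g ∈ φ.range := by
    rintro _ ⟨d, rfl⟩ hd
    refine ⟨⟨d, ?_⟩, rfl⟩
    rw [← map_pow] at hd
    rw [mem_rootsOfUnity]
    refine Units.map_injective (f := (Matrix.scalar ι : F →+* Matrix ι ι F).toMonoidHom) ?_ (hd.trans (map_one _).symm)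
    exact fun a b e => Matrix.scalar_inj.1 e
  have hsub : (Subgroup.center R).map R.subtype ≤ φ.range := by
    rintro _ ⟨z, hz, rfl⟩
    exact hin _ (CfsgLib.Geo.Asch.mem_scalars_of_commute hi
      fun n hn => (congrArg Subtype.val (Subgroup.mem_center_iff.1 hz ⟨n, hn⟩)).symm) ((type_facts h2 h2c hs hi).2.2 _ z.2)
  have hcard : Nat.card φ.range ≤ Nat.card ((Subgroup.center R).map R.subtype) := by
    rw [Subgroup.card_map_of_injective R.subtype_injective, hZ]
    refine le_trans (Nat.card_le_card_of_surjective _ φ.rangeRestrict_surjective) ?_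
    exact card_rootsOfUnity F 4
  have he := Subgroup.eq_of_le_of_card_ge hsub hcard
  obtain ⟨z, -, rfl⟩ := he.ge (hin c hc hc4)
  exact z.2

/-- Adjoining the scalars does not change the normaliser. -/
theorem normalizer_sup_scalars [Fintype F] (h2 : (2 : F) ≠ 0) (h2c : 2 ≤ Fintype.card ι)
    (hs : IsSymplecticTypeGroup 2 R) (hi : ActsAbsolutelyIrreducibly (matrixSet R))
    (hZ : Nat.card (Subgroup.center R) = 4) : subgroupNormalizer (R ⊔ scalars ι F) = subgroupNormalizer R := by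
  have h4 := (type_facts h2 h2c hs hi).2.2
  have one : ∀ g ∈ subgroupNormalizer (R ⊔ scalars ι F), ∀ x ∈ R, g * x * g⁻¹ ∈ R := by
    intro g hg x hx
    obtain ⟨r, hr, c, hc, e⟩ := Subgroup.mem_sup_of_normal_right.1
      ((Subgroup.mem_normalizer_iff.1 hg x).1 (Subgroup.mem_sup_left hx))
    rw [← e]
    refine mul_mem hr (scalar_mem h2 h2c hs hi hZ hc ?_)
    have e4 := congrArg (· ^ 4) e
    simp only [conj_pow, h4 x hx, mul_one, mul_inv_cancel, (commute_scalar hc r).symm.mul_pow, h4 r hr, one_mul] at e4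
    exact e4
  refine le_antisymm (fun g hg => Subgroup.mem_normalizer_iff.2 fun x => ⟨one g hg x, fun hx => ?_⟩) fun g hg => ?_
  · have := one g⁻¹ (inv_mem hg) _ hx
    rwa [show g⁻¹ * (g * x * g⁻¹) * g⁻¹⁻¹ = x by group] at this
  · have two : ∀ g ∈ subgroupNormalizer R, ∀ x ∈ R ⊔ scalars ι F, g * x * g⁻¹ ∈ R ⊔ scalars ι F := by
      intro g hg x hx
      obtain ⟨r, hr, c, hc, rfl⟩ := Subgroup.mem_sup_of_normal_right.1 hx
      rw [show g * (r * c) * g⁻¹ = g * r * g⁻¹ * (g * c * g⁻¹) by group, scalar_conj hc]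
      exact Subgroup.mul_mem_sup ((Subgroup.mem_normalizer_iff.1 hg r).1 hr) hc
    refine Subgroup.mem_normalizer_iff.2 fun x => ⟨two g hg x, fun hx => ?_⟩
    have := two g⁻¹ (inv_mem hg) _ hx
    rwa [show g⁻¹ * (g * x * g⁻¹) * g⁻¹⁻¹ = x by group] at this

namespace IsSymp

variable (h : IsSymp R)

include h in
/-- A non-scalar element of square minus one is a commutator. -/
theorem mem_specialLinear {x : GL ι F} (hx : x ∈ R) (hxx : x * x = -1) (hx1 : x ∉ scalars ι F) :
    x ∈ specialLinear ι F := by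
  obtain ⟨y, -, hxy⟩ := h.exists_ac hx hx1
  have e : tv h.two x hxx * y * (tv h.two x hxx)⁻¹ * y⁻¹ = x := by
    rw [tv_ac h.two hxx hxy.symm, show y * x = -(x * y) from hxy.symm, neg_neg, mul_inv_cancel_right]
  rw [Cfsg.Geo.specialLinear, MonoidHom.mem_ker, ← e, map_mul, map_mul, map_mul, map_inv, map_inv,
    mul_inv_cancel_comm, mul_inv_cancel]

include h in
/-- The determinant of `1 + x`. -/
theorem det_tv (hbig : 3 ≤ Fintype.card ι) {x : GL ι F} (hx : x ∈ R) (hxx : x * x = -1) (hx1 : x ∉ scalars ι F) :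
    ((tv h.two x hxx : GL ι F) : Matrix ι ι F).det = (2 : F) ^ (Fintype.card ι / 2) := by
  obtain ⟨y, hy, hxy⟩ := h.exists_ac hx hx1
  obtain ⟨t, ht, ht1, htx, hty⟩ := h.exists_commute_pair hbig hx hy hxy
  obtain ⟨c, hc, hcc⟩ := h.exists_sq_one ht
  set a := c * t with ha
  have ha1 : a ∉ scalars ι F := fun e => ht1 (by
    have := mul_mem (inv_mem hc) e; rwa [ha, inv_mul_cancel_left] at this)
  have haR : a ∈ R := mul_mem (h.scal hc) ht
  obtain ⟨b, hb, hbb, hab⟩ := h.exists_partner haR ha1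
  obtain ⟨k, L, hk, ea, eb⟩ := exists_coord h.two hcc hbb hab
  have hh := h.map L
  have ha₁ : aM ∈ R.map (coordGL L).toMonoidHom := ⟨a, haR, ea⟩
  have hb₁ : bM ∈ R.map (coordGL L).toMonoidHom := ⟨b, hb, eb⟩
  have hxa : Commute x a := ((commute_scalar hc x).mul_left htx).symm
  obtain ⟨r, hr, e⟩ := hh.exists_half ha₁ hb₁ (x := coordGL L x) ⟨x, hx, rfl⟩ (ea ▸ hxa.map (coordGL L))
  have h' := hh.half ha₁ hb₁
  have hxx' : coordGL L x * coordGL L x = -1 := by rw [← map_mul, hxx, coordGL_neg_one]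
  have hrr : r * r = -1 := by
    refine di_injective ?_
    rw [map_mul, di_neg, map_one, ← hxx', di_apply]
    rcases e with e | e <;> rw [e]
    rw [← map_mul, ← map_mul]; congr 1; simp
  have hr1 : r ∉ scalars (Fin k) F := by
    intro hrs
    obtain ⟨u, hu⟩ := (mem_scalars_iff r).1 hrs
    refine h.not_both ?_ hxy
    rcases e with e | e
    · refine (commute_scalar ((coordGL_scalars L).1 ?_) y)
      rw [e]
      exact di_scalar hrs
    · have hs : coordGL L x * aM ∈ scalars (Fin k ⊕ Fin k) F := by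
        rw [e, aM, ← map_mul, show ((r, -r) : GL (Fin k) F × GL (Fin k) F) * (1, -1) = (r, r) by simp]
        exact di_scalar hrs
      rw [← ea, ← map_mul, coordGL_scalars] at hs
      have hya : Commute a y := (commute_scalar hc y).mul_left hty
      rw [show x = x * a * a⁻¹ by group]
      exact (commute_scalar hs y).mul_left hya.inv_left
  obtain ⟨s, -, hrs⟩ := h'.exists_ac hr hr1
  have hsim : (1 + (r : Matrix (Fin k) (Fin k) F)).det = (1 - (r : Matrix (Fin k) (Fin k) F)).det := by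
    have e1 : (s : Matrix (Fin k) (Fin k) F) * (1 + (r : Matrix (Fin k) (Fin k) F)) * ((s⁻¹ : GL (Fin k) F) : Matrix (Fin k) (Fin k) F) =
        1 - (r : Matrix (Fin k) (Fin k) F) := by
      rw [mul_add, add_mul, mul_one, Units.mul_inv, ← Units.val_mul, ← Units.val_mul, hrs.symm.conj_eq,
        Units.val_neg, sub_eq_add_neg]
    rw [← e1, det_units_conj]
  have hprod : (1 + (r : Matrix (Fin k) (Fin k) F)).det * (1 - (r : Matrix (Fin k) (Fin k) F)).det = 2 ^ k := by
    rw [← det_mul, show (1 + (r : Matrix (Fin k) (Fin k) F)) * (1 - (r : Matrix (Fin k) (Fin k) F)) =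
      (2 : F) • (1 : Matrix (Fin k) (Fin k) F) by
        rw [add_mul, one_mul, mul_sub, mul_one, ← Units.val_mul, hrr, two_smul]; simp; abel,
      det_smul, det_one, mul_one, Fintype.card_fin]
  rw [show Fintype.card ι / 2 = k by omega, ← hprod]
  rw [← coordAlg_det L, ← coordGL_val, coord_tv L h.two hxx hxx']
  show (1 + ((coordGL L x : GL (Fin k ⊕ Fin k) F) : Matrix (Fin k ⊕ Fin k) (Fin k ⊕ Fin k) F)).det = _
  rcases e with e | e <;> rw [e, dg_val, ← fromBlocks_one, fromBlocks_add, add_zero, det_fromBlocks_zero₂₁]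
  · conv_lhs => arg 2; rw [hsim]
  · rw [Units.val_neg, ← sub_eq_add_neg]

end IsSymp

end CfsgLib.Geo.SympNorm
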