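import Cfsg.Agent.Lib.Geo.SympNorm.SpMain
import Cfsg.Agent.Lib.Geo.SympNorm.Apply
import Cfsg.Agent.Lib.Geo.Asch.SpNotLe

/-!
# Normalisers of minus type two-groups are maximal in symplectic groups
-/

set_option autoImplicit false
set_option linter.unusedSectionVars false

namespace CfsgLib.Geo.SympNorm

open Matrix Cfsg.Geo

variable {ι : Type} [Fintype ι] [DecidableEq ι] {F : Type*} [Field F] {R : Subgroup (GL ι F)}

/-- The dimension is the square root of the number of classes modulo the centre. -/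
theorem sq_card_eq [Finite R] [Nonempty ι] (h2 : (2 : F) ≠ 0) (hsign : ∀ x ∈ R, ∀ y ∈ R, PC x y)
    (hi : ActsAbsolutelyIrreducibly (matrixSet R)) :
    Fintype.card ι ^ 2 = Nat.card (↥R ⧸ Subgroup.center R) := by
  classical
  haveI := Fintype.ofFinite (↥R ⧸ Subgroup.center R)
  let e : ↥R ⧸ Subgroup.center R → GL ι F := fun q => (q.out : R)
  have he : ∀ q, e q ∈ R := fun q => (q.out : R).2
  let E : ↥R ⧸ Subgroup.center R → Matrix ι ι F := fun q => (e q : Matrix ι ι F)
  have hdist : ∀ q l, q ≠ l → ∃ t ∈ R, ¬ Commute ((e q)⁻¹ * e l) t := by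
    intro q l hql
    by_contra! hc
    refine hql ?_
    rw [← QuotientGroup.out_eq' q, ← QuotientGroup.out_eq' l, QuotientGroup.eq]
    refine Subgroup.mem_center_iff.2 fun t => Subtype.ext ?_
    exact (hc t t.2).eq.symm
  let χ : GL ι F → GL ι F → F := fun t x => if Commute x t then 1 else -1
  have hχ : ∀ t ∈ R, ∀ q, (t : Matrix ι ι F) * E q * ((t⁻¹ : GL ι F) : Matrix ι ι F) = χ t (e q) • E q := by
    intro t ht q
    show (t : Matrix ι ι F) * (e q : Matrix ι ι F) * _ = _
    rw [← Units.val_mul, ← Units.val_mul]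
    by_cases hc : Commute (e q) t
    · simp only [χ, if_pos hc]
      rw [hc.symm.eq, mul_inv_cancel_right, one_smul]
    · simp only [χ, if_neg hc]
      have hac : Ac (e q) t := (hsign _ (he q) t ht).resolve_left hc
      rw [hac.symm.conj_eq, Units.val_neg, neg_one_smul]
  have ind : ∀ (s : Finset (↥R ⧸ Subgroup.center R)) (c : ↥R ⧸ Subgroup.center R → F),
      ∑ q ∈ s, c q • E q = 0 → ∀ q ∈ s, c q = 0 := by
    intro s
    induction s using Finset.strongInduction with
    | H s ih =>
      intro c hc q hq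
      by_cases hs : ∀ l ∈ s, l = q
      · rw [Finset.sum_eq_single q (fun l hl hlq => absurd (hs l hl) hlq) (absurd hq)] at hc
        exact (smul_eq_zero.1 hc).resolve_right (Units.ne_zero _)
      push Not at hs
      obtain ⟨l, hl, hlq⟩ := hs
      obtain ⟨t, ht, htn⟩ := hdist q l (Ne.symm hlq)
      have hne : χ t (e q) - χ t (e l) ≠ 0 := by
        by_cases hq' : Commute (e q) t <;> by_cases hl' : Commute (e l) t <;> simp only [χ, hq', hl', if_true, if_false]
        · exact absurd (hq'.inv_left.mul_left hl') htn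
        · intro e'; exact h2 (by linear_combination e')
        · intro e'; exact h2 (by linear_combination -e')
        · exact absurd (commute_of_ac_ac ((hsign _ (he q) t ht).resolve_left hq').inv_left.symm
            ((hsign _ (he l) t ht).resolve_left hl').symm).symm htn
      have hsum : ∑ r ∈ s.erase l, (c r * (χ t (e r) - χ t (e l))) • E r = 0 := by
        rw [Finset.sum_erase s (by rw [sub_self, mul_zero, zero_smul])]
        have h1 := congrArg (fun X => (t : Matrix ι ι F) * X * ((t⁻¹ : GL ι F) : Matrix ι ι F)) hc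
        simp only [Finset.mul_sum, Finset.sum_mul, Matrix.mul_smul, Matrix.smul_mul, mul_zero, zero_mul, hχ t ht,
          smul_smul] at h1
        simp only [mul_sub, sub_smul, Finset.sum_sub_distrib, h1]
        rw [Finset.sum_congr rfl fun r _ => show (c r * χ t (e l)) • E r = χ t (e l) • c r • E r by
          rw [smul_smul, mul_comm], ← Finset.smul_sum, hc, smul_zero, sub_zero]
      exact (mul_eq_zero.1 (ih _ (Finset.erase_ssubset hl) _ hsum q
        (Finset.mem_erase.2 ⟨Ne.symm hlq, hq⟩))).resolve_right hne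
  have hli : LinearIndependent F E :=
    Fintype.linearIndependent_iff.2 fun c hc q => ind Finset.univ c hc q (Finset.mem_univ q)
  have hsp : ⊤ ≤ Submodule.span F (Set.range E) := by
    rw [← CfsgLib.Geo.Asch.span_eq_top hi, Submodule.span_le]
    rintro _ ⟨x, hx, rfl⟩
    set q : ↥R ⧸ Subgroup.center R := ((⟨x, hx⟩ : R) : ↥R ⧸ Subgroup.center R)
    have hz : (q.out)⁻¹ * ⟨x, hx⟩ ∈ Subgroup.center R := by
      rw [← QuotientGroup.eq, QuotientGroup.out_eq']
    have hs : (e q)⁻¹ * x ∈ scalars ι F := CfsgLib.Geo.Asch.mem_scalars_of_commute hi fun n hn =>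
      (congrArg Subtype.val (Subgroup.mem_center_iff.1 hz ⟨n, hn⟩)).symm
    obtain ⟨d, hd⟩ := (mem_scalars_iff _).1 hs
    show (x : Matrix ι ι F) ∈ _
    rw [show x = e q * ((e q)⁻¹ * x) by group, Units.val_mul, hd, Matrix.mul_smul, Matrix.mul_one]
    exact Submodule.smul_mem _ _ (Submodule.subset_span ⟨q, rfl⟩)
  have := Module.finrank_eq_card_basis (Module.Basis.mk hli hsp)
  rw [Module.finrank_matrix, Module.finrank_self, mul_one] at this
  rw [Nat.card_eq_fintype_card, ← this, sq]

/-- Maximality in the symplectic group. -/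
theorem isMaximalIn_symplectic [Fintype F] (hp : (Fintype.card F).Prime) (h2 : (2 : F) ≠ 0) {m k : ℕ} (hm : 2 ≤ m)
    {R : Subgroup (GL (Fin m ⊕ Fin m) F)} (hR : IsSymplecticTypeGroup 2 R)
    (hirr : ActsAbsolutelyIrreducibly (matrixSet R)) (hRD : R ≤ Cfsg.spGL m F)
    (hcard : Nat.card R = 2 ^ (1 + 2 * k)) (hZ : Nat.card (Subgroup.center R) = 2) (hminus : IsOfMinusType k R) :
    Cfsg.Geo.IsMaximalIn (Cfsg.spGL m F) (subgroupNormalizer R ⊓ Cfsg.spGL m F) := by
  classical
  haveI : Nonempty (Fin m ⊕ Fin m) := ⟨Sum.inl ⟨0, by omega⟩⟩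
  haveI : Nontrivial (Fin m ⊕ Fin m) := ⟨⟨Sum.inl ⟨0, by omega⟩, Sum.inr ⟨0, by omega⟩, by simp⟩⟩
  obtain ⟨hsign, hsq, -⟩ := type_facts h2 (by simp; omega) hR hirr
  have hneg : (-1 : GL (Fin m ⊕ Fin m) F) ∈ R := by
    obtain ⟨a, ha, b, hb, hab⟩ := CfsgLib.Geo.Asch.not_abelian_of_absIrred hirr
    have hac : Ac a b := (hsign a ha b hb).resolve_left hab
    have := mul_mem (mul_mem (mul_mem ha hb) (inv_mem ha)) (inv_mem hb)
    rwa [hac.conj_eq, neg_mul, mul_inv_cancel] at this
  haveI : Finite R := Nat.finite_of_card_ne_zero (by rw [hcard]; positivity)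
  have hd := sq_card_eq h2 hsign hirr
  have hq := Subgroup.card_eq_card_quotient_mul_card_subgroup (Subgroup.center R)
  rw [hcard, hZ, ← hd, add_comm 1, pow_succ, mul_comm 2 k, pow_mul] at hq
  have hdim : Fintype.card (Fin m ⊕ Fin m) = 2 ^ k :=
    (Nat.pow_left_injective two_ne_zero (Nat.eq_of_mul_eq_mul_right two_pos hq)).symm
  have hk : 2 ≤ k := by
    rcases k with _ | _ | k
    · simp at hdim; omega
    · simp at hdim; omega
    · omega
  have hS : IsSp (Matrix.J (Fin m) F) k R :=
    { two := h2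
      gram := isAltGram_J m
      le := hRD.trans (isoGL_J m).ge
      neg_one_mem := hneg
      sign := hsign
      sq := hsq
      span := CfsgLib.Geo.Asch.span_eq_top hirr
      dim := hdim
      card := hcard
      minus := fun A hA hcomm hsq' => by
        have hc : Nat.card (A.subgroupOf R) = Nat.card A :=
          Nat.card_congr (Subgroup.subgroupOfEquivOfLe hA).toEquiv
        rw [← hc]
        exact hminus _ ⟨⟨fun x y => Subtype.ext (Subtype.ext (hcomm _ x.2 _ y.2))⟩⟩
          fun x hx => Subtype.ext (hsq' _ hx) }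
  refine ⟨lt_of_le_of_ne inf_le_right fun e =>
    CfsgLib.Geo.Asch.not_spGL_le_subgroupNormalizer hm h2 hR hirr hRD (e.ge.trans inf_le_left), fun M hM hMS => ?_⟩
  have C : SpCtx (Matrix.J (Fin m) F) k R M := ⟨hS, by rwa [isoGL_J], by rwa [isoGL_J]⟩
  rcases sp_dichotomy hp hk _ _ R M C with h | h
  · exact Or.inl (le_antisymm (fun g hg => ⟨h hg, hMS hg⟩) hM)
  · exact Or.inr (le_antisymm hMS (by rwa [isoGL_J] at h))

end CfsgLib.Geo.SympNorm
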