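import Cfsg.Agent.Lib.Geo.SympNorm.SpProj

/-!
# Twisting elements fixing an element of `R` lie in `R`
-/

set_option autoImplicit false
set_option linter.unusedSectionVars false

namespace CfsgLib.Geo.SympNorm

open Matrix Cfsg.Geo

variable {ι : Type} [Fintype ι] [DecidableEq ι] {F : Type*} [Field F]

/-- The possible effects of a normalised product. -/
theorem pr_act (h2 : (2 : F) ≠ 0) {y z : GL ι F} (hy : y * y = -1) (hz : z * z = -1) {w : GL ι F} (hwy : PC w y)
    (hwz : PC w z) (hyz : PC y z) : ∃ e ∈ ({1, y, z, y * z} : Set (GL ι F)),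
      pr h2 y z hy hz * w * (pr h2 y z hy hz)⁻¹ * (w * e)⁻¹ ∈ scalars ι F := by
  have hn1 : (-1 : GL ι F) ∈ scalars ι F := neg_mem_scalars (one_mem _)
  have neg_case : ∀ u : GL ι F, -u * u⁻¹ ∈ scalars ι F := fun u => by rw [neg_mul, mul_inv_cancel]; exact hn1
  have hconj : ∀ g : GL ι F, pr h2 y z hy hz * g * (pr h2 y z hy hz)⁻¹ =
      tv h2 y hy * (tv h2 z hz * g * (tv h2 z hz)⁻¹) * (tv h2 y hy)⁻¹ := fun g => by
    rw [pr, show sc (2 : F)⁻¹ (inv_ne_zero h2) * (tv h2 y hy * tv h2 z hz) * g *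
        (sc (2 : F)⁻¹ (inv_ne_zero h2) * (tv h2 y hy * tv h2 z hz))⁻¹ =
      sc (2 : F)⁻¹ (inv_ne_zero h2) * (tv h2 y hy * (tv h2 z hz * g * (tv h2 z hz)⁻¹) * (tv h2 y hy)⁻¹) *
        (sc (2 : F)⁻¹ (inv_ne_zero h2))⁻¹ by group, (commute_scalar (sc_mem _ _) _).eq, mul_inv_cancel_right]
  rcases hwz with a | a
  · rcases hwy with b | b
    · exact ⟨1, by simp, by
        rw [(pr_commute h2 hy hz b a).eq, mul_inv_cancel_right, mul_one, mul_inv_cancel]; exact one_mem _⟩
    · exact ⟨y, by simp, by rw [pr_ac h2 hy hz b a]; exact neg_case _⟩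
  · have e1 : tv h2 z hz * w * (tv h2 z hz)⁻¹ = -(w * z) := tv_ac h2 hz a
    rcases (PC.mul_left hwy hyz.symm : PC (w * z) y) with c | c
    · refine ⟨z, by simp, ?_⟩
      rw [hconj, e1, mul_neg, neg_mul, (tv_commute h2 hy c).eq, mul_inv_cancel_right]
      exact neg_case _
    · refine ⟨y * z, by simp, ?_⟩
      rw [hconj, e1, mul_neg, neg_mul, tv_ac h2 hy c, neg_neg]
      rcases hyz with d | d
      · rw [mul_assoc w z y, ← d.eq, mul_inv_cancel]; exact one_mem _
      · rw [mul_assoc w z y, show z * y = -(y * z) from d.symm, mul_neg]; exact neg_case _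

theorem pc_of_eq {g x y : GL ι F} (hx : x * x ∈ scalars ι F) (e : g * x * g⁻¹ = y) (hy : y * x⁻¹ ∈ scalars ι F) :
    PC g x := pc_of_scalar hx (by rwa [e])

/-- Twists fixing something lie in `R`, hence all twists do. -/
theorem IsSp.twist_le {G : Matrix ι ι F} {k : ℕ} {H : Subgroup (GL ι F)} (h : IsSp G k H) (hk : 2 ≤ k)
    (L : Subgroup (GL ι F)) (hL : L ≤ subgroupNormalizer H ⊓ isoGL G)
    (hconj : ∀ n ∈ subgroupNormalizer H ⊓ isoGL G, ∀ Q ∈ L, n * Q * n⁻¹ ∈ L)
    (hfix : ∀ Q ∈ L, ∀ d ∈ H, d ∉ scalars ι F → PC Q d → Q ∈ H) : L ≤ H := by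
  classical
  intro Q hQ
  by_contra hQH
  have hnf : ∀ d ∈ H, d ∉ scalars ι F → ¬ PC Q d := fun d hd hd1 hp => hQH (hfix Q hQ d hd hd1 hp)
  have hmap : ∀ d ∈ H, Q * d * Q⁻¹ ∈ H := fun d hd => (Subgroup.mem_normalizer_iff.1 (hL hQ).1 d).1 hd
  have hsqQ : ∀ d ∈ H, Q * d * Q⁻¹ * (Q * d * Q⁻¹) = d * d := fun d hd => by
    rw [show Q * d * Q⁻¹ * (Q * d * Q⁻¹) = Q * (d * d) * Q⁻¹ by group, scalar_conj (h.pre.sq_mem hd)]
  -- the commutator with a normalised product
  have key : ∀ y ∈ H, ∀ z ∈ H, ∀ (ey : y * y = -1) (ez : z * z = -1) (ey' : Q * y * Q⁻¹ * (Q * y * Q⁻¹) = -1)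
      (ez' : Q * z * Q⁻¹ * (Q * z * Q⁻¹) = -1),
      (∃ t ∈ H, t ∉ scalars ι F ∧ Commute t y ∧ Commute t z ∧ Commute t (Q * y * Q⁻¹) ∧ Commute t (Q * z * Q⁻¹)) →
      ∀ w ∈ H, pr h.two (Q * y * Q⁻¹) (Q * z * Q⁻¹) ey' ez' * w * (pr h.two (Q * y * Q⁻¹) (Q * z * Q⁻¹) ey' ez')⁻¹ *
        (pr h.two y z ey ez * w * (pr h.two y z ey ez)⁻¹)⁻¹ ∈ scalars ι F := by
    rintro y hy z hz ey ez ey' ez' ⟨t, ht, ht1, c1, c2, c3, c4⟩ w hw
    set n := pr h.two y z ey ez
    set n' := pr h.two (Q * y * Q⁻¹) (Q * z * Q⁻¹) ey' ez'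
    have hn := h.pr_mem hy hz ey ez
    have hn' : Q * n * Q⁻¹ = n' := pr_conj h.two ey ez Q ey' ez' rfl rfl
    have hC : n' * n⁻¹ ∈ L := by
      rw [← hn', show Q * n * Q⁻¹ * n⁻¹ = Q * (n * Q⁻¹ * n⁻¹) by group]
      exact mul_mem hQ (hconj n hn _ (inv_mem hQ))
    have hCt : Commute (n' * n⁻¹) t :=
      (pr_commute h.two ey' ez' c3 c4).mul_left (pr_commute h.two ey ez c1 c2).inv_left
    have hCH := hfix _ hC t ht ht1 (Or.inl hCt)
    have hnw : n * w * n⁻¹ ∈ H := (Subgroup.mem_normalizer_iff.1 hn.1 w).1 hw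
    have e : n' * w * n'⁻¹ = n' * n⁻¹ * (n * w * n⁻¹) * (n' * n⁻¹)⁻¹ := by group
    rw [e]
    rcases (h.sign _ hCH _ hnw).conj_mem with e' | e' <;> rw [e']
    · rw [mul_inv_cancel]; exact one_mem _
    · rw [neg_mul, mul_inv_cancel]; exact neg_mem_scalars (one_mem _)
  -- the effect on `w` anticommuting with `y` and commuting with `z`
  have key' : ∀ y ∈ H, ∀ z ∈ H, ∀ (_ : y * y = -1) (_ : z * z = -1),
      (∃ t ∈ H, t ∉ scalars ι F ∧ Commute t y ∧ Commute t z ∧ Commute t (Q * y * Q⁻¹) ∧ Commute t (Q * z * Q⁻¹)) →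
      ∀ w ∈ H, Ac w y → Commute w z → ∃ e ∈ ({1, Q * y * Q⁻¹, Q * z * Q⁻¹, Q * y * Q⁻¹ * (Q * z * Q⁻¹)} : Set (GL ι F)),
        y * e⁻¹ ∈ scalars ι F := by
    intro y hy z hz ey ez ht w hw hwy hwz
    have ey' : Q * y * Q⁻¹ * (Q * y * Q⁻¹) = -1 := by rw [hsqQ y hy, ey]
    have ez' : Q * z * Q⁻¹ * (Q * z * Q⁻¹) = -1 := by rw [hsqQ z hz, ez]
    have h1 := key y hy z hz ey ez ey' ez' ht w hw
    rw [pr_ac h.two ey ez hwy hwz] at h1
    obtain ⟨e, he, h3⟩ := pr_act h.two ey' ez' (h.sign w hw _ (hmap y hy)) (h.sign w hw _ (hmap z hz))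
      (h.sign _ (hmap y hy) _ (hmap z hz))
    refine ⟨e, he, ?_⟩
    set X := pr h.two (Q * y * Q⁻¹) (Q * z * Q⁻¹) ey' ez' * w * (pr h.two (Q * y * Q⁻¹) (Q * z * Q⁻¹) ey' ez')⁻¹
    have h4 : -(w * y) * (w * e)⁻¹ ∈ scalars ι F := by
      have := mul_mem (inv_mem h1) h3
      rwa [show (X * (-(w * y))⁻¹)⁻¹ * (X * (w * e)⁻¹) = -(w * y) * (w * e)⁻¹ by group] at this
    rw [neg_mul] at h4
    have h5 := neg_mem_scalars h4
    rw [neg_neg, show w * y * (w * e)⁻¹ = w * (y * e⁻¹) * w⁻¹ by group] at h5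
    exact (conj_mem_scalars w).1 h5
  -- every element of square minus one anticommutes with its image and is the product of the next two
  have main : ∀ r ∈ H, r * r = -1 → Ac r (Q * r * Q⁻¹) ∧
      r * (Q * r * Q⁻¹ * (Q * (Q * r * Q⁻¹) * Q⁻¹))⁻¹ ∈ scalars ι F := by
    intro r hr er
    set r₁ := Q * r * Q⁻¹ with hr₁
    set r₂ := Q * r₁ * Q⁻¹ with hr₂
    have hr₁H := hmap r hr
    have hr₂H := hmap r₁ hr₁H
    have er₁ : r₁ * r₁ = -1 := by rw [hr₁, hsqQ r hr, er]
    have hr1 := h.not_scalar_of_nons hr er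
    have hne : r * r₁⁻¹ ∉ scalars ι F := fun e => hnf r hr hr1 (pc_of_eq (h.pre.sq_mem hr) rfl (by
      have := inv_mem e; rwa [_root_.mul_inv_rev, inv_inv] at this))
    obtain ⟨t, ht, ht1, c1, c2, c3⟩ : ∃ t ∈ H, t ∉ scalars ι F ∧ Commute t r ∧ Commute t r₁ ∧ Commute t r₂ := by
      have hc : 2 < Nat.card (cenIn (cenIn (cenIn H r) r₁) r₂) := by
        have h1 : 2 ^ (2 * k) ≤ 4 * Nat.card (cenIn (cenIn (cenIn H r) r₁) r₂) := h.card_cen₃ hr hr₁H hr₂H
        have h2 : 2 ^ 4 ≤ 2 ^ (2 * k) := Nat.pow_le_pow_right two_pos (by omega)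
        omega
      obtain ⟨t, ht, ht1⟩ :=
        h.exists_not_scalar (((cenIn_le _ _).trans (cenIn_le _ _)).trans (cenIn_le _ _)) hc
      obtain ⟨a, c3⟩ := mem_cenIn.1 ht
      obtain ⟨a, c2⟩ := mem_cenIn.1 a
      exact ⟨t, (mem_cenIn.1 a).1, ht1, (mem_cenIn.1 a).2, c2, c3⟩
    obtain ⟨w, hw, hwr, hwr₁⟩ : ∃ w ∈ H, Ac w r ∧ Commute w r₁ := by
      rcases h.sign r hr r₁ hr₁H with c | c
      · obtain ⟨d, hd, hdr₁, hrd⟩ := h.pre.exists_ac_in hr₁H hr c hr1 hne
        exact ⟨d, hd, hrd.symm, hdr₁⟩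
      · exact ⟨r₁, hr₁H, c.symm, Commute.refl r₁⟩
    obtain ⟨e, he, hre⟩ := key' r hr r₁ hr₁H er er₁ ⟨t, ht, ht1, c1, c2, c2, c3⟩ w hw hwr hwr₁
    have hgood : r * (r₁ * r₂)⁻¹ ∈ scalars ι F := by
      simp only [Set.mem_insert_iff, Set.mem_singleton_iff] at he
      rcases he with rfl | rfl | rfl | rfl
      · exact absurd (by simpa using hre) hr1
      · exact absurd hre hne
      · exfalso
        refine hnf (r * r₁) (mul_mem hr hr₁H) (fun hs => hne ((h.pre.mul_inv_iff hr₁H).2 hs))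
          (pc_of_eq (h.pre.sq_mem (mul_mem hr hr₁H)) (y := r₁ * r₂) (by rw [hr₂, hr₁]; group) ?_)
        rcases h.eq_or_neg_of_scalar hr hr₂H hre with e' | e' <;>
          rcases h.sign r₁ hr₁H r₂ hr₂H with c | c
        · rw [e', c.eq, mul_inv_cancel]; exact one_mem _
        · rw [e', show r₁ * r₂ = -(r₂ * r₁) from c, neg_mul, mul_inv_cancel]; exact neg_mem_scalars (one_mem _)
        · rw [e', c.eq, neg_mul, inv_neg, mul_neg, mul_inv_cancel]; exact neg_mem_scalars (one_mem _)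
        · rw [e', show r₁ * r₂ = -(r₂ * r₁) from c, neg_mul r₂ r₁, mul_inv_cancel]; exact one_mem _
      · exact hre
    refine ⟨(h.sign r hr r₁ hr₁H).resolve_left fun c => ?_, hgood⟩
    have c' : Commute r₁ r₂ := commute_conj c Q
    have e2 : r₂ * r₂ = -1 := by rw [hr₂, hsqQ r₁ hr₁H, er₁]
    have e1 := h.sq_eq_of_scalar hr (mul_mem hr₁H hr₂H) hgood
    rw [er, commute_sq_mul c', er₁, e2, neg_mul_neg, one_mul] at e1
    exact h.neg_one_ne e1
  obtain ⟨r, hr, er⟩ := h.exists_nons le_rfl (by rw [h.card]; exact Nat.pow_le_pow_right two_pos (by omega))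
  obtain ⟨hac, hrr⟩ := main r hr er
  set r₁ := Q * r * Q⁻¹ with hr₁
  have hr₁H := hmap r hr
  obtain ⟨t, ht, et, htr, htr₁⟩ := h.exists_nons₂ hk hr hr₁H
  set t₁ := Q * t * Q⁻¹ with ht₁
  have ht₁H := hmap t ht
  have et₁ : t₁ * t₁ = -1 := by rw [ht₁, hsqQ t ht, et]
  have c1 : Commute t₁ r₁ := commute_conj htr Q
  have c2 : Commute t₁ r := by
    have e : Commute t₁ (r₁ * (Q * r₁ * Q⁻¹)) := c1.mul_right (commute_conj htr₁ Q)
    have := ((commute_scalar hrr t₁).symm).mul_right e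
    rwa [inv_mul_cancel_right] at this
  rcases Nat.lt_or_ge k 3 with hk3 | hk3
  · obtain rfl : k = 2 := by omega
    obtain ⟨hact, -⟩ := main t ht et
    -- an elementary abelian group of order eight
    set e₁ := r * t with he₁
    set e₂ := r₁ * t₁ with he₂
    have he₁H : e₁ ∈ H := mul_mem hr ht
    have he₂H : e₂ ∈ H := mul_mem hr₁H ht₁H
    have s₁ : e₁ * e₁ = 1 := by rw [he₁, commute_sq_mul htr.symm, er, et, neg_mul_neg, one_mul]
    have s₂ : e₂ * e₂ = 1 := by
      rw [he₂, commute_sq_mul c1.symm, hsqQ r hr, er, et₁, neg_mul_neg, one_mul]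
    have c12 : Commute e₁ e₂ := by
      have a1 : Ac r e₂ := hac.mul_right c2.symm
      have a2 : Ac t e₂ := Ac.mul_right' htr₁ hact
      exact (commute_of_ac_ac a1.symm a2.symm).symm
    have f1 : Commute e₁ r := (Commute.refl r).mul_left htr
    have f2 : Ac e₂ r := (hac.mul_right c2.symm).symm
    let A := Subgroup.closure ({-1, e₁, e₂} : Set (GL ι F))
    have hAH : A ≤ H := (Subgroup.closure_le _).2 (by
      rintro x (rfl | rfl | rfl)
      exacts [h.neg_one_mem, he₁H, he₂H])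
    have hgen : ∀ x ∈ ({-1, e₁, e₂} : Set (GL ι F)), ∀ y ∈ ({-1, e₁, e₂} : Set (GL ι F)), x * y = y * x := by
      rintro x (rfl | rfl | rfl) y (rfl | rfl | rfl) <;> first | rfl | simp | exact c12.eq | exact c12.eq.symm
    have hAc : ∀ x ∈ A, ∀ y ∈ A, Commute x y := by
      intro x hx y hy
      exact congrArg Subtype.val ((Subgroup.isMulCommutative_closure (k := ({-1, e₁, e₂} : Set (GL ι F))) hgen).is_comm.comm
        ⟨x, hx⟩ ⟨y, hy⟩)
    have hA1 : ∀ x ∈ A, x * x = 1 := by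
      intro x hx
      induction hx using Subgroup.closure_induction with
      | mem x hx => rcases hx with rfl | rfl | rfl <;> first | exact s₁ | exact s₂ | simp
      | one => simp
      | mul x y hx hy ex ey => rw [commute_sq_mul (hAc x hx y hy), ex, ey, one_mul]
      | inv x _ ex => rw [← _root_.mul_inv_rev, ex, inv_one]
    have hlt := h.minus A hAH hAc hA1
    haveI := h.finite
    haveI : Finite A := Finite.of_injective (Subgroup.inclusion hAH) (Subgroup.inclusion_injective hAH)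
    let f : Bool × Bool × Bool → A := fun p =>
      ⟨(bif p.1 then -1 else 1) * (bif p.2.1 then e₁ else 1) * (bif p.2.2 then e₂ else 1), by
        refine mul_mem (mul_mem ?_ ?_) ?_ <;> [cases p.1; cases p.2.1; cases p.2.2] <;>
          first
            | exact one_mem A
            | exact Subgroup.subset_closure (by simp)⟩
    have hf : Function.Injective f := by
      rintro ⟨a, b, c⟩ ⟨a', b', c'⟩ e
      have e' := congrArg Subtype.val e
      simp only [f] at e'
      have cm : ∀ a b : Bool, Commute ((bif a then -1 else 1) * (bif b then e₁ else 1) : GL ι F) r := by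
        intro a b
        refine Commute.mul_left ?_ ?_ <;> [cases a; cases b] <;>
          first
            | exact Commute.one_left r
            | exact f1
            | exact (Commute.one_left r).neg_left
      have hcc : c = c' := by
        cases c <;> cases c' <;> simp at e' <;> try rfl
        · exact (h.pre.not_both (e' ▸ cm a b) (Ac.mul_left' (cm a' b') f2)).elim
        · exact (h.pre.not_both (e'.symm ▸ cm a' b') (Ac.mul_left' (cm a b) f2)).elim
      subst hcc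
      simp at e'
      have he₁1 : e₁ ∉ scalars ι F := by
        intro hs
        have := commute_conj (commute_scalar hs r₁) Q
        exact h.pre.not_both (commute_scalar hs r₁) (Ac.mul_left hac.symm.symm htr₁)
      have hb : b = b' := by
        cases b <;> cases b' <;> try rfl
        all_goals exfalso
        all_goals apply he₁1
        all_goals cases a <;> cases a' <;> simp at e' <;>
          first
            | (rw [e']; exact one_mem _)
            | (rw [← e']; exact one_mem _)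
            | (rw [e']; exact neg_mem_scalars (one_mem _))
            | (rw [← e']; exact neg_mem_scalars (one_mem _))
            | (rw [← neg_eq_iff_eq_neg] at e'; rw [← e']; exact neg_mem_scalars (one_mem _))
            | (rw [neg_eq_iff_eq_neg] at e'; rw [e']; exact neg_mem_scalars (one_mem _))
      subst hb
      cases a <;> cases a' <;> try rfl
      all_goals exfalso
      all_goals
        have hX : ∀ X : GL ι F, X = -X → False := fun X eX =>
          h.neg_one_ne (mul_right_cancel (b := X) (by rw [neg_one_mul, one_mul, ← eX]))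
      all_goals simp at e'
      all_goals first
        | exact hX _ e'
        | exact hX _ e'.symm
    have := Nat.card_le_card_of_injective f hf
    simp at this
    omega
  · have hc : 2 < Nat.card (cenIn (cenIn (cenIn (cenIn H r) t) r₁) t₁) := by
      have h1 : 2 ^ (2 * k) ≤ 4 * Nat.card (cenIn (cenIn (cenIn H r) t) r₁) := h.card_cen₃ hr ht hr₁H
      have h2 : Nat.card (cenIn (cenIn (cenIn H r) t) r₁) ≤ 2 * Nat.card (cenIn (cenIn (cenIn (cenIn H r) t) r₁) t₁) :=
        h.card_le_cenIn (((cenIn_le (cenIn (cenIn H r) t) r₁).trans (cenIn_le _ t)).trans (cenIn_le H r)) ht₁H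
      have h3 : 2 ^ 6 ≤ 2 ^ (2 * k) := Nat.pow_le_pow_right two_pos (by omega)
      omega
    obtain ⟨u, hu, hu1⟩ :=
      h.exists_not_scalar ((((cenIn_le _ _).trans (cenIn_le _ _)).trans (cenIn_le _ _)).trans (cenIn_le _ _)) hc
    obtain ⟨a, d4⟩ := mem_cenIn.1 hu
    obtain ⟨a, d3⟩ := mem_cenIn.1 a
    obtain ⟨a, d2⟩ := mem_cenIn.1 a
    obtain ⟨e, he, hre⟩ := key' r hr t ht er et ⟨u, (mem_cenIn.1 a).1, hu1, (mem_cenIn.1 a).2, d2, d3, d4⟩
      r₁ hr₁H hac.symm htr₁.symm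
    refine h.pre.not_both ?_ hac
    have : Commute e r₁ := by
      simp only [Set.mem_insert_iff, Set.mem_singleton_iff] at he
      rcases he with rfl | rfl | rfl | rfl
      · exact Commute.one_left _
      · exact Commute.refl _
      · exact c1
      · exact (Commute.refl _).mul_left c1
    have := (commute_scalar hre r₁).mul_left this
    rwa [inv_mul_cancel_right] at this

end CfsgLib.Geo.SympNorm
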