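import Cfsg.Agent.Lib.Geo.SympNorm.Basic

/-!
# Elements `1 + x`, transitivity, dihedral subgroups modulo scalars
-/

set_option autoImplicit false

namespace CfsgLib.Geo.SympNorm

open Matrix Cfsg.Geo

variable {ι : Type} [Fintype ι] [DecidableEq ι] {F : Type*} [Field F]

/-- Two involutions generate a dihedral group. -/
theorem dihedral {G : Type*} [Group G] (S T : G) (hS : S * S = 1) (hT : T * T = 1) (hfin : IsOfFinOrder (S * T)) :
    (∃ h ∈ Subgroup.closure ({S, T} : Set G), h * S * h⁻¹ = T) ∨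
      ∃ w ∈ Subgroup.closure ({S, T} : Set G), w ≠ 1 ∧ w * w = 1 ∧ Commute w S ∧ Commute w T ∧
        ∃ h ∈ Subgroup.closure ({S, T} : Set G), w * S = h * S * h⁻¹ ∨ w * S = h * T * h⁻¹ := by
  set t := S * T with ht
  have hSi : S⁻¹ = S := inv_eq_of_mul_eq_one_right hS
  have hTi : T⁻¹ = T := inv_eq_of_mul_eq_one_right hT
  have hinv : S * t * S⁻¹ = t⁻¹ := by
    rw [ht, _root_.mul_inv_rev, hSi, hTi, ← mul_assoc, hS, one_mul]
  have hflip : ∀ i : ℕ, S * (t ^ i)⁻¹ = t ^ i * S := fun i => by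
    have := conj_pow (i := i) (a := S) (b := t)
    rw [hinv, inv_pow] at this
    rw [this, hSi, ← mul_assoc, ← mul_assoc, hS, one_mul]
  have hmem : ∀ i : ℕ, t ^ i ∈ Subgroup.closure ({S, T} : Set G) := fun i =>
    pow_mem (mul_mem (Subgroup.subset_closure (by simp)) (Subgroup.subset_closure (by simp))) i
  have hk := hfin.orderOf_pos
  rcases Nat.even_or_odd (orderOf t) with ⟨l, hl⟩ | ⟨j, hj⟩
  · right
    set w := t ^ l with hw
    have hww : w * w = 1 := by rw [hw, ← pow_add, ← hl, pow_orderOf_eq_one]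
    have hwi : w⁻¹ = w := inv_eq_of_mul_eq_one_right hww
    have hwS : Commute w S := by
      have := hflip l
      rw [← hw, hwi] at this
      exact this.symm
    have hwT : Commute w T := by
      rw [show T = S * t by rw [ht, ← mul_assoc, hS, one_mul]]
      exact hwS.mul_right ((Commute.refl t).pow_left l)
    refine ⟨w, hmem l, fun e => ?_, hww, hwS, hwT, ?_⟩
    · exact pow_ne_one_of_lt_orderOf (by omega) (by omega) e
    rcases Nat.even_or_odd l with ⟨i, hi⟩ | ⟨i, hi⟩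
    · refine ⟨t ^ i, hmem i, Or.inl ?_⟩
      rw [mul_assoc, hflip, ← mul_assoc, ← pow_add, ← hi, hw]
    · refine ⟨t ^ i * S, mul_mem (hmem i) (Subgroup.subset_closure (by simp)), Or.inr ?_⟩
      calc w * S = t ^ i * (t * (t ^ i * S)) := by
            rw [hw, hi, ← mul_assoc, ← mul_assoc, ← pow_succ, ← pow_add]; congr 2; omega
        _ = t ^ i * (S * T * (S * (t ^ i)⁻¹)) := by rw [hflip, ht]
        _ = _ := by rw [_root_.mul_inv_rev, hSi]; group
  · left
    refine ⟨t ^ j, hmem j, ?_⟩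
    rw [mul_assoc, hflip, ← mul_assoc, ← pow_add]
    have e : t ^ (j + j) = t⁻¹ := eq_inv_of_mul_eq_one_left (by
      rw [← pow_succ, show j + j + 1 = orderOf t by omega, pow_orderOf_eq_one])
    rw [e, ht, _root_.mul_inv_rev, hSi, hTi, mul_assoc, hS, mul_one]

instance scalars_normal : (scalars ι F).Normal :=
  ⟨fun c hc g => by rw [scalar_conj hc g]; exact hc⟩

/-- A conjugate that is a scalar multiple, for an element with scalar square, differs by a sign. -/
theorem pc_of_scalar {g x : GL ι F} (hx : x * x ∈ scalars ι F) (h : g * x * g⁻¹ * x⁻¹ ∈ scalars ι F) : PC g x := by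
  set c := g * x * g⁻¹ * x⁻¹ with hc
  have e : g * x * g⁻¹ = c * x := by rw [hc, inv_mul_cancel_right]
  have hcc : c * c = 1 := by
    have e2 : g * (x * x) * g⁻¹ = x * x := scalar_conj hx g
    rw [show g * (x * x) * g⁻¹ = (g * x * g⁻¹) * (g * x * g⁻¹) by group, e,
      show c * x * (c * x) = c * (x * c) * x by group, ← (commute_scalar h x).eq] at e2
    exact mul_right_cancel (b := x * x) (by rw [one_mul]; rw [show c * c * (x * x) = c * (c * x) * x by group]; exact e2)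
  obtain ⟨d, hd⟩ := (mem_scalars_iff c).1 h
  by_cases hι : Nonempty ι
  swap
  · haveI := not_nonempty_iff.1 hι
    exact Or.inl (Units.ext (Matrix.ext fun i => isEmptyElim i))
  obtain ⟨i⟩ := hι
  have hd2 : (d : F) * d = 1 := by
    have := congrArg (fun Z : GL ι F => (Z : Matrix ι ι F) i i) hcc
    simpa [hd] using this
  rcases mul_self_eq_one_iff.1 hd2 with h1 | h1
  · left
    have hc1 : c = 1 := Units.ext (by rw [hd, h1, one_smul]; rfl)
    rw [hc1, one_mul] at e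
    exact mul_inv_eq_iff_eq_mul.1 e
  · right
    have hc1 : c = -1 := Units.ext (by rw [hd, h1, neg_smul, one_smul]; simp)
    rw [hc1, neg_one_mul] at e
    exact ac_of_conj e

/-- Two elements with scalar squares, modulo scalars. -/
theorem dihedral_mod [Finite F] {s f : GL ι F} (hs : s * s ∈ scalars ι F) (hf : f * f ∈ scalars ι F) :
    (∃ h ∈ Subgroup.closure ({s, f} : Set (GL ι F)), h * s * h⁻¹ * f⁻¹ ∈ scalars ι F) ∨
      ∃ w ∈ Subgroup.closure ({s, f} : Set (GL ι F)), w ∉ scalars ι F ∧ w * w ∈ scalars ι F ∧ PC w s ∧ PC w f ∧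
        ∃ h ∈ Subgroup.closure ({s, f} : Set (GL ι F)),
          w * s * (h * s * h⁻¹)⁻¹ ∈ scalars ι F ∨ w * s * (h * f * h⁻¹)⁻¹ ∈ scalars ι F := by
  let π := QuotientGroup.mk' (scalars ι F)
  have key : ∀ {x y : GL ι F}, π x = π y ↔ x * y⁻¹ ∈ scalars ι F := fun {x y} => by
    rw [← div_eq_mul_inv]
    exact QuotientGroup.eq_iff_div_mem
  have hcl : ∀ x ∈ Subgroup.closure ({π s, π f} : Set _), ∃ y ∈ Subgroup.closure ({s, f} : Set (GL ι F)), π y = x := by
    intro x hx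
    rw [show ({π s, π f} : Set _) = π '' {s, f} by simp [Set.image_pair], ← MonoidHom.map_closure] at hx
    exact hx
  have hsq : ∀ x : GL ι F, x * x ∈ scalars ι F → π x * π x = 1 := fun x hx => by
    rw [← map_mul, ← map_one π, key, inv_one, mul_one]
    exact hx
  rcases dihedral (π s) (π f) (hsq s hs) (hsq f hf) (isOfFinOrder_of_finite _) with
    ⟨h, hh, e⟩ | ⟨w, hw, hw1, hww, hwS, hwF, h, hh, e⟩
  · obtain ⟨h', hh', rfl⟩ := hcl h hh
    rw [← map_mul, ← map_inv, ← map_mul, key] at e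
    exact Or.inl ⟨h', hh', e⟩
  · obtain ⟨w', hw', rfl⟩ := hcl w hw
    obtain ⟨h', hh', rfl⟩ := hcl h hh
    have pcs : ∀ x : GL ι F, x * x ∈ scalars ι F → Commute (π w') (π x) → PC w' x := fun x hx hc => by
      refine pc_of_scalar hx (key.1 ?_)
      rw [map_mul, map_mul, map_inv, hc.eq, mul_inv_cancel_right]
    refine Or.inr ⟨w', hw', fun e' => hw1 ?_, ?_, pcs s hs hwS, pcs f hf hwF, h', hh', ?_⟩
    · rw [← map_one π, key, inv_one, mul_one]; exact e'
    · rw [← map_mul, ← map_one π, key, inv_one, mul_one] at hww; exact hww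
    · simp only [← map_mul, ← map_inv, key] at e
      exact e

/-- The element `1 + x` for `x * x = -1`. -/
def tv (h2 : (2 : F) ≠ 0) (x : GL ι F) (hx : x * x = -1) : GL ι F where
  val := 1 + (x : Matrix ι ι F)
  inv := (2 : F)⁻¹ • (1 - (x : Matrix ι ι F))
  val_inv := by
    have e : (x : Matrix ι ι F) * x = -1 := by rw [← Units.val_mul, hx]; simp
    rw [Matrix.mul_smul, add_mul, one_mul, mul_sub, mul_one, e,
      show (1 : Matrix ι ι F) - x + (x - -1) = (2 : F) • 1 by rw [two_smul]; abel, smul_smul, inv_mul_cancel₀ h2, one_smul]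
  inv_val := by
    have e : (x : Matrix ι ι F) * x = -1 := by rw [← Units.val_mul, hx]; simp
    rw [Matrix.smul_mul, sub_mul, one_mul, mul_add, mul_one, e,
      show (1 : Matrix ι ι F) + x - (x + -1) = (2 : F) • 1 by rw [two_smul]; abel, smul_smul, inv_mul_cancel₀ h2, one_smul]

variable (h2 : (2 : F) ≠ 0) {x : GL ι F} (hx : x * x = -1)

theorem tv_commute {g : GL ι F} (h : Commute g x) : Commute (tv h2 x hx) g := by
  refine Units.ext ?_
  show (1 + (x : Matrix ι ι F)) * g = g * (1 + (x : Matrix ι ι F))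
  rw [add_mul, one_mul, mul_add, mul_one, ← Units.val_mul, ← Units.val_mul, h.eq]

theorem tv_ac {g : GL ι F} (h : Ac g x) : tv h2 x hx * g * (tv h2 x hx)⁻¹ = -(g * x) := by
  refine Units.ext ?_
  show (1 + (x : Matrix ι ι F)) * g * ((2 : F)⁻¹ • (1 - (x : Matrix ι ι F))) = -((g : Matrix ι ι F) * x)
  have e : (x : Matrix ι ι F) * x = -1 := by rw [← Units.val_mul, hx]; simp
  have e1 : (x : Matrix ι ι F) * g = -((g : Matrix ι ι F) * x) := by
    rw [← Units.val_mul, ← Units.val_mul, h.symm, Units.val_neg]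
  have e2 : (1 + (x : Matrix ι ι F)) * g = g * (1 - (x : Matrix ι ι F)) := by
    rw [add_mul, one_mul, mul_sub, mul_one, e1, sub_eq_add_neg]
  rw [e2, mul_assoc, Matrix.mul_smul (1 - (x : Matrix ι ι F)), mul_sub, mul_one, sub_mul, one_mul, e,
    show 1 - (x : Matrix ι ι F) - ((x : Matrix ι ι F) - -1) = (2 : F) • -(x : Matrix ι ι F) from by
      rw [two_smul]; abel, smul_smul, inv_mul_cancel₀ h2, one_smul, mul_neg]

theorem neg_sq (hx : x * x = -1) : (-x) * (-x) = -1 := by rw [neg_mul_neg, hx]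

theorem tv_inv : ∃ c ∈ scalars ι F, (tv h2 x hx)⁻¹ = c * tv h2 (-x) (neg_sq hx) :=
  ⟨sc (2 : F)⁻¹ (inv_ne_zero h2), sc_mem _ _, Units.ext (by
    show (2 : F)⁻¹ • (1 - (x : Matrix ι ι F)) = (2 : F)⁻¹ • (1 : Matrix ι ι F) * (1 + ((-x : GL ι F) : Matrix ι ι F))
    rw [Units.val_neg, smul_mul_assoc, one_mul, sub_eq_add_neg])⟩

variable {R : Subgroup (GL ι F)}

theorem tv_conj_mem (hs : IsPre R) (hxR : x ∈ R) {g : GL ι F} (hg : g ∈ R) :
    tv hs.two x hx * g * (tv hs.two x hx)⁻¹ ∈ R := by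
  rcases hs.sign g hg x hxR with h | h
  · rwa [(tv_commute hs.two hx h).eq, mul_inv_cancel_right]
  · rw [tv_ac hs.two hx h]
    exact hs.neg_mem (mul_mem hg hxR)

theorem tv_mem_normalizer (hs : IsPre R) (hxR : x ∈ R) : tv hs.two x hx ∈ subgroupNormalizer R := by
  refine Subgroup.mem_normalizer_iff.2 fun g => ⟨fun hg => tv_conj_mem hx hs hxR hg, fun hg => ?_⟩
  obtain ⟨c, hc, e⟩ := tv_inv hs.two hx
  have h1 := tv_conj_mem (neg_sq hx) hs (hs.neg_mem hxR) hg
  rw [show g = (tv hs.two x hx)⁻¹ * (tv hs.two x hx * g * (tv hs.two x hx)⁻¹) * (tv hs.two x hx)⁻¹⁻¹ by group]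
  generalize tv hs.two x hx * g * (tv hs.two x hx)⁻¹ = u at h1 ⊢
  rw [e, show c * tv hs.two (-x) (neg_sq hx) * u * (c * tv hs.two (-x) (neg_sq hx))⁻¹ =
    c * (tv hs.two (-x) (neg_sq hx) * u * (tv hs.two (-x) (neg_sq hx))⁻¹) * c⁻¹ by group,
    (commute_scalar hc _).eq, mul_inv_cancel_right]
  exact h1

theorem le_normalizer_of_symp : R ≤ subgroupNormalizer R := Subgroup.le_normalizer

namespace IsSymp

variable (h : IsSymp R)

include h in
theorem scalars_le : scalars ι F ≤ subgroupNormalizer R := fun _ hc => Subgroup.le_normalizer (h.scal hc)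

include h in
theorem normed_props {y : GL ι F} (hy : y ∈ R) : ∃ c ∈ scalars ι F, c * y ∈ R ∧ (c * y) * (c * y) = -1 ∧
    (∀ g, Commute g y → Commute g (c * y)) ∧ ∀ g, Ac g y → Ac g (c * y) := by
  obtain ⟨c, hc, e⟩ := h.normed y hy
  exact ⟨c, hc, mul_mem (h.scal hc) hy, e, fun g hg => (commute_scalar hc g).symm.mul_right hg,
    fun g hg => Ac.mul_right' (commute_scalar hc g).symm hg⟩

/-- Hypothesis: the elements `1 + x` lie in `M`. -/
def HasTv (M : Subgroup (GL ι F)) : Prop :=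
  ∀ x ∈ R, ∀ hx : x * x = -1, tv h.two x hx ∈ M

include h in
theorem step_conj {M : Subgroup (GL ι F)} (hT : h.HasTv M) {z a b : GL ι F} (ha : a ∈ R) (hb : b ∈ R)
    (hza : Commute z a) (hzb : Commute z b) (hab : Ac a b) :
    ∃ n ∈ M ⊓ subgroupNormalizer R, Commute n z ∧ n * a * n⁻¹ * b⁻¹ ∈ scalars ι F := by
  obtain ⟨c, hc, hxR, hx, hcom, hacm⟩ := h.normed_props (mul_mem ha hb)
  refine ⟨tv h.two _ hx, ⟨hT _ hxR hx, tv_mem_normalizer hx h.toIsPre hxR⟩, tv_commute h.two hx (hcom z (hza.mul_right hzb)), ?_⟩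
  rw [tv_ac h.two hx (hacm a (Ac.mul_right' (Commute.refl a) hab)), show a * (c * (a * b)) = a * c * a * b by group,
    ← (commute_scalar hc a).eq, neg_mul, mul_inv_cancel_right, mul_assoc]
  exact neg_mem_scalars (mul_mem hc (h.sq_mem ha))

include h in
theorem move {M : Subgroup (GL ι F)} (hT : h.HasTv M) {z a b : GL ι F} (hz : z ∈ R) (ha : a ∈ R) (hb : b ∈ R)
    (hza : Commute z a) (hzb : Commute z b) (ha1 : a ∉ scalars ι F) (hb1 : b ∉ scalars ι F)
    (ha2 : a * z⁻¹ ∉ scalars ι F) (hb2 : b * z⁻¹ ∉ scalars ι F) :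
    ∃ n ∈ M ⊓ subgroupNormalizer R, Commute n z ∧ n * a * n⁻¹ * b⁻¹ ∈ scalars ι F := by
  rcases h.sign a ha b hb with hab | hab
  swap
  · exact h.step_conj hT ha hb hza hzb hab
  obtain ⟨d₁, hd₁, hd₁z, had₁⟩ := h.exists_ac_in hz ha hza.symm ha1 ha2
  obtain ⟨d₂, hd₂, hd₂z, hbd₂⟩ := h.exists_ac_in hz hb hzb.symm hb1 hb2
  obtain ⟨d, hd, hdz, had, hbd⟩ : ∃ d ∈ R, Commute d z ∧ Ac a d ∧ Ac b d := by
    rcases h.sign b hb d₁ hd₁ with e | e
    · rcases h.sign a ha d₂ hd₂ with e' | e'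
      · exact ⟨d₁ * d₂, mul_mem hd₁ hd₂, hd₁z.mul_left hd₂z, had₁.mul_right e', Ac.mul_right' e hbd₂⟩
      · exact ⟨d₂, hd₂, hd₂z, e', hbd₂⟩
    · exact ⟨d₁, hd₁, hd₁z, had₁, e⟩
  obtain ⟨n₁, hn₁, hn₁z, e₁⟩ := h.step_conj hT ha hd hza hdz.symm had
  obtain ⟨n₂, hn₂, hn₂z, e₂⟩ := h.step_conj hT hd hb hdz.symm hzb hbd.symm
  refine ⟨n₂ * n₁, mul_mem hn₂ hn₁, hn₂z.mul_left hn₁z, ?_⟩
  rw [show n₂ * n₁ * a * (n₂ * n₁)⁻¹ * b⁻¹ =
    n₂ * (n₁ * a * n₁⁻¹ * d⁻¹) * n₂⁻¹ * (n₂ * d * n₂⁻¹ * b⁻¹) by group, scalar_conj e₁]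
  exact mul_mem e₁ e₂

include h in
/-- Any two non-scalar elements are conjugate modulo scalars. -/
theorem transitive {M : Subgroup (GL ι F)} (hT : h.HasTv M) {a b : GL ι F} (ha : a ∈ R) (hb : b ∈ R)
    (ha1 : a ∉ scalars ι F) (hb1 : b ∉ scalars ι F) :
    ∃ n ∈ M ⊓ subgroupNormalizer R, n * a * n⁻¹ * b⁻¹ ∈ scalars ι F := by
  obtain ⟨n, hn, -, e⟩ := h.move hT (one_mem R) ha hb (Commute.one_left a) (Commute.one_left b) ha1 hb1
    (by simpa using ha1) (by simpa using hb1)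
  exact ⟨n, hn, e⟩

end IsSymp

namespace IsPre

variable (h : IsPre R)

include h in
/-- A non-scalar element commuting with an anticommuting pair. -/
theorem exists_commute_pair (hbig : 3 ≤ Fintype.card ι) {u r : GL ι F} (hu : u ∈ R) (hr : r ∈ R) (hur : Ac u r) :
    ∃ t ∈ R, t ∉ scalars ι F ∧ Commute t u ∧ Commute t r := by
  by_contra! hc
  let v : Fin 2 × Fin 2 → Matrix ι ι F := fun p => ((r ^ (p.1 : ℕ) * u ^ (p.2 : ℕ) : GL ι F) : Matrix ι ι F)
  have hle : Submodule.span F (matrixSet R) ≤ Submodule.span F (Set.range v) := by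
    refine Submodule.span_le.2 ?_
    rintro _ ⟨x, hx, rfl⟩
    obtain ⟨i, hi⟩ : ∃ i : Fin 2, Commute (x * (u ^ (i : ℕ))) r := by
      rcases h.sign x hx r hr with e | e
      · exact ⟨0, by simpa using e⟩
      · exact ⟨1, by simpa using (commute_of_ac_ac e.symm hur.symm).symm⟩
    obtain ⟨j, hj, hj'⟩ : ∃ j : Fin 2, Commute (x * u ^ (i : ℕ) * r ^ (j : ℕ)) u ∧
        Commute (x * u ^ (i : ℕ) * r ^ (j : ℕ)) r := by
      rcases h.sign (x * u ^ (i : ℕ)) (mul_mem hx (pow_mem hu _)) u hu with e | e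
      · exact ⟨0, by simpa using e, by simpa using hi⟩
      · exact ⟨1, by simpa using (commute_of_ac_ac e.symm hur).symm, by simpa using hi.mul_left (Commute.refl r)⟩
    set y := x * u ^ (i : ℕ) * r ^ (j : ℕ) with hy
    have hyR : y ∈ R := mul_mem (mul_mem hx (pow_mem hu _)) (pow_mem hr _)
    have hyZ : y ∈ scalars ι F := by
      by_contra hyZ
      exact hc y hyR hyZ hj hj'
    obtain ⟨c₁, hc₁⟩ := (mem_scalars_iff _).1 hyZ
    obtain ⟨c₂, hc₂⟩ := (mem_scalars_iff _).1 (inv_mem (pow_mem (h.sq_mem hr) (j : ℕ)))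
    obtain ⟨c₃, hc₃⟩ := (mem_scalars_iff _).1 (inv_mem (pow_mem (h.sq_mem hu) (i : ℕ)))
    have e : x = y * (((r * r) ^ (j : ℕ))⁻¹ * r ^ (j : ℕ)) * (((u * u) ^ (i : ℕ))⁻¹ * u ^ (i : ℕ)) := by
      rw [hy]
      fin_cases i <;> fin_cases j <;> simp <;> group
    show (x : Matrix ι ι F) ∈ _
    rw [e]
    simp only [Units.val_mul, hc₁, hc₂, hc₃, smul_mul_assoc, Matrix.mul_smul, one_mul, smul_smul]
    rw [← Units.val_mul]
    exact Submodule.smul_mem _ _ (Submodule.subset_span ⟨(j, i), rfl⟩)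
  rw [h.span] at hle
  have h1 := Submodule.finrank_mono hle
  rw [finrank_top, Module.finrank_matrix, Module.finrank_self, mul_one] at h1
  have h3 : Module.finrank F (Submodule.span F (Set.range v)) ≤ 4 := (finrank_range_le_card v).trans (by simp)
  have : 3 * 3 ≤ Fintype.card ι * Fintype.card ι := Nat.mul_le_mul hbig hbig
  omega

end IsPre

end CfsgLib.Geo.SympNorm
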