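import Cfsg.Agent.Lib.Geo.SympNorm.Basic
import Cfsg.Agent.Lib.Geo.SympNorm.Tools
import Cfsg.Agent.Lib.Geo.Roots
import Cfsg.Agent.Lib.Classical.PSLTwoSimple

/-!
# From the special linear group on one half to the whole space

A group containing `SL` on the first half, the swap and two elements `1 + x` mixing the halves contains `SL`.
-/

set_option autoImplicit false

namespace CfsgLib.Geo.SympNorm

open Matrix Cfsg.Geo
open CfsgLib.Geo.Roots (Root)
open scoped commutatorElement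

variable {κ : Type} [Fintype κ] [DecidableEq κ] {F : Type*} [Field F]

/-- Block diagonal elements. -/
def dg : GL κ F × GL κ F →* GL (κ ⊕ κ) F where
  toFun p :=
    { val := fromBlocks (p.1 : Matrix κ κ F) 0 0 (p.2 : Matrix κ κ F)
      inv := fromBlocks ((p.1⁻¹ : GL κ F) : Matrix κ κ F) 0 0 ((p.2⁻¹ : GL κ F) : Matrix κ κ F)
      val_inv := by simp [fromBlocks_multiply]
      inv_val := by simp [fromBlocks_multiply] }
  map_one' := Units.ext (by simp)
  map_mul' p q := Units.ext (by simp [fromBlocks_multiply])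

theorem dg_val (y z : GL κ F) :
    ((dg (y, z) : GL (κ ⊕ κ) F) : Matrix (κ ⊕ κ) (κ ⊕ κ) F) = fromBlocks (y : Matrix κ κ F) 0 0 (z : Matrix κ κ F) :=
  rfl

theorem dg_mulVec (y z : GL κ F) (u v : κ → F) :
    ((dg (y, z) : GL (κ ⊕ κ) F) : Matrix (κ ⊕ κ) (κ ⊕ κ) F) *ᵥ Sum.elim u v =
      Sum.elim ((y : Matrix κ κ F) *ᵥ u) ((z : Matrix κ κ F) *ᵥ v) := by
  rw [dg_val, fromBlocks_mulVec]; simp

theorem vecMul_dg (y z : GL κ F) (u v : κ → F) :
    Sum.elim u v ᵥ* ((dg (y, z) : GL (κ ⊕ κ) F) : Matrix (κ ⊕ κ) (κ ⊕ κ) F) =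
      Sum.elim (u ᵥ* (y : Matrix κ κ F)) (v ᵥ* (z : Matrix κ κ F)) := by
  rw [dg_val, vecMul_fromBlocks]; simp

theorem dg_inv (y z : GL κ F) : (dg (y, z))⁻¹ = dg (y⁻¹, z⁻¹) := by
  rw [← map_inv]; rfl

/-- The swap of the halves. -/
def bM : GL (κ ⊕ κ) F where
  val := fromBlocks 0 1 1 0
  inv := fromBlocks 0 1 1 0
  val_inv := by simp [fromBlocks_multiply]
  inv_val := by simp [fromBlocks_multiply]

/-- The sign on the halves. -/
def aM : GL (κ ⊕ κ) F := dg (1, -1)

theorem aM_val : ((aM : GL (κ ⊕ κ) F) : Matrix (κ ⊕ κ) (κ ⊕ κ) F) = fromBlocks 1 0 0 (-1) := by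
  rw [aM, dg_val]; simp

theorem bM_dg (y z : GL κ F) : bM * dg (y, z) = dg (z, y) * bM := Units.ext (by
  simp [bM, dg, fromBlocks_multiply])

theorem bM_sq : (bM : GL (κ ⊕ κ) F) * bM = 1 := Units.ext (by simp [bM, fromBlocks_multiply])

/-- An element of square minus one exchanging the halves. -/
def jx (c d : F) (h : c * d = -1) : GL (κ ⊕ κ) F where
  val := fromBlocks 0 (c • 1) (d • 1) 0
  inv := -fromBlocks 0 (c • 1) (d • 1) 0
  val_inv := by simp [fromBlocks_multiply, fromBlocks_neg, smul_smul, h, mul_comm d c, ← fromBlocks_one]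
  inv_val := by simp [fromBlocks_multiply, fromBlocks_neg, smul_smul, h, mul_comm d c, ← fromBlocks_one]

theorem jx_sq (c d : F) (h : c * d = -1) : (jx c d h : GL (κ ⊕ κ) F) * jx c d h = -1 := Units.ext (by
  simp [jx, fromBlocks_multiply, smul_smul, h, mul_comm d c, ← fromBlocks_one, fromBlocks_neg])

theorem tv_jx_mulVec (h2 : (2 : F) ≠ 0) (c d : F) (h : c * d = -1) (u v : κ → F) :
    ((tv h2 (jx c d h) (jx_sq c d h) : GL (κ ⊕ κ) F) : Matrix (κ ⊕ κ) (κ ⊕ κ) F) *ᵥ Sum.elim u v =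
      Sum.elim (u + c • v) (d • u + v) := by
  show (1 + fromBlocks 0 (c • 1) (d • 1) 0) *ᵥ _ = _
  rw [add_mulVec, one_mulVec, fromBlocks_mulVec]
  ext (i | i) <;> simp [smul_mulVec, add_comm]

theorem vecMul_tv_jx (h2 : (2 : F) ≠ 0) (c d : F) (h : c * d = -1) (φ ψ : κ → F) :
    Sum.elim φ ψ ᵥ* ((tv h2 (jx c d h) (jx_sq c d h) : GL (κ ⊕ κ) F) : Matrix (κ ⊕ κ) (κ ⊕ κ) F) =
      Sum.elim (φ + d • ψ) (c • φ + ψ) := by
  show _ ᵥ* (1 + fromBlocks 0 (c • 1) (d • 1) 0) = _
  rw [vecMul_add, vecMul_one, vecMul_fromBlocks]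
  ext (i | i) <;> simp [vecMul_smul, add_comm]

theorem vecMul_tv_jx_inv (h2 : (2 : F) ≠ 0) (c d : F) (h : c * d = -1) (φ ψ : κ → F) :
    Sum.elim φ ψ ᵥ* (((tv h2 (jx c d h) (jx_sq c d h))⁻¹ : GL (κ ⊕ κ) F) : Matrix (κ ⊕ κ) (κ ⊕ κ) F) =
      (2 : F)⁻¹ • Sum.elim (φ - d • ψ) (ψ - c • φ) := by
  show _ ᵥ* ((2 : F)⁻¹ • (1 - fromBlocks 0 (c • 1) (d • 1) 0)) = _
  rw [vecMul_smul, vecMul_sub, vecMul_one, vecMul_fromBlocks]
  congr 1
  ext (i | i) <;> simp [vecMul_smul]

/-- A group normalised by `SL` with a non-scalar element contains `SL`. -/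
theorem specialLinear_le_of_normalized [Fintype F] {k : ℕ} (hk : 2 ≤ k) (h4 : 4 ≤ Fintype.card F)
    (hkF : (k : F) ≠ 0) {K : Subgroup (GL (Fin k) F)}
    (hn : ∀ g ∈ specialLinear (Fin k) F, ∀ y ∈ K, g * y * g⁻¹ ∈ K) {x : GL (Fin k) F} (hx : x ∈ K)
    (hx1 : x ∉ scalars (Fin k) F) : specialLinear (Fin k) F ≤ K := by
  haveI : Nontrivial (Fin k) := Fin.nontrivial_iff_two_le.2 hk
  haveI : NeZero k := ⟨by omega⟩
  obtain ⟨t, ht, htr, hxt⟩ : ∃ t : GL (Fin k) F, t ∈ specialLinear (Fin k) F ∧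
      (t : Matrix (Fin k) (Fin k) F).trace ≠ 0 ∧ ¬ Commute x t := by
    by_contra! hc
    have hoff : ∀ i j : Fin k, i ≠ j → Commute (x : Matrix (Fin k) (Fin k) F) (Matrix.single i j 1) := by
      intro i j hij
      have h0 : (Pi.single j 1 : Fin k → F) ⬝ᵥ Pi.single i 1 = 0 := by simp [hij]
      have htr : ((transvectionGL (Pi.single j 1) (Pi.single i 1) h0 : GL (Fin k) F) :
          Matrix (Fin k) (Fin k) F).trace ≠ 0 := by
        show (1 + Matrix.vecMulVec (Pi.single i (1 : F)) (Pi.single j (1 : F)) : Matrix (Fin k) (Fin k) F).trace ≠ 0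
        rw [trace_add, trace_one, trace_vecMulVec, dotProduct_comm, h0, add_zero, Fintype.card_fin]
        exact hkF
      have e := congrArg Units.val (hc _ (transvectionGL_mem_specialLinear (Pi.single j 1) (Pi.single i 1) h0) htr).eq
      rw [Units.val_mul, Units.val_mul, show ((transvectionGL (Pi.single j 1) (Pi.single i 1) h0 : GL (Fin k) F) :
        Matrix (Fin k) (Fin k) F) = 1 + Matrix.single i j 1 by
          show 1 + Matrix.vecMulVec (Pi.single i 1) (Pi.single j 1) = _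
          congr 1
          ext a b
          simp [Matrix.vecMulVec_apply, Matrix.single_apply, Pi.single_apply]
          grind, mul_add, add_mul, mul_one, one_mul, add_right_inj] at e
      exact e
    obtain ⟨c, hc'⟩ := Matrix.mem_range_scalar_of_commute_single (M := (x : Matrix (Fin k) (Fin k) F))
      (fun i j hij => (hoff i j hij).symm)
    have hc0 : c ≠ 0 := by
      rintro rfl
      have := Units.mul_inv x
      rw [← hc'] at this
      simp at this
    exact hx1 ((mem_scalars_iff x).2 ⟨Units.mk0 c hc0, by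
      rw [← hc', Matrix.scalar_apply, Matrix.smul_one_eq_diagonal]; rfl⟩)
  -- a non-scalar element of determinant one
  set d := x * t * x⁻¹ * t⁻¹ with hd
  have hdK : d ∈ K := by
    rw [hd, show x * t * x⁻¹ * t⁻¹ = x * (t * x⁻¹ * t⁻¹) by group]
    exact mul_mem hx (hn t ht _ (inv_mem hx))
  have hdS : d ∈ specialLinear (Fin k) F := by
    rw [Cfsg.Geo.specialLinear, MonoidHom.mem_ker, hd, map_mul, map_mul, map_mul, map_inv, map_inv,
      mul_inv_cancel_comm, mul_inv_cancel]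
  let A : Subgroup (SpecialLinearGroup (Fin k) F) := K.comap SpecialLinearGroup.toGL
  have hmemS : ∀ g : SpecialLinearGroup (Fin k) F, SpecialLinearGroup.toGL g ∈ specialLinear (Fin k) F := fun g => by
    rw [Cfsg.Geo.specialLinear, MonoidHom.mem_ker]
    exact Units.ext g.2
  have hA : A.Normal := ⟨fun y hy g => by
    show SpecialLinearGroup.toGL (g * y * g⁻¹) ∈ K
    rw [map_mul, map_mul, map_inv]
    exact hn _ (hmemS g) _ hy⟩
  let d' : SpecialLinearGroup (Fin k) F := ⟨(d : Matrix (Fin k) (Fin k) F), congrArg Units.val (MonoidHom.mem_ker.1 hdS)⟩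
  have hd'A : d' ∈ A := by
    show SpecialLinearGroup.toGL d' ∈ K
    rwa [show SpecialLinearGroup.toGL d' = d from Units.ext rfl]
  have hd'c : d' ∉ Subgroup.center (SpecialLinearGroup (Fin k) F) := by
    intro hc
    obtain ⟨r, -, hr⟩ := (Matrix.SpecialLinearGroup.mem_center_iff).1 hc
    have e : (x : Matrix (Fin k) (Fin k) F) * t * ((x⁻¹ : GL (Fin k) F) : Matrix (Fin k) (Fin k) F) =
        r • (t : Matrix (Fin k) (Fin k) F) := by
      have e1 : (d : Matrix (Fin k) (Fin k) F) = r • 1 := by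
        rw [show (d : Matrix (Fin k) (Fin k) F) = (d' : Matrix (Fin k) (Fin k) F) from rfl, ← hr,
          Matrix.scalar_apply, Matrix.smul_one_eq_diagonal]
      have e2 := congrArg (fun Z => Z * (t : Matrix (Fin k) (Fin k) F)) e1
      simp only [hd, Units.val_mul, smul_mul_assoc, one_mul] at e2
      rwa [mul_assoc _ ((t⁻¹ : GL (Fin k) F) : Matrix (Fin k) (Fin k) F), Units.inv_mul, mul_one] at e2
    have e3 := congrArg Matrix.trace e
    rw [trace_mul_cycle, Units.inv_mul, one_mul, trace_smul, smul_eq_mul] at e3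
    have hr1 : r = 1 := (mul_eq_right₀ htr).1 e3.symm
    rw [hr1, one_smul] at e
    have e4 := congrArg (fun Z => Z * (x : Matrix (Fin k) (Fin k) F)) e
    simp only [mul_assoc, Units.inv_mul, mul_one] at e4
    exact hxt (Units.ext (by rw [Units.val_mul, Units.val_mul]; exact e4))
  have hperf : commutator (SpecialLinearGroup (Fin k) F) = ⊤ := by
    rcases eq_or_lt_of_le hk with rfl | h3
    · exact CfsgLib.Classical.commutator_SL_two_eq_top h4
    · exact CfsgLib.Classical.commutator_SL_eq_top h3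
  have hs := CfsgLib.Classical.isSimpleGroup_PSL_of_perfect (ι := Fin k) hperf
  set π := QuotientGroup.mk' (Subgroup.center (SpecialLinearGroup (Fin k) F))
  have htop : A = ⊤ := by
    rcases hs.eq_bot_or_eq_top_of_normal _ (hA.map π (QuotientGroup.mk'_surjective _)) with h | h
    · exact absurd ((QuotientGroup.eq_one_iff d').1 (Subgroup.mem_bot.1 (h ▸ Subgroup.mem_map_of_mem π hd'A))) hd'c
    · refine top_unique ?_
      rw [← hperf, commutator_def, Subgroup.commutator_le]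
      intro u _ v _
      obtain ⟨a, ha, hea⟩ := (h ▸ Subgroup.mem_top _ : π u ∈ A.map π)
      obtain ⟨z, hz, rfl⟩ : ∃ z ∈ Subgroup.center (SpecialLinearGroup (Fin k) F), u = a * z :=
        ⟨a⁻¹ * u, QuotientGroup.eq.1 hea, (mul_inv_cancel_left a u).symm⟩
      have e : ⁅a * z, v⁆ = ⁅a, v⁆ := by
        have hzv := Subgroup.mem_center_iff.1 hz
        rw [commutatorElement_def, commutatorElement_def, _root_.mul_inv_rev, mul_assoc a z v, ← hzv v]
        group
      rw [e, commutatorElement_def, mul_assoc a v, mul_assoc a]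
      exact mul_mem ha (hA.conj_mem _ (inv_mem ha) v)
  intro g hg
  let g' : SpecialLinearGroup (Fin k) F := ⟨(g : Matrix (Fin k) (Fin k) F), congrArg Units.val (MonoidHom.mem_ker.1 hg)⟩
  have : g' ∈ A := htop ▸ Subgroup.mem_top _
  rwa [show g = SpecialLinearGroup.toGL g' from Units.ext rfl]

/-- From one half to the whole space. -/
theorem specialLinear_le_of_block [Fintype F] (h2 : (2 : F) ≠ 0) {i : F} (hi : i * i = -1) {k : ℕ} (hk : 2 ≤ k)
    {M : Subgroup (GL (Fin k ⊕ Fin k) F)} (hb : bM ∈ M)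
    (hn : tv h2 (jx 1 (-1) (one_mul _)) (jx_sq _ _ _) ∈ M) (hn2 : tv h2 (jx i i hi) (jx_sq _ _ _) ∈ M)
    (hK : ∀ y ∈ specialLinear (Fin k) F, dg (y, 1) ∈ M) : specialLinear (Fin k ⊕ Fin k) F ≤ M := by
  obtain ⟨l, rfl⟩ : ∃ l, k = l + 2 := ⟨k - 2, by omega⟩
  have hi0 : i ≠ 0 := by rintro rfl; simp at hi
  have hK' : ∀ y ∈ specialLinear (Fin (l + 2)) F, dg (1, y) ∈ M := fun y hy => by
    have e : dg (1, y) = bM * dg (y, 1) * bM := by rw [bM_dg, mul_assoc, bM_sq, mul_one]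
    rw [e]; exact mul_mem (mul_mem hb (hK y hy)) hb
  have base : ∀ (α u : Fin (l + 2) → F), α ⬝ᵥ u = 0 → Root M (Sum.elim α 0) (Sum.elim u 0) := by
    intro α u h
    have hd : Sum.elim α (0 : Fin (l + 2) → F) ⬝ᵥ Sum.elim u 0 = 0 := by simp [sumElim_dotProduct_sumElim, h]
    refine ⟨hd, ?_⟩
    convert hK _ (transvectionGL_mem_specialLinear α u h) using 1
    refine Units.ext ?_
    rw [dg_val]
    show 1 + Matrix.vecMulVec (Sum.elim u 0) (Sum.elim α 0) = fromBlocks (1 + Matrix.vecMulVec u α) 0 0 1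
    ext (p | p) (q | q) <;> simp [Matrix.vecMulVec_apply, Matrix.one_apply]
  set e0 : Fin (l + 2) → F := Pi.single 0 1 with he0
  set e1 : Fin (l + 2) → F := Pi.single 1 1 with he1
  have d01 : e1 ⬝ᵥ e0 = 0 := by simp [he0, he1]
  have d10 : e0 ⬝ᵥ e1 = 0 := by simp [he0, he1]
  have d00 : e0 ⬝ᵥ e0 = 1 := by simp [he0]
  have d11 : e1 ⬝ᵥ e1 = 1 := by simp [he1]
  -- the rotation of the first half
  set ys : SpecialLinearGroup (Fin (l + 2)) F :=
    SpecialLinearGroup.diag2n (zero_ne_one : (0 : Fin (l + 2)) ≠ 1) i hi0 with hys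
  set y : GL (Fin (l + 2)) F := SpecialLinearGroup.toGL ys with hy
  have hmemS : ∀ g : SpecialLinearGroup (Fin (l + 2)) F, SpecialLinearGroup.toGL g ∈ specialLinear (Fin (l + 2)) F :=
    fun g => by rw [Cfsg.Geo.specialLinear, MonoidHom.mem_ker]; exact Units.ext g.2
  have hii : i⁻¹ = -i := inv_eq_of_mul_eq_one_right (by rw [mul_neg, hi, neg_neg])
  have hye0 : (y : Matrix (Fin (l + 2)) (Fin (l + 2)) F) *ᵥ e0 = i • e0 := by
    funext a
    show (ys • e0) a = _
    rw [hys, CfsgLib.Classical.diag2n_smul_apply]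
    by_cases h0 : a = 0 <;> simp [h0, he0]
  have hye1 : e1 ᵥ* ((y⁻¹ : GL (Fin (l + 2)) F) : Matrix (Fin (l + 2)) (Fin (l + 2)) F) = i • e1 := by
    have h1 : e1 ᵥ* (y : Matrix (Fin (l + 2)) (Fin (l + 2)) F) = (-i) • e1 := by
      refine CfsgLib.Geo.Roots.eq_of_dot fun x => ?_
      rw [← dotProduct_mulVec, smul_dotProduct]
      show e1 ⬝ᵥ (ys • x) = _
      simp [he1, hys, CfsgLib.Classical.diag2n_smul_apply, hii]
    have h2' := congrArg (fun z => (i • z) ᵥ* ((y⁻¹ : GL (Fin (l + 2)) F) : Matrix (Fin (l + 2)) (Fin (l + 2)) F)) h1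
    simp only [smul_smul, mul_neg, hi, neg_neg, one_smul, smul_vecMul, vecMul_vecMul, Units.mul_inv,
      vecMul_one] at h2'
    exact h2'.symm
  -- the two mixed transvections
  have H₁ : Root M (Sum.elim (i • e1) (-e1)) (Sum.elim (i • e0) (-e0)) := by
    have h0 := ((base ((2 : F) • e1) e0 (by rw [smul_dotProduct, d01, smul_zero])).conj hn).conj
      (hK y (hmemS _))
    rw [tv_jx_mulVec, dg_mulVec, vecMul_tv_jx_inv, smul_vecMul, dg_inv, vecMul_dg, inv_one, Units.val_one, one_mulVec,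
      vecMul_one] at h0
    simp only [smul_sub, smul_vecMul, sub_vecMul, smul_smul] at h0
    convert h0 using 1
    · ext (a | a)
      · rw [Matrix.coe_units_inv] at hye1
        simp [hye1, h2]
      · simp [h2]
    · ext (a | a)
      · simp [hye0]
      · simp
  have H₂ : Root M (Sum.elim e0 ((-i) • e0)) (Sum.elim e1 (i • e1)) := by
    have h0 := (base ((2 : F) • e0) e1 (by rw [smul_dotProduct, d10, smul_zero])).conj hn2
    rw [tv_jx_mulVec, vecMul_tv_jx_inv] at h0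
    convert h0 using 1
    · ext (a | a) <;> simp [h2]
      field_simp
    · ext (a | a) <;> simp
  -- a transvection moving one half into the other
  have hc : (4 : F) * i ≠ 0 := mul_ne_zero (by rw [show (4 : F) = 2 * 2 by norm_num]; exact mul_ne_zero h2 h2) hi0
  have H₃ : Root M (Sum.elim 0 (((4 : F) * i) • e1)) (Sum.elim e1 0) := by
    have h0 := (H₁.comm H₂ (by
      rw [sumElim_dotProduct_sumElim, smul_dotProduct, neg_dotProduct, dotProduct_smul, d11]; simp)).conj
      (inv_mem hn2)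
    have hu : Sum.elim e1 (i • e1) =
        ((tv h2 (jx i i hi) (jx_sq _ _ _) : GL (Fin (l + 2) ⊕ Fin (l + 2)) F) : Matrix (Fin (l + 2) ⊕ Fin (l + 2)) (Fin (l + 2) ⊕ Fin (l + 2)) F) *ᵥ
          Sum.elim e1 0 := by
      rw [tv_jx_mulVec]; simp
    rw [inv_inv, sumElim_dotProduct_sumElim, smul_vecMul, vecMul_tv_jx, hu, mulVec_mulVec, Units.inv_mul,
      one_mulVec] at h0
    convert h0 using 1
    simp only [dotProduct_smul, smul_dotProduct, dotProduct_neg, d00, smul_eq_mul, mul_one]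
    ext (a | a) <;> simp <;> linear_combination (2 * i * e1 a) * hi
  have off : ∀ β u : Fin (l + 2) → F, Root M (Sum.elim 0 β) (Sum.elim u 0) := by
    intro β u
    by_cases hβ : β = 0
    · subst hβ
      rw [Sum.elim_zero_zero]
      exact Root.zero _
    by_cases hu : u = 0
    · subst hu
      rw [Sum.elim_zero_zero]
      refine ⟨dotProduct_zero _, ?_⟩
      convert M.one_mem using 1
      exact Units.ext (by show 1 + Matrix.vecMulVec 0 _ = 1; simp)
    have he1' : e1 ≠ 0 := fun e => one_ne_zero (α := F) (by rw [← d11, e, dotProduct_zero])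
    obtain ⟨g, hg⟩ := CfsgLib.Classical.exists_smul_eq_SL (v := e1) (w := u) he1' hu
    obtain ⟨f, hf⟩ := CfsgLib.Classical.exists_smul_eq_SL (v := ((4 : F) * i) • e1) (w := β)
      (smul_ne_zero hc he1') hβ
    let fT : SpecialLinearGroup (Fin (l + 2)) F :=
      ⟨(f : Matrix (Fin (l + 2)) (Fin (l + 2)) F)ᵀ, by rw [Matrix.det_transpose]; exact f.2⟩
    have h0 := (H₃.conj (hK _ (hmemS g))).conj (inv_mem (hK' _ (hmemS fT)))
    simp only [inv_inv, dg_inv, dg_mulVec, vecMul_dg] at h0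
    convert h0 using 1
    · ext (a | a)
      · simp
      · simp only [Sum.elim_inr, inv_one, Units.val_one, vecMul_one]
        show _ = (_ ᵥ* (f : Matrix (Fin (l + 2)) (Fin (l + 2)) F)ᵀ) a
        rw [vecMul_transpose, show (f : Matrix (Fin (l + 2)) (Fin (l + 2)) F) *ᵥ (((4 : F) * i) • e1) = β from hf]
    · ext (a | a)
      · simp only [Sum.elim_inl, inv_one, Units.val_one, one_mulVec]
        rw [show ((SpecialLinearGroup.toGL g : GL (Fin (l + 2)) F) : Matrix (Fin (l + 2)) (Fin (l + 2)) F) *ᵥ e1 = u from hg]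
      · simp
  have cl : ∀ u : Fin (l + 2) → F, IsCentre M (Sum.elim u 0) := fun u φ hφ => by
    have hs : φ = Sum.elim (φ ∘ Sum.inl) (φ ∘ Sum.inr) := by ext (a | a) <;> rfl
    have ha : (φ ∘ Sum.inl) ⬝ᵥ u = 0 := by
      rw [hs, sumElim_dotProduct_sumElim, dotProduct_zero, add_zero] at hφ; exact hφ
    have h0 := (base _ u ha).add (off (φ ∘ Sum.inr) u)
    rw [show Sum.elim (φ ∘ Sum.inl) (0 : Fin (l + 2) → F) + Sum.elim (0 : Fin (l + 2) → F) (φ ∘ Sum.inr) = φ by ext (a | a) <;> simp] at h0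
    exact h0.2
  have cr : ∀ u : Fin (l + 2) → F, IsCentre M (Sum.elim 0 u) := fun u => by
    have := (cl u).map hb
    rwa [show ((bM : GL (Fin (l + 2) ⊕ Fin (l + 2)) F) :
        Matrix (Fin (l + 2) ⊕ Fin (l + 2)) (Fin (l + 2) ⊕ Fin (l + 2)) F) *ᵥ Sum.elim u 0 =
        Sum.elim (0 : Fin (l + 2) → F) u by
      show fromBlocks 0 1 1 0 *ᵥ _ = _
      rw [fromBlocks_mulVec]; simp] at this
  haveI : Nontrivial (Fin (l + 2) ⊕ Fin (l + 2)) := ⟨Sum.inl 0, Sum.inr 0, Sum.inl_ne_inr⟩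
  refine specialLinear_le_of_centres M fun w => ?_
  rw [show w = Sum.elim (w ∘ Sum.inl) (w ∘ Sum.inr) by ext (a | a) <;> rfl]
  set u1 := w ∘ Sum.inl
  set u2 := w ∘ Sum.inr
  by_cases h1 : u1 = 0
  · rw [h1]; exact cr u2
  obtain ⟨β, hβ⟩ : ∃ β : Fin (l + 2) → F, β ⬝ᵥ u1 = 1 := by
    obtain ⟨a, ha⟩ := Function.ne_iff.1 h1
    exact ⟨Pi.single a (u1 a)⁻¹, by simp [inv_mul_cancel₀ (show u1 a ≠ 0 from ha)]⟩
  have hd : Sum.elim β (0 : Fin (l + 2) → F) ⬝ᵥ Sum.elim 0 u2 = 0 := by simp [sumElim_dotProduct_sumElim]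
  have := (cl u1).map (cr u2 _ hd)
  rwa [transvectionGL_mulVec, sumElim_dotProduct_sumElim, hβ, zero_dotProduct, add_zero, one_smul,
    show Sum.elim u1 (0 : Fin (l + 2) → F) + Sum.elim (0 : Fin (l + 2) → F) u2 = Sum.elim u1 u2 by ext (a | a) <;> simp] at this

end CfsgLib.Geo.SympNorm
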