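import Cfsg.Agent.Lib.Geo.SympNorm.Core

/-!
# Centralisers of elements of `R`, from the eigenspace projections

If on each eigenspace of each involution in `R` the centraliser in `M` normalises the image of `R`, the
centralisers of non-scalar elements of `R` normalise `R`.
-/

set_option autoImplicit false

namespace CfsgLib.Geo.SympNorm

open Matrix Cfsg.Geo

variable {ι : Type} [Fintype ι] [DecidableEq ι] {F : Type*} [Field F]

/-- Twice the projection onto the fixed space of an involution. -/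
def proj (a : GL ι F) : Matrix ι ι F := 1 + (a : Matrix ι ι F)

theorem proj_neg (a : GL ι F) : proj (-a) = 1 - (a : Matrix ι ι F) := by
  rw [proj, Units.val_neg, sub_eq_add_neg]

theorem proj_comm {g a : GL ι F} (h : Commute g a) : Commute (g : Matrix ι ι F) (proj a) :=
  (Commute.one_right _).add_right (congrArg Units.val h.eq)

theorem proj_mul {a : GL ι F} (ha : a * a = 1) : proj a * proj (-a) = 0 := by
  rw [proj_neg, proj, add_mul, one_mul, mul_sub, mul_one, ← Units.val_mul, ha, Units.val_one]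
  abel

theorem mul_proj {a : GL ι F} (ha : a * a = 1) : (a : Matrix ι ι F) * proj a = proj a := by
  rw [proj, mul_add, mul_one, ← Units.val_mul, ha, Units.val_one, add_comm]

theorem mul_proj_neg {a : GL ι F} (ha : a * a = 1) : (a : Matrix ι ι F) * proj (-a) = -proj (-a) := by
  rw [proj_neg, mul_sub, mul_one, ← Units.val_mul, ha, Units.val_one, neg_sub]

theorem two_smul_eq (M : Matrix ι ι F) (a : GL ι F) : (2 : F) • M = M * proj a + M * proj (-a) := by
  rw [proj_neg, proj, mul_add, mul_sub, mul_one, two_smul]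
  abel

theorem ext_proj (h2 : (2 : F) ≠ 0) (a : GL ι F) {M N : Matrix ι ι F} (e1 : M * proj a = N * proj a)
    (e2 : M * proj (-a) = N * proj (-a)) : M = N :=
  smul_right_injective _ h2 (show (2 : F) • M = (2 : F) • N by rw [two_smul_eq M a, two_smul_eq N a, e1, e2])

theorem trace_of_ac (h2 : (2 : F) ≠ 0) {x a : GL ι F} (h : Ac x a) : (x : Matrix ι ι F).trace = 0 := by
  have e := congrArg (fun Z : GL ι F => (Z : Matrix ι ι F).trace) h.symm.conj_eq
  simp only [Units.val_mul, Units.val_neg, trace_neg] at e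
  rw [trace_mul_cycle, Units.inv_mul, one_mul] at e
  exact (mul_eq_zero.1 (show (2 : F) * (x : Matrix ι ι F).trace = 0 by linear_combination e)).resolve_left h2

theorem cancel_left (g : GL ι F) {M : Matrix ι ι F} (h : (g : Matrix ι ι F) * M = 0) : M = 0 := by
  have := congrArg (fun Z => ((g⁻¹ : GL ι F) : Matrix ι ι F) * Z) h
  simpa [← mul_assoc] using this

theorem sq_one_neg {a : GL ι F} (ha : a * a = 1) : (-a) * (-a) = 1 := by rw [neg_mul_neg, ha]

variable {R M : Subgroup (GL ι F)}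

/-- On the eigenspaces of the involutions of `R` the centralisers in `M` normalise the image of `R`. -/
def ProjNorm (R M : Subgroup (GL ι F)) : Prop :=
  ∀ a ∈ R, a * a = 1 → a ∉ scalars ι F → ∀ g ∈ M, Commute g a → ∀ x ∈ R, Commute x a →
    ∃ x₁ ∈ R, Commute x₁ a ∧ ((g * x * g⁻¹ : GL ι F) : Matrix ι ι F) * proj a = (x₁ : Matrix ι ι F) * proj a

/-- Excludes elements acting on one eigenspace as `(1 + x₁)⁻¹ (1 + x₂)`, anticommuting `x₁, x₂`. -/
def NoSplit (h2 : (2 : F) ≠ 0) (R M : Subgroup (GL ι F)) : Prop :=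
  ∀ a ∈ R, a * a = 1 → a ∉ scalars ι F → ∀ x₁ ∈ R, ∀ x₂ ∈ R, ∀ (h₁ : x₁ * x₁ = -1) (h₂ : x₂ * x₂ = -1),
    Commute x₁ a → Commute x₂ a → Ac x₁ x₂ → ∀ k ∈ M, (k : Matrix ι ι F) * proj a = proj a →
      (k : Matrix ι ι F) * proj (-a) ≠ (((tv h2 x₁ h₁)⁻¹ * tv h2 x₂ h₂ : GL ι F) : Matrix ι ι F) * proj (-a)

namespace IsPre

variable (h : IsPre R)

include h in
theorem proj_ne {a : GL ι F} (ha : a ∈ R) (ha1 : a ∉ scalars ι F) : proj a ≠ 0 := by
  intro e
  have := congrArg Matrix.trace e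
  rw [proj, trace_add, trace_one, h.trace_zero ha ha1, add_zero, Matrix.trace_zero] at this
  exact h.card_ne this

include h in
theorem proj_proj_ne {a v : GL ι F} (ha : a ∈ R) (ha1 : a ∉ scalars ι F) (hv : v ∈ R) (hv1 : v ∉ scalars ι F)
    (hav : a * v ∉ scalars ι F) : proj a * proj v ≠ 0 := by
  intro e
  have := congrArg Matrix.trace e
  rw [proj, proj, add_mul, one_mul, mul_add, mul_one, ← Units.val_mul, trace_add, trace_add, trace_add, trace_one,
    h.trace_zero ha ha1, h.trace_zero hv hv1, h.trace_zero (mul_mem ha hv) hav, add_zero, add_zero, add_zero,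
    Matrix.trace_zero] at this
  exact h.card_ne this

include h in
theorem neg_not_scalar {a : GL ι F} (ha1 : a ∉ scalars ι F) : -a ∉ scalars ι F := fun e =>
  ha1 (by have := neg_mem_scalars e; rwa [neg_neg] at this)

include h in
theorem mul_inv_iff {a v : GL ι F} (ha : a ∈ R) : v * a⁻¹ ∈ scalars ι F ↔ v * a ∈ scalars ι F := by
  have e : v * a = v * a⁻¹ * (a * a) := by group
  refine ⟨fun hh => e ▸ mul_mem hh (h.sq_mem ha), fun hh => ?_⟩
  rw [e] at hh
  have := mul_mem hh (inv_mem (h.sq_mem ha))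
  rwa [mul_inv_cancel_right] at this

include h in
/-- Equal on a nonzero invariant space only for commuting elements. -/
theorem commute_of_eq_on {s t : GL ι F} (hs : s ∈ R) (ht : t ∈ R) {g : GL ι F} {P : Matrix ι ι F} (hP : P ≠ 0)
    (htP : Commute (t : Matrix ι ι F) P) (hgt : Commute g t) (e : (s : Matrix ι ι F) * P = (g : Matrix ι ι F) * P) :
    Commute s t := by
  refine (h.sign s hs t ht).resolve_right fun hac => hP (cancel_left (t * s) ?_)
  have e1 : ((t * s : GL ι F) : Matrix ι ι F) * P = (((g * t : GL ι F)) : Matrix ι ι F) * P := by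
    rw [hgt.eq, Units.val_mul, Units.val_mul, mul_assoc, e, mul_assoc]
  have e2 : ((s * t : GL ι F) : Matrix ι ι F) * P = (((g * t : GL ι F)) : Matrix ι ι F) * P := by
    rw [Units.val_mul, Units.val_mul, mul_assoc, htP.eq, ← mul_assoc, e, mul_assoc, mul_assoc, htP.eq]
  rw [show s * t = -(t * s) from hac, Units.val_neg, neg_mul, ← e1, neg_eq_iff_add_eq_zero, ← two_smul F] at e2
  exact (smul_eq_zero.1 e2).resolve_left h.two

include h in
/-- Scalar on a fixed space only inside `⟨a⟩`. -/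
theorem mem_of_proj {a z : GL ι F} (ha : a ∈ R) (ha1 : a ∉ scalars ι F) (hz : z ∈ R) (hza : Commute z a) {c : F}
    (e : (z : Matrix ι ι F) * proj a = c • proj a) : z ∈ scalars ι F ∨ z * a⁻¹ ∈ scalars ι F :=
  h.mem_of_commute_one ha hz hza fun t ht hta =>
    h.commute_of_smul hz ht (h.proj_ne ha ha1) (proj_comm hta) e

include h in
/-- An element commuting with `a, x₁, x₂` outside `⟨a⟩`. -/
theorem exists_commute_triple (hbig : 5 ≤ Fintype.card ι) {a x₁ x₂ : GL ι F} (ha : a ∈ R) (ha1 : a ∉ scalars ι F)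
    (h₁ : x₁ ∈ R) (h₂ : x₂ ∈ R) (h1a : Commute x₁ a) (h2a : Commute x₂ a) (h12 : Ac x₁ x₂) :
    ∃ t ∈ R, t ∉ scalars ι F ∧ t * a⁻¹ ∉ scalars ι F ∧ Commute t a ∧ Commute t x₁ ∧ Commute t x₂ := by
  by_contra! hc
  obtain ⟨e, he, hae⟩ := h.exists_ac ha ha1
  let v : Fin 2 × Fin 2 × Fin 2 × Fin 2 → Matrix ι ι F := fun p =>
    (((a ^ (p.1 : ℕ) * x₂ ^ (p.2.1 : ℕ) * x₁ ^ (p.2.2.1 : ℕ) * e ^ (p.2.2.2 : ℕ)) : GL ι F) : Matrix ι ι F)
  have hle : Submodule.span F (matrixSet R) ≤ Submodule.span F (Set.range v) := by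
    refine Submodule.span_le.2 ?_
    rintro _ ⟨x, hx, rfl⟩
    obtain ⟨l, hl⟩ : ∃ l : Fin 2, Commute (x * (e ^ (l : ℕ))⁻¹) a := by
      rcases h.sign x hx a ha with e' | e'
      · exact ⟨0, by simpa using e'⟩
      · exact ⟨1, by simpa using (commute_of_ac_ac e'.symm hae.symm.inv_left.symm).symm⟩
    set y₁ := x * (e ^ (l : ℕ))⁻¹ with hy₁
    have hy₁R : y₁ ∈ R := mul_mem hx (inv_mem (pow_mem he _))
    obtain ⟨k, hk, hk'⟩ : ∃ k : Fin 2, Commute (y₁ * (x₁ ^ (k : ℕ))⁻¹) a ∧ Commute (y₁ * (x₁ ^ (k : ℕ))⁻¹) x₂ := by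
      rcases h.sign y₁ hy₁R x₂ h₂ with e' | e'
      · exact ⟨0, by simpa using hl, by simpa using e'⟩
      · exact ⟨1, by simpa using hl.mul_left h1a.inv_left,
          by simpa using (commute_of_ac_ac e'.symm h12.inv_left.symm).symm⟩
    set y₂ := y₁ * (x₁ ^ (k : ℕ))⁻¹ with hy₂
    have hy₂R : y₂ ∈ R := mul_mem hy₁R (inv_mem (pow_mem h₁ _))
    obtain ⟨j, hj, hj', hj''⟩ : ∃ j : Fin 2, Commute (y₂ * (x₂ ^ (j : ℕ))⁻¹) a ∧
        Commute (y₂ * (x₂ ^ (j : ℕ))⁻¹) x₁ ∧ Commute (y₂ * (x₂ ^ (j : ℕ))⁻¹) x₂ := by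
      rcases h.sign y₂ hy₂R x₁ h₁ with e' | e'
      · exact ⟨0, by simpa using hk, by simpa using e', by simpa using hk'⟩
      · exact ⟨1, by simpa using hk.mul_left h2a.inv_left,
          by simpa using (commute_of_ac_ac e'.symm h12.symm.inv_left.symm).symm,
          by simpa using hk'.mul_left (Commute.refl x₂).inv_left⟩
    set y := y₂ * (x₂ ^ (j : ℕ))⁻¹ with hy
    have hyR : y ∈ R := mul_mem hy₂R (inv_mem (pow_mem h₂ _))
    obtain ⟨i, hi⟩ : ∃ i : Fin 2, y * (a ^ (i : ℕ))⁻¹ ∈ scalars ι F := by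
      by_cases hyZ : y ∈ scalars ι F
      · exact ⟨0, by simpa using hyZ⟩
      · exact ⟨1, by simpa using by_contra fun hh => hc y hyR hyZ hh hj hj' hj''⟩
    obtain ⟨c, hc'⟩ := (mem_scalars_iff _).1 hi
    have ex : x = y * (a ^ (i : ℕ))⁻¹ * (a ^ (i : ℕ) * x₂ ^ (j : ℕ) * x₁ ^ (k : ℕ) * e ^ (l : ℕ)) := by
      rw [hy, hy₂, hy₁]; group
    show (x : Matrix ι ι F) ∈ _
    rw [ex, Units.val_mul, hc', smul_mul_assoc, one_mul]
    exact Submodule.smul_mem _ _ (Submodule.subset_span ⟨(i, j, k, l), rfl⟩)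
  rw [h.span] at hle
  have h1 := Submodule.finrank_mono hle
  rw [finrank_top, Module.finrank_matrix, Module.finrank_self, mul_one] at h1
  have h3 : Module.finrank F (Submodule.span F (Set.range v)) ≤ 16 := (finrank_range_le_card v).trans (by simp)
  have : 5 * 5 ≤ Fintype.card ι * Fintype.card ι := Nat.mul_le_mul hbig hbig
  omega

end IsPre

/-- An element `k` trivial on one eigenspace of `a`, acting as `Q` on the other, seen at `v`. -/
theorem split_mem (h : IsSymp R) (hN : ProjNorm R M) {a v d k Q z₀ : GL ι F} (ha : a ∈ R) (haa : a * a = 1)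
    (ha1 : a ∉ scalars ι F) (hv : v ∈ R) (hvv : v * v = 1) (hv1 : v ∉ scalars ι F) (hva : v * a⁻¹ ∉ scalars ι F)
    (hav : Commute v a) (hd : d ∈ R) (hda : Commute d a) (hdv : Commute d v) (hk : k ∈ M)
    (hQa : Commute Q a) (hQv : Commute Q v)
    (hkP : (k : Matrix ι ι F) * proj a = proj a)
    (hkQ : (k : Matrix ι ι F) * proj (-a) = (Q : Matrix ι ι F) * proj (-a))
    (hz₀ : z₀ ∈ R) (hz₀a : Commute z₀ a) (hz : Q * d * Q⁻¹ = d * z₀) :
    (z₀ ∈ scalars ι F ∨ z₀ * a⁻¹ ∈ scalars ι F) ∨ z₀ * v⁻¹ ∈ scalars ι F ∨ z₀ * v⁻¹ * a⁻¹ ∈ scalars ι F := by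
  have hna := sq_one_neg haa
  have hka : Commute k a := by
    refine Units.ext (ext_proj h.two a ?_ ?_)
    · rw [Units.val_mul, Units.val_mul, mul_assoc, mul_proj haa, hkP, mul_assoc, hkP, mul_proj haa]
    · rw [Units.val_mul, Units.val_mul, mul_assoc, mul_proj_neg haa, mul_neg, hkQ, mul_assoc, hkQ, ← mul_assoc,
        ← Units.val_mul a Q, ← hQa.eq, Units.val_mul, mul_assoc, mul_proj_neg haa, mul_neg]
  have hQna : Commute Q (-a) := hQa.neg_right
  have hkv : Commute k v := by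
    have c1 := proj_comm hav
    have c2 := proj_comm hav.neg_right
    refine Units.ext (ext_proj h.two a ?_ ?_)
    · rw [Units.val_mul, Units.val_mul, mul_assoc, c1.eq, ← mul_assoc, hkP, ← c1.eq, mul_assoc, hkP]
    · rw [Units.val_mul, Units.val_mul, mul_assoc, c2.eq, ← mul_assoc, hkQ, mul_assoc, ← c2.eq, mul_assoc, hkQ,
        ← mul_assoc, ← mul_assoc, ← Units.val_mul v Q, ← Units.val_mul Q v, hQv.eq]
  obtain ⟨s, hs, hsv, e⟩ := hN v hv hvv hv1 k hk hkv d hd hdv
  have hva' : v * a ∉ scalars ι F := fun hh => hva ((h.mul_inv_iff ha).2 hh)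
  have hP1 : proj a * proj v ≠ 0 := h.proj_proj_ne ha ha1 hv hv1 (by rwa [← hav.eq])
  have hP2 : proj (-a) * proj v ≠ 0 := h.proj_proj_ne (h.neg_mem ha) (h.neg_not_scalar ha1) hv hv1
    (by rw [neg_mul, ← hav.eq]; exact h.neg_not_scalar hva')
  have hkd : Commute (k * d * k⁻¹) a := (hka.mul_left hda).mul_left hka.inv_left
  have hsa : Commute s a :=
    h.commute_of_eq_on hs ha (h.proj_ne hv hv1) (proj_comm hav.symm) hkd e.symm
  have cva : Commute (proj v) (proj a) := by
    rw [proj]; exact (Commute.one_left _).add_left (proj_comm hav)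
  have cvna : Commute (proj v) (proj (-a)) := by
    rw [proj]; exact (Commute.one_left _).add_left (proj_comm hav.neg_right)
  have hkinv : ((k⁻¹ : GL ι F) : Matrix ι ι F) * proj a = proj a := by
    conv_lhs => rw [← hkP]
    rw [← mul_assoc, Units.inv_mul, one_mul]
  have hkinv' : ((k⁻¹ : GL ι F) : Matrix ι ι F) * proj (-a) = ((Q⁻¹ : GL ι F) : Matrix ι ι F) * proj (-a) := by
    have c1 := (proj_comm hQna.inv_left).eq
    have c2 : Commute (k⁻¹ : GL ι F) (-a) := hka.neg_right.inv_left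
    calc ((k⁻¹ : GL ι F) : Matrix ι ι F) * proj (-a)
        = ((k⁻¹ : GL ι F) : Matrix ι ι F) * ((Q : Matrix ι ι F) * proj (-a)) * ((Q⁻¹ : GL ι F) : Matrix ι ι F) := by
          rw [(proj_comm hQna).eq, ← mul_assoc, mul_assoc _ (Q : Matrix ι ι F), Units.mul_inv, mul_one]
      _ = proj (-a) * ((Q⁻¹ : GL ι F) : Matrix ι ι F) := by
          rw [← hkQ, ← mul_assoc, Units.inv_mul, one_mul]
      _ = _ := c1.symm
  have e1 : (d : Matrix ι ι F) * (proj a * proj v) = (s : Matrix ι ι F) * (proj a * proj v) := by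
    have h1 : ((k * d * k⁻¹ : GL ι F) : Matrix ι ι F) * proj a = (d : Matrix ι ι F) * proj a := by
      rw [Units.val_mul, Units.val_mul, mul_assoc, hkinv, mul_assoc, (proj_comm hda).eq, ← mul_assoc, hkP]
    calc (d : Matrix ι ι F) * (proj a * proj v) = ((k * d * k⁻¹ : GL ι F) : Matrix ι ι F) * proj a * proj v := by
          rw [h1, mul_assoc]
      _ = ((k * d * k⁻¹ : GL ι F) : Matrix ι ι F) * proj v * proj a := by rw [mul_assoc, ← cva.eq, ← mul_assoc]
      _ = _ := by rw [e, mul_assoc, cva.eq]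
  have hzR : d⁻¹ * s ∈ R := mul_mem (inv_mem hd) hs
  have e2 : ((d⁻¹ * s : GL ι F) : Matrix ι ι F) * (proj a * proj v) = (1 : F) • (proj a * proj v) := by
    rw [one_smul, Units.val_mul, mul_assoc, ← e1, ← mul_assoc, Units.inv_mul, one_mul]
  have hcases := h.mem_of_commute_two ha hv hzR hav hv1 hva (hda.inv_left.mul_left hsa) fun t ht hta htv =>
    h.commute_of_smul hzR ht hP1 ((proj_comm hta).mul_right (proj_comm htv)) e2
  obtain ⟨c, hc⟩ : ∃ c : F, ((d⁻¹ * s : GL ι F) : Matrix ι ι F) * (proj (-a) * proj v) = c • (proj (-a) * proj v) := by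
    have gv : (v : Matrix ι ι F) * (proj (-a) * proj v) = proj (-a) * proj v := by
      rw [← mul_assoc, (proj_comm hav.neg_right).eq, mul_assoc, mul_proj hvv]
    have ga : (a : Matrix ι ι F) * (proj (-a) * proj v) = -(proj (-a) * proj v) := by
      rw [← mul_assoc, mul_proj_neg haa, neg_mul]
    rcases hcases with (hh | hh) | hh | hh <;> obtain ⟨u, hu⟩ := (mem_scalars_iff _).1 hh
    · exact ⟨u, by rw [hu, smul_mul_assoc, one_mul]⟩
    · refine ⟨-(u : F), ?_⟩
      rw [show d⁻¹ * s = d⁻¹ * s * a⁻¹ * a by group, Units.val_mul, hu, smul_mul_assoc, one_mul, smul_mul_assoc, ga,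
        smul_neg, neg_smul]
    · refine ⟨(u : F), ?_⟩
      rw [show d⁻¹ * s = d⁻¹ * s * v⁻¹ * v by group, Units.val_mul, hu, smul_mul_assoc, one_mul, smul_mul_assoc, gv]
    · refine ⟨-(u : F), ?_⟩
      rw [show d⁻¹ * s = d⁻¹ * s * v⁻¹ * a⁻¹ * a * v by group, Units.val_mul, Units.val_mul, hu, smul_mul_assoc,
        one_mul, smul_mul_assoc, smul_mul_assoc, mul_assoc, gv, ga, smul_neg, neg_smul]
  have e3 : (z₀ : Matrix ι ι F) * (proj (-a) * proj v) = c • (proj (-a) * proj v) := by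
    have h1 : ((k * d * k⁻¹ : GL ι F) : Matrix ι ι F) * proj (-a) = ((d * z₀ : GL ι F) : Matrix ι ι F) * proj (-a) := by
      have c1 : Commute ((d * Q⁻¹ : GL ι F) : Matrix ι ι F) (proj (-a)) :=
        proj_comm (hda.neg_right.mul_left hQna.inv_left)
      calc ((k * d * k⁻¹ : GL ι F) : Matrix ι ι F) * proj (-a)
          = (k : Matrix ι ι F) * ((d : Matrix ι ι F) * (((k⁻¹ : GL ι F) : Matrix ι ι F) * proj (-a))) := by
            simp only [Units.val_mul, mul_assoc]
        _ = (k : Matrix ι ι F) * (((d * Q⁻¹ : GL ι F) : Matrix ι ι F) * proj (-a)) := by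
            rw [hkinv', Units.val_mul, mul_assoc]
        _ = (k : Matrix ι ι F) * proj (-a) * ((d * Q⁻¹ : GL ι F) : Matrix ι ι F) := by rw [c1.eq, mul_assoc]
        _ = (Q : Matrix ι ι F) * (((d * Q⁻¹ : GL ι F) : Matrix ι ι F) * proj (-a)) := by rw [hkQ, mul_assoc, c1.eq]
        _ = ((Q * d * Q⁻¹ : GL ι F) : Matrix ι ι F) * proj (-a) := by simp only [Units.val_mul, mul_assoc]
        _ = _ := by rw [hz]
    have h2 : (s : Matrix ι ι F) * (proj (-a) * proj v) = ((d * z₀ : GL ι F) : Matrix ι ι F) * (proj (-a) * proj v) := by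
      calc (s : Matrix ι ι F) * (proj (-a) * proj v) = (s : Matrix ι ι F) * proj v * proj (-a) := by
            rw [mul_assoc, cvna.eq]
        _ = ((k * d * k⁻¹ : GL ι F) : Matrix ι ι F) * proj (-a) * proj v := by rw [← e, mul_assoc, cvna.eq, ← mul_assoc]
        _ = _ := by rw [h1, mul_assoc]
    rw [← hc, Units.val_mul, mul_assoc _ (s : Matrix ι ι F), h2, ← mul_assoc ((d⁻¹ : GL ι F) : Matrix ι ι F),
      ← Units.val_mul, inv_mul_cancel_left]
  exact h.mem_of_commute_two ha hv hz₀ hav hv1 hva hz₀a fun t ht hta htv =>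
    h.commute_of_smul hz₀ ht hP2 ((proj_comm hta.neg_right).mul_right (proj_comm htv)) e3

/-- No split elements in dimension at least five. -/
theorem noSplit_of_big (h : IsSymp R) (hN : ProjNorm R M) (hbig : 5 ≤ Fintype.card ι) : NoSplit h.two R M := by
  intro a ha haa ha1 x₁ hx₁ x₂ hx₂ h₁ h₂ h1a h2a h12 k hk hkP hkQ
  obtain ⟨t, ht, ht1, hta1, hta, ht1', ht2'⟩ := h.exists_commute_triple hbig ha ha1 hx₁ hx₂ h1a h2a h12
  obtain ⟨c, hc, hcc⟩ := h.exists_sq_one ht
  set v := c * t with hv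
  have hvR : v ∈ R := mul_mem (h.scal hc) ht
  have hcv : ∀ y, Commute t y → Commute v y := fun y hy => (commute_scalar hc y).mul_left hy
  have hv1 : v ∉ scalars ι F := fun e => ht1 (by
    have := mul_mem (inv_mem hc) e; rwa [hv, inv_mul_cancel_left] at this)
  have hva : v * a⁻¹ ∉ scalars ι F := fun e => hta1 (by
    have := mul_mem (inv_mem hc) e; rwa [hv, mul_assoc c, inv_mul_cancel_left] at this)
  set T₁ := tv h.two x₁ h₁ with hT₁
  set T₂ := tv h.two x₂ h₂ with hT₂
  have hQy : ∀ y, Commute y x₁ → Commute y x₂ → Commute (T₁⁻¹ * T₂) y := fun y e1 e2 =>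
    (tv_commute h.two h₁ e1).inv_left.mul_left (tv_commute h.two h₂ e2)
  have hz : T₁⁻¹ * T₂ * x₂ * (T₁⁻¹ * T₂)⁻¹ = x₂ * x₁ := by
    obtain ⟨c', hc', e⟩ := tv_inv h.two h₁
    have e1 : T₂ * x₂ * T₂⁻¹ = x₂ := by
      rw [(tv_commute h.two h₂ (Commute.refl x₂)).eq, mul_inv_cancel_right]
    have e2 : Ac x₂ (-x₁) := by
      unfold Ac; rw [mul_neg, neg_mul, neg_neg, show x₂ * x₁ = -(x₁ * x₂) from h12.symm, neg_neg]
    rw [show T₁⁻¹ * T₂ * x₂ * (T₁⁻¹ * T₂)⁻¹ = T₁⁻¹ * (T₂ * x₂ * T₂⁻¹) * T₁⁻¹⁻¹ by group, e1, hT₁, e,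
      show c' * tv h.two (-x₁) (neg_sq h₁) * x₂ * (c' * tv h.two (-x₁) (neg_sq h₁))⁻¹ =
        c' * (tv h.two (-x₁) (neg_sq h₁) * x₂ * (tv h.two (-x₁) (neg_sq h₁))⁻¹) * c'⁻¹ by group,
      tv_ac h.two (neg_sq h₁) e2, mul_neg x₂, neg_neg, (commute_scalar hc' _).eq, mul_inv_cancel_right]
  have hcases := split_mem h hN ha haa ha1 hvR hcc hv1 hva (hcv a hta) hx₂ h2a (hcv x₂ ht2').symm hk
    (hQy a h1a.symm h2a.symm) (hQy v (hcv x₁ ht1') (hcv x₂ ht2')) hkP hkQ hx₁ h1a hz
  have hcom : ∀ y ∈ scalars ι F, Commute y x₂ := fun y hy => commute_scalar hy x₂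
  refine h.not_both ?_ h12
  rcases hcases with (e | e) | e | e
  · exact hcom _ e
  · rw [show x₁ = x₁ * a⁻¹ * a by group]; exact (hcom _ e).mul_left h2a.symm
  · rw [show x₁ = x₁ * v⁻¹ * v by group]; exact (hcom _ e).mul_left (hcv x₂ ht2')
  · rw [show x₁ = x₁ * v⁻¹ * a⁻¹ * a * v by group]
    exact ((hcom _ e).mul_left h2a.symm).mul_left (hcv x₂ ht2')

/-- Conjugates of the centraliser of `a` in `R` stay in `R`. -/
theorem conj_mem_centralizer (h : IsSymp R) (hle : R ≤ M) (hT : h.HasTv M) (hN : ProjNorm R M)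
    (hS : NoSplit h.two R M) {a g x : GL ι F} (ha : a ∈ R) (haa : a * a = 1) (ha1 : a ∉ scalars ι F) (hg : g ∈ M)
    (hga : Commute g a) (hx : x ∈ R) (hxa : Commute x a) : g * x * g⁻¹ ∈ R := by
  obtain ⟨c₀, hc₀, hxR, hxx, hcom, -⟩ := h.normed_props hx
  suffices H : g * (c₀ * x) * g⁻¹ ∈ R by
    rw [show g * (c₀ * x) * g⁻¹ = g * c₀ * g⁻¹ * (g * x * g⁻¹) by group, scalar_conj hc₀] at H
    have := mul_mem (h.scal (inv_mem hc₀)) H
    rwa [inv_mul_cancel_left] at this
  set y := c₀ * x with hy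
  have hya : Commute y a := (hcom a hxa.symm).symm
  by_cases hyd : y ∈ scalars ι F ∨ y * a⁻¹ ∈ scalars ι F
  · rcases hyd with e | e
    · rw [scalar_conj e]; exact h.scal e
    · rw [show g * y * g⁻¹ = g * (y * a⁻¹) * g⁻¹ * (g * a * g⁻¹) by group, scalar_conj e, hga.eq, mul_inv_cancel_right]
      exact mul_mem (h.scal e) ha
  set X := g * y * g⁻¹ with hX
  have hna := sq_one_neg haa
  obtain ⟨x₁, hx₁, hx₁a, e₁⟩ := hN a ha haa ha1 g hg hga y hxR hya
  obtain ⟨x₂, hx₂, hx₂a', e₂⟩ := hN (-a) (h.neg_mem ha) hna (h.neg_not_scalar ha1) g hg hga.neg_right y hxR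
    hya.neg_right
  have hx₂a : Commute x₂ a := Commute.neg_right_iff.1 hx₂a'
  rw [← hX] at e₁ e₂
  have hXX : X * X = -1 := by
    rw [hX, show g * y * g⁻¹ * (g * y * g⁻¹) = g * (y * y) * g⁻¹ by group, hxx, mul_neg_one, neg_mul, mul_inv_cancel]
  have hXa : Commute X a := (hga.mul_left hya).mul_left hga.inv_left
  have hPne := h.proj_ne ha ha1
  have hnPne := h.proj_ne (h.neg_mem ha) (h.neg_not_scalar ha1)
  have sq : ∀ {b z : GL ι F}, b ∈ R → b ∉ scalars ι F → z ∈ R → Commute z b → Commute X b →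
      (X : Matrix ι ι F) * proj b = (z : Matrix ι ι F) * proj b → z * z = -1 := by
    intro b z hb hb1 hz hzb hXb e
    obtain ⟨d, hd⟩ := (mem_scalars_iff _).1 (h.sq_mem hz)
    have e' : ((z * z : GL ι F) : Matrix ι ι F) * proj b = ((X * X : GL ι F) : Matrix ι ι F) * proj b := by
      have hXz : (X : Matrix ι ι F) * ((z : Matrix ι ι F) * proj b) = (z : Matrix ι ι F) * ((z : Matrix ι ι F) * proj b) := by
        rw [(proj_comm hzb).eq, ← mul_assoc, e, mul_assoc]
      rw [Units.val_mul, Units.val_mul, mul_assoc, mul_assoc, e, hXz]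
    rw [hd, hXX, smul_mul_assoc, one_mul, Units.val_neg, Units.val_one, neg_mul, one_mul] at e'
    have hd1 : (d : F) = -1 := by
      have h0 : ((d : F) + 1) • proj b = 0 := by rw [add_smul, one_smul, e', neg_add_cancel]
      exact eq_neg_of_add_eq_zero_left ((smul_eq_zero.1 h0).resolve_right (h.proj_ne hb hb1))
    exact Units.ext (by rw [hd, hd1, neg_smul, one_smul, Units.val_neg, Units.val_one])
  have h11 := sq ha ha1 hx₁ hx₁a hXa e₁
  have h22 := sq (h.neg_mem ha) (h.neg_not_scalar ha1) hx₂ hx₂a' hXa.neg_right e₂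
  by_cases hsame : x₁⁻¹ * x₂ ∈ scalars ι F ∨ x₁⁻¹ * x₂ * a⁻¹ ∈ scalars ι F
  · obtain ⟨d, hd⟩ : ∃ d : F, (x₂ : Matrix ι ι F) * proj (-a) = d • ((x₁ : Matrix ι ι F) * proj (-a)) := by
      rcases hsame with e | e <;> obtain ⟨u, hu⟩ := (mem_scalars_iff _).1 e
      · refine ⟨u, ?_⟩
        rw [show x₂ = x₁ * (x₁⁻¹ * x₂) by group, Units.val_mul, hu, Matrix.mul_smul, mul_one, smul_mul_assoc]
      · refine ⟨-(u : F), ?_⟩
        rw [show x₂ = x₁ * ((x₁⁻¹ * x₂ * a⁻¹) * a) by group, Units.val_mul, Units.val_mul, hu, smul_mul_assoc, one_mul,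
          Matrix.mul_smul, smul_mul_assoc, mul_assoc, mul_proj_neg haa, mul_neg, smul_neg, neg_smul]
    have c1 := (proj_comm hx₁a.neg_right).eq
    have hdd : d * d = 1 := by
      have hsq1 : (x₁ : Matrix ι ι F) * x₁ = -1 := by rw [← Units.val_mul, h11]; simp
      have hsq2 : (x₂ : Matrix ι ι F) * x₂ = -1 := by rw [← Units.val_mul, h22]; simp
      have c2 := (proj_comm hx₂a.neg_right).eq
      have hsc : (x₂ : Matrix ι ι F) * ((x₁ : Matrix ι ι F) * proj (-a)) =
          d • ((x₁ : Matrix ι ι F) * (x₁ * proj (-a))) := by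
        rcases h.sign x₂ hx₂ x₁ hx₁ with e | e
        · rw [← mul_assoc, ← Units.val_mul, e.eq, Units.val_mul, mul_assoc, hd, Matrix.mul_smul]
        · exfalso
          have hc : Commute x₁ x₂ := by
            rcases hsame with e' | e'
            · rw [show x₂ = x₁ * (x₁⁻¹ * x₂) by group]
              exact (Commute.refl x₁).mul_right (commute_scalar e' x₁).symm
            · rw [show x₂ = x₁ * ((x₁⁻¹ * x₂ * a⁻¹) * a) by group]
              exact (Commute.refl x₁).mul_right ((commute_scalar e' x₁).symm.mul_right hx₁a)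
          exact h.not_both hc.symm e
      have e' := congrArg (fun Z => (x₂ : Matrix ι ι F) * Z) hd
      simp only [Matrix.mul_smul] at e'
      rw [hsc, ← mul_assoc, ← mul_assoc, hsq1, hsq2, smul_smul, neg_one_mul, smul_neg, neg_inj] at e'
      have h0 : (d * d - 1) • proj (-a) = 0 := by rw [sub_smul, one_smul, ← e', sub_self]
      exact sub_eq_zero.1 ((smul_eq_zero.1 h0).resolve_right hnPne)
    rcases mul_self_eq_one_iff.1 hdd with e | e
    · have : X = x₁ := Units.ext (ext_proj h.two a e₁ (by rw [e₂, hd, e, one_smul]))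
      rw [this]; exact hx₁
    · have : X = x₁ * a := Units.ext (ext_proj h.two a
        (by rw [e₁, Units.val_mul, mul_assoc, mul_proj haa])
        (by rw [e₂, hd, e, neg_smul, one_smul, Units.val_mul, mul_assoc, mul_proj_neg haa, mul_neg]))
      rw [this]; exact mul_mem hx₁ ha
  exfalso
  push Not at hsame
  set T₁ := tv h.two x₁ h11 with hT₁
  set T₂ := tv h.two x₂ h22 with hT₂
  set k := T₁⁻¹ * tv h.two X hXX with hk
  have hkM : k ∈ M := by
    refine mul_mem (inv_mem (hT x₁ hx₁ h11)) ?_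
    rw [← tv_conj h.two hxx hXX hX.symm]
    exact mul_mem (mul_mem hg (hT y hxR hxx)) (inv_mem hg)
  have tvP : ∀ (z w : GL ι F) (hz : z * z = -1) (hw : w * w = -1) (b : GL ι F),
      (z : Matrix ι ι F) * proj b = (w : Matrix ι ι F) * proj b →
      ((tv h.two z hz : GL ι F) : Matrix ι ι F) * proj b = ((tv h.two w hw : GL ι F) : Matrix ι ι F) * proj b :=
    fun z w hz hw b e => by
      show (1 + (z : Matrix ι ι F)) * proj b = (1 + (w : Matrix ι ι F)) * proj b
      rw [add_mul, add_mul, e]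
  have hkP : (k : Matrix ι ι F) * proj a = proj a := by
    rw [hk, Units.val_mul, mul_assoc, tvP X x₁ hXX h11 a e₁, ← hT₁, ← mul_assoc, Units.inv_mul, one_mul]
  have hkQ : (k : Matrix ι ι F) * proj (-a) = ((T₁⁻¹ * T₂ : GL ι F) : Matrix ι ι F) * proj (-a) := by
    rw [hk, Units.val_mul, mul_assoc, tvP X x₂ hXX h22 (-a) e₂, ← hT₂, Units.val_mul, mul_assoc]
  rcases h.sign x₁ hx₁ x₂ hx₂ with h12 | h12
  swap
  · exact hS a ha haa ha1 x₁ hx₁ x₂ hx₂ h11 h22 hx₁a hx₂a h12 k hkM hkP hkQ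
  -- `y` is not scalar on either eigenspace
  have out : ∀ b z : GL ι F, b ∈ R → b ∉ scalars ι F → z ∈ R → Commute z b → Commute g b → Commute y b →
      (X : Matrix ι ι F) * proj b = (z : Matrix ι ι F) * proj b → (b * b = 1) →
      (z ∈ scalars ι F ∨ z * b⁻¹ ∈ scalars ι F) → (y ∈ scalars ι F ∨ y * b⁻¹ ∈ scalars ι F) := by
    intro b z hb hb1 hz hzb hgb hyb e hbb hh
    obtain ⟨u, hu⟩ : ∃ u : F, (z : Matrix ι ι F) * proj b = u • proj b := by
      rcases hh with hh | hh <;> obtain ⟨u, hu⟩ := (mem_scalars_iff _).1 hh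
      · exact ⟨u, by rw [hu, smul_mul_assoc, one_mul]⟩
      · exact ⟨u, by rw [show z = z * b⁻¹ * b by group, Units.val_mul, hu, smul_mul_assoc, one_mul, smul_mul_assoc,
          mul_proj hbb]⟩
    refine h.mem_of_proj hb hb1 hxR hyb (c := u) ?_
    calc (y : Matrix ι ι F) * proj b = ((g⁻¹ * X * g : GL ι F) : Matrix ι ι F) * proj b := by
          rw [show g⁻¹ * X * g = y by rw [hX]; group]
      _ = ((g⁻¹ : GL ι F) : Matrix ι ι F) * ((X : Matrix ι ι F) * proj b) * g := by
          rw [Units.val_mul, Units.val_mul, mul_assoc, (proj_comm hgb).eq]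
          simp only [mul_assoc]
      _ = u • proj b := by
          rw [e, hu, Matrix.mul_smul, smul_mul_assoc, mul_assoc, ← (proj_comm hgb).eq, ← mul_assoc, Units.inv_mul,
            one_mul]
  have hx₁o : ¬ (x₁ ∈ scalars ι F ∨ x₁ * a⁻¹ ∈ scalars ι F) :=
    fun hh => hyd (out a x₁ ha ha1 hx₁ hx₁a hga hya e₁ haa hh)
  have hx₂o : ¬ (x₂ ∈ scalars ι F ∨ x₂ * a⁻¹ ∈ scalars ι F) := fun hh => by
    refine hyd ?_
    have hneg : ∀ z : GL ι F, z * (-a)⁻¹ = -(z * a⁻¹) := fun z => by
      rw [inv_neg, mul_neg]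
    rcases out (-a) x₂ (h.neg_mem ha) (h.neg_not_scalar ha1) hx₂ hx₂a' hga.neg_right hya.neg_right e₂ hna
      (by rw [hneg]; exact hh.imp id neg_mem_scalars) with e | e
    · exact Or.inl e
    · rw [hneg] at e
      exact Or.inr (by have := neg_mem_scalars e; rwa [neg_neg] at this)
  -- the involution proportional to `x₁`
  obtain ⟨z, hzs, hzz⟩ := h.root_unit
  set v := z * x₁ with hv
  have hvR : v ∈ R := mul_mem (h.scal hzs) hx₁
  have hvv : v * v = 1 := by
    rw [hv, show z * x₁ * (z * x₁) = z * (x₁ * z) * x₁ by group, ← (commute_scalar hzs x₁).eq, ← mul_assoc, hzz,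
      mul_assoc, h11, neg_mul_neg, one_mul]
  have hcv : ∀ w, Commute x₁ w → Commute v w := fun w hw => (commute_scalar hzs w).mul_left hw
  have hvcl : ∀ w : GL ι F, v * w ∈ scalars ι F → x₁ * w ∈ scalars ι F := fun w e => by
    have := mul_mem (inv_mem hzs) e; rwa [hv, mul_assoc z, inv_mul_cancel_left] at this
  have hv1 : v ∉ scalars ι F := fun e => hx₁o (Or.inl (by simpa using hvcl 1 (by simpa using e)))
  have hva : v * a⁻¹ ∉ scalars ι F := fun e => hx₁o (Or.inr (hvcl _ e))
  have hn : ¬ (x₂ * v⁻¹ ∈ scalars ι F ∨ x₂ * v⁻¹ * a⁻¹ ∈ scalars ι F) := by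
    have e0 : ∀ w : GL ι F, x₂ * v⁻¹ * w = z⁻¹ * (x₁⁻¹ * x₂ * w) := fun w => by
      have hc := (h12.inv_left).eq
      rw [hv, _root_.mul_inv_rev, ← mul_assoc x₂, ← hc, (commute_scalar (inv_mem hzs) (x₁⁻¹ * x₂)).symm.eq, mul_assoc]
    rintro (e | e)
    · rw [show x₂ * v⁻¹ = x₂ * v⁻¹ * 1 by rw [mul_one], e0, mul_one] at e
      exact hsame.1 (by have := mul_mem hzs e; rwa [mul_inv_cancel_left] at this)
    · rw [e0] at e
      exact hsame.2 (by have := mul_mem hzs e; rwa [mul_inv_cancel_left] at this)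
  obtain ⟨d, hd, hdav, hdx₂⟩ : ∃ d ∈ R, (Commute d a ∧ Commute d v) ∧ Ac d x₂ := by
    by_contra! hc
    rcases h.mem_of_commute_two ha hvR hx₂ (hcv a hx₁a) hv1 hva hx₂a fun t ht hta htv =>
      ((h.sign t ht x₂ hx₂).resolve_right (hc t ht ⟨hta, htv⟩)).symm with e | e
    · exact hx₂o e
    · exact hn e
  obtain ⟨hda, hdv⟩ := hdav
  have hdx₁ : Commute d x₁ := by
    rw [show x₁ = z⁻¹ * v by rw [hv, inv_mul_cancel_left]]
    exact (commute_scalar (inv_mem hzs) d).symm.mul_right hdv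
  have hQy : ∀ w, Commute w x₁ → Commute w x₂ → Commute (T₁⁻¹ * T₂) w := fun w e1 e2 =>
    (tv_commute h.two h11 e1).inv_left.mul_left (tv_commute h.two h22 e2)
  have hz : T₁⁻¹ * T₂ * d * (T₁⁻¹ * T₂)⁻¹ = d * -x₂ := by
    rw [show T₁⁻¹ * T₂ * d * (T₁⁻¹ * T₂)⁻¹ = T₁⁻¹ * (T₂ * d * T₂⁻¹) * T₁⁻¹⁻¹ by group, hT₂,
      tv_ac h.two h22 hdx₂]
    have hc : Commute T₁⁻¹ (-(d * x₂)) := (tv_commute h.two h11 ((hdx₁.mul_left h12.symm).neg_left)).inv_left
    rw [hc.eq, mul_inv_cancel_right, mul_neg]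
  have hx₁v : Commute v x₁ := hcv x₁ (Commute.refl x₁)
  rcases split_mem h hN ha haa ha1 hvR hvv hv1 hva (hcv a hx₁a) hd hda hdv hkM
    (hQy a hx₁a.symm hx₂a.symm) (hQy v hx₁v (hcv x₂ h12)) hkP hkQ (h.neg_mem hx₂)
    (hx₂a.neg_left) hz with (e | e) | e | e
  · exact hx₂o (Or.inl (by have := neg_mem_scalars e; rwa [neg_neg] at this))
  · rw [neg_mul] at e; exact hx₂o (Or.inr (by have := neg_mem_scalars e; rwa [neg_neg] at this))
  · rw [neg_mul] at e; exact hn (Or.inl (by have := neg_mem_scalars e; rwa [neg_neg] at this))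
  · rw [neg_mul, neg_mul] at e; exact hn (Or.inr (by have := neg_mem_scalars e; rwa [neg_neg] at this))

/-- Centralisers of non-scalar elements of `R` normalise `R`. -/
theorem centralizer_le (h : IsSymp R) (hbig : 3 ≤ Fintype.card ι) (hle : R ≤ M) (hT : h.HasTv M)
    (hN : ProjNorm R M) (hS : NoSplit h.two R M) :
    ∀ g ∈ M, ∀ a ∈ R, a ∉ scalars ι F → PC g a → g ∈ subgroupNormalizer R := by
  -- elements fixing `a` and a second involution exactly
  have two : ∀ g ∈ M, ∀ a ∈ R, a * a = 1 → a ∉ scalars ι F → Commute g a → ∀ v ∈ R, v * v = 1 → v ∉ scalars ι F →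
      v * a⁻¹ ∉ scalars ι F → Commute v a → Commute g v → g ∈ subgroupNormalizer R := by
    intro g hg a ha haa ha1 hga v hv hvv hv1 hva hva' hgv
    have hcR : ∀ g ∈ M, Commute g a → ∀ x ∈ R, Commute x a → g * x * g⁻¹ ∈ R := fun g hg hga x hx hxa =>
      conj_mem_centralizer h hle hT hN hS ha haa ha1 hg hga hx hxa
    have hav2 : a * v⁻¹ ∉ scalars ι F := fun e => hva (by
      have := inv_mem e; rwa [_root_.mul_inv_rev, inv_inv] at this)
    obtain ⟨b, hb, hbv, hba⟩ := h.exists_ac_left ha hv hva'.symm ha1 hav2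
    have key : ∀ g ∈ M, Commute g a → Commute g v → g * b * g⁻¹ ∈ R := by
      intro g hg hga hgv
      set b' := g * b * g⁻¹ with hb'
      set q := b⁻¹ * b' with hq
      have hb'a : Ac b' a := by
        have := hba.conj g
        rwa [hga.eq, mul_inv_cancel_right] at this
      have hqa : Commute q a := (commute_of_ac_ac hba.inv_left.symm hb'a.symm).symm
      have hb'v : Commute b' v := (hgv.mul_left hbv).mul_left hgv.inv_left
      have hqv : Commute q v := hbv.inv_left.mul_left hb'v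
      have hqt : ∀ t ∈ R, Commute t a → PC q t := by
        intro t ht hta
        have ht' : g⁻¹ * t * g ∈ R := by
          have := hcR g⁻¹ (inv_mem hg) hga.inv_left t ht hta
          rwa [inv_inv] at this
        have h1 := (h.sign b hb _ ht').conj g
        rw [← hb', show g * (g⁻¹ * t * g) * g⁻¹ = t by group] at h1
        exact (h.sign b hb t ht).inv_left.mul_left h1
      obtain ⟨r, hr, hra, hr0⟩ : ∃ r ∈ R, Commute r a ∧
          (((q * r : GL ι F) : Matrix ι ι F) * proj a).trace ≠ 0 := by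
        by_contra! hc
        refine h.proj_ne ha ha1 (cancel_left q (h.eq_zero_of_trace fun r hr => ?_))
        rcases h.sign r hr a ha with hra | hra
        · rw [mul_assoc, ← (proj_comm hra).eq, ← mul_assoc, ← Units.val_mul]
          exact hc r hr hra
        · have t1 := trace_of_ac h.two (Ac.mul_left' hqa hra)
          have t2 := trace_of_ac h.two (Ac.mul_left' hqa (Ac.mul_left' (Commute.refl a) hra))
          simp only [Units.val_mul] at t1 t2
          rw [proj, mul_add, mul_one, add_mul, trace_add, t1, mul_assoc, t2, add_zero]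
      set d := q * r with hd
      have hdt : ∀ t ∈ R, Commute t a → Commute d t := by
        intro t ht hta
        refine ((hqt t ht hta).mul_left (h.sign r hr t ht)).resolve_right fun hac => hr0 ?_
        have e := congrArg (fun Z : GL ι F => ((Z : Matrix ι ι F) * proj a).trace) hac.symm.conj_eq
        simp only [Units.val_mul, Units.val_neg, neg_mul, trace_neg] at e
        rw [mul_assoc, (proj_comm hta.inv_left).eq, ← mul_assoc, mul_assoc (t : Matrix ι ι F), trace_mul_cycle,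
          Units.inv_mul, one_mul] at e
        exact (mul_eq_zero.1 (show (2 : F) * ((d : Matrix ι ι F) * proj a).trace = 0 by
          linear_combination e)).resolve_left h.two
      have hda : Commute d a := hqa.mul_left hra
      obtain ⟨e, he, hae⟩ := h.exists_ac ha ha1
      have hproj : ∀ w : GL ι F, w ∈ R → w * w = 1 → Commute d w → Ac e w →
          (∀ t, Commute t a → Commute t w) → ∃ c : F, (d : Matrix ι ι F) * proj w = c • proj w := by
        intro w hw hww hdw hew hcent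
        set Y₁ := (d : Matrix ι ι F) * proj w with hY₁
        set Y₂ := (e : Matrix ι ι F) * Y₁ * ((e⁻¹ : GL ι F) : Matrix ι ι F) with hY₂
        have hc1 : ∀ t ∈ R, Commute t a → Commute Y₁ (t : Matrix ι ι F) := fun t ht hta =>
          (show Commute (d : Matrix ι ι F) (t : Matrix ι ι F) from congrArg Units.val (hdt t ht hta).eq).mul_left
            (proj_comm (hcent t hta)).symm
        have hc2 : ∀ t ∈ R, Commute t a → Commute Y₂ (t : Matrix ι ι F) := by
          intro t ht hta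
          have ht' : Commute (e⁻¹ * t * e) a := by
            have h1 := (commute_conj hta e⁻¹)
            rcases (PC.conj_mem (Or.inr hae.symm.inv_left : PC e⁻¹ a)) with e1 | e1 <;> rw [e1, inv_inv] at h1
            · exact h1
            · exact Commute.neg_right_iff.1 h1
          have h1 := hc1 _ (mul_mem (mul_mem (inv_mem he) ht) he) ht'
          show Y₂ * (t : Matrix ι ι F) = (t : Matrix ι ι F) * Y₂
          have et : (t : Matrix ι ι F) = (e : Matrix ι ι F) * ((e⁻¹ * t * e : GL ι F) : Matrix ι ι F) *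
              ((e⁻¹ : GL ι F) : Matrix ι ι F) := by
            rw [← Units.val_mul, ← Units.val_mul]; congr 1; group
          rw [hY₂, et]
          generalize e⁻¹ * t * e = t' at h1 ⊢
          simp only [mul_assoc, ← mul_assoc ((e⁻¹ : GL ι F) : Matrix ι ι F), Units.inv_mul, one_mul]
          rw [← mul_assoc Y₁, h1.eq, mul_assoc]
        have hcY : ∀ t ∈ R, Commute (Y₁ + Y₂) (t : Matrix ι ι F) := by
          have hce : Commute (Y₁ + Y₂) (e : Matrix ι ι F) := by
            obtain ⟨u, hu⟩ := (mem_scalars_iff _).1 (h.sq_mem he)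
            obtain ⟨u', hu'⟩ := (mem_scalars_iff _).1 (inv_mem (h.sq_mem he))
            have ee : ((e⁻¹ : GL ι F) : Matrix ι ι F) = ((e * e : GL ι F)⁻¹ : GL ι F) * (e : Matrix ι ι F) := by
              rw [← Units.val_mul]; congr 1; group
            show (Y₁ + Y₂) * (e : Matrix ι ι F) = (e : Matrix ι ι F) * (Y₁ + Y₂)
            rw [hY₂, add_mul, mul_add, mul_assoc ((e : Matrix ι ι F) * Y₁) _ (e : Matrix ι ι F), Units.inv_mul, mul_one]
            conv_rhs => rw [ee, hu', smul_mul_assoc, one_mul, Matrix.mul_smul, Matrix.mul_smul,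
              ← mul_assoc (e : Matrix ι ι F) ((e : Matrix ι ι F) * Y₁), ← mul_assoc (e : Matrix ι ι F) (e : Matrix ι ι F),
              ← Units.val_mul e e, hu, smul_mul_assoc, one_mul, smul_mul_assoc, smul_smul]
            have : (u' : F) * u = 1 := by
              have e1 : ((((e * e)⁻¹ * (e * e)) : GL ι F) : Matrix ι ι F) = 1 := by rw [inv_mul_cancel]; rfl
              rw [Units.val_mul, hu, hu', smul_mul_smul_comm, one_mul] at e1
              haveI := h.nonempty
              obtain ⟨i⟩ := ‹Nonempty ι›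
              simpa using congrFun₂ e1 i i
            rw [this, one_smul, add_comm]
          intro t ht
          rcases h.sign t ht a ha with hta | hta
          · exact (hc1 t ht hta).add_left (hc2 t ht hta)
          · have h1 := (hc1 _ (mul_mem ht he) (commute_of_ac_ac hta.symm hae).symm).add_left
              (hc2 _ (mul_mem ht he) (commute_of_ac_ac hta.symm hae).symm)
            have he1 : Commute (Y₁ + Y₂) ((e⁻¹ : GL ι F) : Matrix ι ι F) := hce.units_inv_right
            have := h1.mul_right he1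
            rwa [← Units.val_mul, mul_inv_cancel_right] at this
        obtain ⟨c, hc⟩ := h.exists_eq_smul_one hcY
        refine ⟨(2 : F)⁻¹ * c, ?_⟩
        have e1 : Y₁ * proj w = (2 : F) • Y₁ := by
          rw [hY₁, mul_assoc, show proj w * proj w = (2 : F) • proj w by
            conv_lhs => rw [proj, add_mul, one_mul, ← proj, mul_proj hww]
            rw [two_smul], Matrix.mul_smul]
        have e2 : Y₂ * proj w = 0 := by
          have h1 : ((e⁻¹ : GL ι F) : Matrix ι ι F) * proj w = proj (-w) * ((e⁻¹ : GL ι F) : Matrix ι ι F) := by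
            rw [proj, proj_neg, mul_add, sub_mul, mul_one, one_mul, ← Units.val_mul, ← Units.val_mul,
              show e⁻¹ * w = -(w * e⁻¹) from hew.inv_left, Units.val_neg, sub_eq_add_neg]
          rw [hY₂, mul_assoc, h1, ← mul_assoc, mul_assoc _ Y₁, hY₁, mul_assoc _ (proj w), proj_mul hww, mul_zero,
            mul_zero, zero_mul]
        have e3 := congrArg (fun Z => Z * proj w) hc
        simp only [add_mul, e1, e2, add_zero, smul_mul_assoc, one_mul] at e3
        rw [← inv_smul_smul₀ h.two Y₁, e3, smul_smul]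
      obtain ⟨c₁, e₁⟩ := hproj a ha haa hda hae.symm fun t ht => ht
      obtain ⟨c₂, e₂⟩ := hproj (-a) (h.neg_mem ha) (sq_one_neg haa) hda.neg_right
        (by unfold Ac; rw [mul_neg, show e * a = -(a * e) from hae.symm, neg_mul])
        fun t ht => ht.neg_right
      obtain ⟨s, hs, hsv, es⟩ := hN v hv hvv hv1 g hg hgv b hb hbv
      have hdv : Commute d v := hdt v hv hva'
      have hrv : Commute r v := by
        rw [show r = q⁻¹ * d by rw [hd, inv_mul_cancel_left]]
        exact hqv.inv_left.mul_left hdv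
      set s' := b⁻¹ * s * r with hs'
      have hs'R : s' ∈ R := mul_mem (mul_mem (inv_mem hb) hs) hr
      have e3 : (d : Matrix ι ι F) * proj v = (s' : Matrix ι ι F) * proj v := by
        rw [← hb'] at es
        calc (d : Matrix ι ι F) * proj v
            = ((b⁻¹ : GL ι F) : Matrix ι ι F) * ((b' : Matrix ι ι F) * proj v) * r := by
              rw [show d = b⁻¹ * b' * r from rfl, Units.val_mul, Units.val_mul, mul_assoc, (proj_comm hrv).eq]
              simp only [mul_assoc]
          _ = ((b⁻¹ : GL ι F) : Matrix ι ι F) * ((s : Matrix ι ι F) * proj v) * r := by rw [es]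
          _ = _ := by
              rw [hs', Units.val_mul, Units.val_mul, mul_assoc _ (r : Matrix ι ι F), (proj_comm hrv).eq]
              simp only [mul_assoc]
      have hs'a : Commute s' a :=
        h.commute_of_eq_on hs'R ha (h.proj_ne hv hv1) (proj_comm hva'.symm) hda e3.symm
      have cva : Commute (proj v) (proj a) := by rw [proj]; exact (Commute.one_left _).add_left (proj_comm hva')
      have cvna : Commute (proj v) (proj (-a)) := by
        rw [proj]; exact (Commute.one_left _).add_left (proj_comm hva'.neg_right)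
      have f1 : (s' : Matrix ι ι F) * (proj a * proj v) = c₁ • (proj a * proj v) := by
        rw [← cva.eq, ← mul_assoc, ← e3, mul_assoc, cva.eq, ← mul_assoc, e₁, smul_mul_assoc]
      have f2 : (s' : Matrix ι ι F) * (proj (-a) * proj v) = c₂ • (proj (-a) * proj v) := by
        rw [← cvna.eq, ← mul_assoc, ← e3, mul_assoc, cvna.eq, ← mul_assoc, e₂, smul_mul_assoc]
      obtain ⟨u, hu⟩ := (mem_scalars_iff _).1 (h.sq_mem hs'R)
      have hva2 : v * a ∉ scalars ι F := fun hh => hva ((h.mul_inv_iff ha).2 hh)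
      have sqeq : ∀ (c : F) (Z : Matrix ι ι F), Z ≠ 0 → (s' : Matrix ι ι F) * Z = c • Z → (u : F) = c * c := by
        intro c Z hZ e
        have e' : ((s' * s' : GL ι F) : Matrix ι ι F) * Z = (c * c) • Z := by
          rw [Units.val_mul, mul_assoc, e, Matrix.mul_smul, e, smul_smul]
        rw [hu, smul_mul_assoc, one_mul] at e'
        exact smul_left_injective F hZ e'
      have hcc : c₁ * c₁ = c₂ * c₂ := (sqeq c₁ _ (h.proj_proj_ne ha ha1 hv hv1 (by rwa [← hva'.eq])) f1).symm.trans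
        (sqeq c₂ _ (h.proj_proj_ne (h.neg_mem ha) (h.neg_not_scalar ha1) hv hv1
          (by rw [neg_mul, ← hva'.eq]; exact h.neg_not_scalar hva2)) f2)
      have hdR : d ∈ R := by
        have hc10 : c₁ ≠ 0 := by
          rintro rfl
          rw [zero_smul] at e₁
          exact h.proj_ne ha ha1 (cancel_left d e₁)
        have hscR : sc c₁ hc10 ∈ R := h.scal (sc_mem c₁ hc10)
        rcases mul_self_eq_mul_self_iff.1 hcc with e' | e'
        · have : d = sc c₁ hc10 := Units.ext (ext_proj h.two a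
            (by rw [e₁]; simp [sc]) (by rw [e₂, ← e']; simp [sc]))
          rw [this]; exact hscR
        · have : d = sc c₁ hc10 * a := Units.ext (ext_proj h.two a
            (by rw [e₁, Units.val_mul, mul_assoc, mul_proj haa]; simp [sc])
            (by rw [e₂, Units.val_mul, mul_assoc, mul_proj_neg haa, show c₂ = -c₁ by rw [e', neg_neg]]; simp [sc]))
          rw [this]; exact mul_mem hscR ha
      have : b' = b * d * r⁻¹ := by rw [hd, hq]; group
      rw [this]
      exact mul_mem (mul_mem hb hdR) (inv_mem hr)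
    have all : ∀ g ∈ M, Commute g a → Commute g v → ∀ x ∈ R, g * x * g⁻¹ ∈ R := by
      intro g hg hga hgv x hx
      rcases h.sign x hx a ha with e | e
      · exact hcR g hg hga x hx e
      · have h1 := hcR g hg hga (x * b⁻¹) (mul_mem hx (inv_mem hb)) (commute_of_ac_ac e.symm hba.inv_left.symm).symm
        have := mul_mem h1 (key g hg hga hgv)
        rwa [show g * (x * b⁻¹) * g⁻¹ * (g * b * g⁻¹) = g * x * g⁻¹ by group] at this
    refine Subgroup.mem_normalizer_iff.2 fun x => ⟨all g hg hga hgv x, fun hx => ?_⟩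
    have := all g⁻¹ (inv_mem hg) hga.inv_left hgv.inv_left _ hx
    rwa [show g⁻¹ * (g * x * g⁻¹) * g⁻¹⁻¹ = x by group] at this
  intro g hg a ha ha1 hga
  obtain ⟨c, hc, hcc⟩ := h.exists_sq_one ha
  set a₁ := c * a with ha₁
  have ha₁R : a₁ ∈ R := mul_mem (h.scal hc) ha
  have ha₁1 : a₁ ∉ scalars ι F := fun e => ha1 (by
    have := mul_mem (inv_mem hc) e; rwa [ha₁, inv_mul_cancel_left] at this)
  have hga₁ : PC g a₁ := (pc_scalar hc g).symm.mul_right hga
  obtain ⟨e, he, hae⟩ := h.exists_ac ha₁R ha₁1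
  obtain ⟨t, ht, ht1, hta, hte⟩ := h.exists_commute_pair hbig ha₁R he hae
  obtain ⟨c', hc', hvv⟩ := h.exists_sq_one ht
  set v := c' * t with hv
  have hvR : v ∈ R := mul_mem (h.scal hc') ht
  have hv1 : v ∉ scalars ι F := fun e => ht1 (by
    have := mul_mem (inv_mem hc') e; rwa [hv, inv_mul_cancel_left] at this)
  have hva : v * a₁⁻¹ ∉ scalars ι F := fun e' => by
    have hve : Commute v e := (commute_scalar hc' e).mul_left hte
    exact h.not_both (commute_scalar e' e) (Ac.mul_left' hve hae.inv_left)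
  have hva' : Commute v a₁ := (commute_scalar hc' a₁).mul_left hta
  obtain ⟨g₁, hg₁, hg₁a, n₁, hn₁, hgn⟩ : ∃ g₁ ∈ M, Commute g₁ a₁ ∧ ∃ n ∈ subgroupNormalizer R, g = n * g₁ := by
    rcases hga₁ with e' | e'
    · exact ⟨g, hg, e', 1, one_mem _, (one_mul g).symm⟩
    · exact ⟨e⁻¹ * g, mul_mem (inv_mem (hle he)) hg,
        (commute_of_ac_ac hae.symm.inv_left.symm e'.symm).symm, e, Subgroup.le_normalizer he, by group⟩
  rw [hgn]
  refine mul_mem hn₁ ?_
  have hv'R : g₁ * v * g₁⁻¹ ∈ R := conj_mem_centralizer h hle hT hN hS ha₁R hcc ha₁1 hg₁ hg₁a hvR hva'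
  have hv'a : Commute (g₁ * v * g₁⁻¹) a₁ := (hg₁a.mul_left hva').mul_left hg₁a.inv_left
  obtain ⟨n, hn, hna, e'⟩ := h.move hT ha₁R hv'R hvR hv'a.symm hva'.symm (fun e => hv1 ((conj_mem_scalars g₁).1 e))
    hv1 (fun e => hva ((conj_mem_scalars g₁).1 (by
      rwa [show g₁ * (v * a₁⁻¹) * g₁⁻¹ = g₁ * v * g₁⁻¹ * (g₁ * a₁⁻¹ * g₁⁻¹) by group, hg₁a.inv_right.eq,
        mul_inv_cancel_right]))) hva
  have hg₂v : PC (n * g₁) v := pc_of_scalar (h.sq_mem hvR)
    (by rwa [show n * g₁ * v * (n * g₁)⁻¹ = n * (g₁ * v * g₁⁻¹) * n⁻¹ by group])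
  have hg₂a : Commute (n * g₁) a₁ := hna.mul_left hg₁a
  have hng : n * g₁ ∈ subgroupNormalizer R := by
    rcases hg₂v with e'' | e''
    · exact two _ (mul_mem hn.1 hg₁) a₁ ha₁R hcc ha₁1 hg₂a v hvR hvv hv1 hva hva' e''
    · obtain ⟨d, hd, hda, hvd⟩ := h.exists_ac_in ha₁R hvR hva' hv1 hva
      have hh := two (d * (n * g₁)) (mul_mem (hle hd) (mul_mem hn.1 hg₁)) a₁ ha₁R hcc ha₁1 (hda.mul_left hg₂a) v hvR
        hvv hv1 hva hva' (commute_of_ac_ac hvd e''.symm).symm
      have := (subgroupNormalizer R).mul_mem (Subgroup.le_normalizer (inv_mem hd)) hh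
      rwa [inv_mul_cancel_left] at this
  have := (subgroupNormalizer R).mul_mem ((subgroupNormalizer R).inv_mem hn.2) hng
  rwa [inv_mul_cancel_left] at this

/-- Overgroups whose projections normalise, normalise. -/
theorem le_normalizer_of_proj [Finite F] (h : IsSymp R) (hbig : 3 ≤ Fintype.card ι) (hle : R ≤ M) (hT : h.HasTv M)
    (hN : ProjNorm R M) (hS : NoSplit h.two R M) : M ≤ subgroupNormalizer R :=
  (Ctx.mk h hbig hle hT (centralizer_le h hbig hle hT hN hS)).le_normalizer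

end CfsgLib.Geo.SympNorm
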