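import Cfsg.Agent.Lib.Geo.SympNorm.Block
import Cfsg.Agent.Lib.Geo.SympNorm.Step

/-!
# Coordinates adapted to an anticommuting pair of involutions
-/

set_option autoImplicit false

namespace CfsgLib.Geo.SympNorm

open Matrix Cfsg.Geo

variable {ι ι' : Type} [Fintype ι] [DecidableEq ι] [Fintype ι'] [DecidableEq ι'] {F : Type*} [Field F]

/-- Matrices in new coordinates. -/
noncomputable def coordAlg (L : (ι' → F) ≃ₗ[F] (ι → F)) : Matrix ι ι F ≃ₐ[F] Matrix ι' ι' F :=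
  Matrix.toLinAlgEquiv'.trans ((L.symm.conjAlgEquiv F).trans LinearMap.toMatrixAlgEquiv')

theorem coordAlg_mulVec (L : (ι' → F) ≃ₗ[F] (ι → F)) (X : Matrix ι ι F) (x : ι' → F) :
    coordAlg L X *ᵥ x = L.symm (X *ᵥ L x) := by
  rw [coordAlg, AlgEquiv.trans_apply, AlgEquiv.trans_apply,
    show LinearMap.toMatrixAlgEquiv' (R := F) (n := ι') _ = LinearMap.toMatrix' (L.symm.conjAlgEquiv F
      (Matrix.toLinAlgEquiv' X)) from rfl, ← Matrix.toLin'_apply, Matrix.toLin'_toMatrix']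
  rfl

theorem coordAlg_det (L : (ι' → F) ≃ₗ[F] (ι → F)) (X : Matrix ι ι F) : (coordAlg L X).det = X.det := by
  rw [coordAlg, AlgEquiv.trans_apply, AlgEquiv.trans_apply,
    show LinearMap.toMatrixAlgEquiv' (R := F) (n := ι') _ = LinearMap.toMatrix' (L.symm.conjAlgEquiv F
      (Matrix.toLinAlgEquiv' X)) from rfl, LinearMap.det_toMatrix']
  exact (LinearMap.det_conj (Matrix.toLin' X) L.symm).trans (LinearMap.det_toLin' X)

/-- Units in new coordinates. -/
noncomputable def coordGL (L : (ι' → F) ≃ₗ[F] (ι → F)) : GL ι F ≃* GL ι' F :=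
  Units.mapEquiv (coordAlg L).toMulEquiv

theorem coordGL_val (L : (ι' → F) ≃ₗ[F] (ι → F)) (g : GL ι F) :
    ((coordGL L g : GL ι' F) : Matrix ι' ι' F) = coordAlg L (g : Matrix ι ι F) := rfl

theorem coordGL_neg (L : (ι' → F) ≃ₗ[F] (ι → F)) (g : GL ι F) : coordGL L (-g) = -coordGL L g :=
  Units.ext (by simp [coordGL_val])

theorem coordGL_neg_one (L : (ι' → F) ≃ₗ[F] (ι → F)) : coordGL L (-1) = -1 := by
  rw [coordGL_neg, map_one]

theorem coordGL_scalars (L : (ι' → F) ≃ₗ[F] (ι → F)) {c : GL ι F} :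
    coordGL L c ∈ scalars ι' F ↔ c ∈ scalars ι F := by
  rw [mem_scalars_iff, mem_scalars_iff]
  refine exists_congr fun d => ?_
  rw [coordGL_val, ← (coordAlg L).injective.eq_iff (a := (c : Matrix ι ι F)), map_smul, map_one]

theorem map_scalars (L : (ι' → F) ≃ₗ[F] (ι → F)) : (scalars ι F).map (coordGL L).toMonoidHom = scalars ι' F := by
  ext c
  obtain ⟨c, rfl⟩ := (coordGL L).surjective c
  rw [coordGL_scalars]
  exact ⟨fun ⟨d, hd, e⟩ => (coordGL L).injective e ▸ hd, fun h => ⟨c, h, rfl⟩⟩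

theorem coordGL_specialLinear (L : (ι' → F) ≃ₗ[F] (ι → F)) {g : GL ι F} :
    coordGL L g ∈ specialLinear ι' F ↔ g ∈ specialLinear ι F := by
  simp only [Cfsg.Geo.specialLinear, MonoidHom.mem_ker, Units.ext_iff, Matrix.GeneralLinearGroup.val_det_apply,
    coordGL_val, coordAlg_det]

theorem coord_ac (L : (ι' → F) ≃ₗ[F] (ι → F)) {x y : GL ι F} (h : Ac x y) : Ac (coordGL L x) (coordGL L y) := by
  unfold Ac at *; rw [← map_mul, ← map_mul, h, coordGL_neg]

theorem coord_tv (L : (ι' → F) ≃ₗ[F] (ι → F)) (h2 : (2 : F) ≠ 0) {x : GL ι F} (hx : x * x = -1)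
    (hx' : coordGL L x * coordGL L x = -1) : coordGL L (tv h2 x hx) = tv h2 (coordGL L x) hx' :=
  Units.ext (by
    show coordAlg L (1 + (x : Matrix ι ι F)) = 1 + _
    rw [map_add, map_one]; rfl)

variable {R M : Subgroup (GL ι F)}

theorem IsSymp.map (h : IsSymp R) (L : (ι' → F) ≃ₗ[F] (ι → F)) : IsSymp (R.map (coordGL L).toMonoidHom) where
  two := h.two
  card_ne := by
    have : Fintype.card ι' = Fintype.card ι := by
      have := L.finrank_eq
      rwa [Module.finrank_pi, Module.finrank_pi] at this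
    rw [this]; exact h.card_ne
  scal := (map_scalars L).ge.trans (Subgroup.map_mono h.scal)
  neg_one_mem := ⟨-1, h.neg_one_mem, coordGL_neg_one L⟩
  sq_mem := by
    rintro _ ⟨x, hx, rfl⟩
    show coordGL L x * coordGL L x ∈ _
    rw [← map_mul, coordGL_scalars]
    exact h.sq_mem hx
  sign := by
    rintro _ ⟨x, hx, rfl⟩ _ ⟨y, hy, rfl⟩
    exact (h.sign x hx y hy).imp (fun e => e.map (coordGL L)) (coord_ac L)
  normed := by
    rintro _ ⟨x, hx, rfl⟩
    obtain ⟨c, hc, e⟩ := h.normed x hx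
    refine ⟨coordGL L c, (coordGL_scalars L).2 hc, ?_⟩
    show coordGL L c * coordGL L x * (coordGL L c * coordGL L x) = -1
    rw [← map_mul, ← map_mul, e, coordGL_neg_one]
  span := by
    refine top_unique fun X _ => ?_
    have hX : (coordAlg L).symm X ∈ Submodule.span F (matrixSet R) := h.span ▸ Submodule.mem_top
    have h1 := Submodule.mem_map_of_mem (f := (coordAlg L).toLinearMap) hX
    rw [Submodule.map_span] at h1
    rw [show X = (coordAlg L).toLinearMap ((coordAlg L).symm X) by simp]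
    refine Submodule.span_mono ?_ h1
    rintro _ ⟨_, ⟨x, hx, rfl⟩, rfl⟩
    exact ⟨coordGL L x, ⟨x, hx, rfl⟩, rfl⟩
  root := h.root

theorem hasTv_map (h : IsSymp R) (L : (ι' → F) ≃ₗ[F] (ι → F)) (hT : h.HasTv M) :
    (h.map L).HasTv (M.map (coordGL L).toMonoidHom) := by
  rintro _ ⟨x, hx, rfl⟩ hxx
  have hxx' : x * x = -1 := (coordGL L).injective (by rw [map_mul, coordGL_neg_one]; exact hxx)
  exact ⟨_, hT x hx hxx', coord_tv L _ hxx' hxx⟩

theorem specialLinear_le_of_map (L : (ι' → F) ≃ₗ[F] (ι → F))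
    (h : specialLinear ι' F ≤ M.map (coordGL L).toMonoidHom) : specialLinear ι F ≤ M := fun g hg => by
  obtain ⟨m, hm, e⟩ := h ((coordGL_specialLinear L).2 hg)
  rwa [← (coordGL L).injective e]

theorem exists_coord (h2 : (2 : F) ≠ 0) {a b : GL ι F} (haa : a * a = 1) (hbb : b * b = 1) (hab : Ac a b) :
    ∃ (k : ℕ) (L : (Fin k ⊕ Fin k → F) ≃ₗ[F] (ι → F)), Fintype.card ι = k + k ∧ coordGL L a = aM ∧
      coordGL L b = bM := by
  set A := (a : Matrix ι ι F)
  set B := (b : Matrix ι ι F)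
  have hAA : ∀ v, A *ᵥ (A *ᵥ v) = v := fun v => by
    rw [mulVec_mulVec, ← Units.val_mul, haa, Units.val_one, one_mulVec]
  have hBB : ∀ v, B *ᵥ (B *ᵥ v) = v := fun v => by
    rw [mulVec_mulVec, ← Units.val_mul, hbb, Units.val_one, one_mulVec]
  have hAB : ∀ v, A *ᵥ (B *ᵥ v) = -(B *ᵥ (A *ᵥ v)) := fun v => by
    rw [mulVec_mulVec, mulVec_mulVec, ← Units.val_mul, ← Units.val_mul, hab, Units.val_neg, neg_mulVec]
  let U : Submodule F (ι → F) := LinearMap.ker (Matrix.toLin' A - LinearMap.id)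
  have hU : ∀ v, v ∈ U ↔ A *ᵥ v = v := fun v => by
    simp [U, LinearMap.mem_ker, sub_eq_zero]
  let E : (Fin (Module.finrank F U) → F) ≃ₗ[F] U := (Module.finBasis F U).equivFun.symm
  set k := Module.finrank F U
  let L₀ : (Fin k ⊕ Fin k → F) →ₗ[F] (ι → F) :=
    (U.subtype.comp E.toLinearMap).comp (LinearMap.funLeft F F Sum.inl) +
      (Matrix.toLin' B).comp ((U.subtype.comp E.toLinearMap).comp (LinearMap.funLeft F F Sum.inr))
  have hL₀ : ∀ x, L₀ x = (E (x ∘ Sum.inl) : ι → F) + B *ᵥ (E (x ∘ Sum.inr) : ι → F) := fun x => rfl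
  have hE : ∀ u, A *ᵥ (E u : ι → F) = E u := fun u => (hU _).1 (E u).2
  have hA : ∀ x, A *ᵥ L₀ x = (E (x ∘ Sum.inl) : ι → F) - B *ᵥ (E (x ∘ Sum.inr) : ι → F) := fun x => by
    rw [hL₀, mulVec_add, hE, hAB, hE, sub_eq_add_neg]
  have hinj : Function.Injective L₀ := by
    rw [injective_iff_map_eq_zero]
    intro x hx
    have e1 := hA x
    rw [hx, mulVec_zero] at e1
    rw [hL₀] at hx
    have e2 : (2 : F) • (E (x ∘ Sum.inl) : ι → F) = 0 := by
      rw [two_smul]; linear_combination (norm := abel) hx - e1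
    have e3 : (E (x ∘ Sum.inl) : ι → F) = 0 := (smul_eq_zero.1 e2).resolve_left h2
    rw [e3, zero_add] at hx
    have e4 : (E (x ∘ Sum.inr) : ι → F) = 0 := by rw [← hBB (E _ : ι → F), hx, mulVec_zero]
    have f1 : x ∘ Sum.inl = 0 := E.injective (Subtype.ext (by rw [e3, map_zero]; rfl))
    have f2 : x ∘ Sum.inr = 0 := E.injective (Subtype.ext (by rw [e4, map_zero]; rfl))
    ext (p | p)
    exacts [congrFun f1 p, congrFun f2 p]
  have hsurj : Function.Surjective L₀ := fun v => by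
    have h1 : (2 : F)⁻¹ • (v + A *ᵥ v) ∈ U := by
      rw [hU, mulVec_smul, mulVec_add, hAA, add_comm]
    have h3 : (2 : F)⁻¹ • (B *ᵥ (v - A *ᵥ v)) ∈ U := by
      rw [hU, mulVec_smul, hAB, mulVec_sub A, hAA, ← mulVec_neg, neg_sub]
    refine ⟨Sum.elim (E.symm ⟨_, h1⟩) (E.symm ⟨_, h3⟩), ?_⟩
    rw [hL₀]
    simp only [Sum.elim_comp_inl, Sum.elim_comp_inr, LinearEquiv.apply_symm_apply]
    rw [mulVec_smul, hBB, ← smul_add, add_add_sub_cancel, ← two_smul F, inv_smul_smul₀ h2]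
  let L := LinearEquiv.ofBijective L₀ ⟨hinj, hsurj⟩
  refine ⟨k, L, ?_, ?_, ?_⟩
  · have := L.finrank_eq
    rw [Module.finrank_pi, Module.finrank_pi, Fintype.card_sum, Fintype.card_fin] at this
    exact this.symm
  · refine Units.ext (Matrix.toLin'.injective (LinearMap.ext fun x => ?_))
    rw [Matrix.toLin'_apply, Matrix.toLin'_apply, coordGL_val, coordAlg_mulVec]
    refine L.injective ?_
    rw [LinearEquiv.apply_symm_apply]
    show A *ᵥ L₀ x = L₀ _
    rw [hA, hL₀, aM_val, fromBlocks_mulVec]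
    simp only [Sum.elim_comp_inl, Sum.elim_comp_inr, one_mulVec, zero_mulVec, add_zero, zero_add, neg_mulVec,
      map_neg, NegMemClass.coe_neg, mulVec_neg, sub_eq_add_neg]
  · refine Units.ext (Matrix.toLin'.injective (LinearMap.ext fun x => ?_))
    rw [Matrix.toLin'_apply, Matrix.toLin'_apply, coordGL_val, coordAlg_mulVec]
    refine L.injective ?_
    rw [LinearEquiv.apply_symm_apply]
    show B *ᵥ L₀ x = L₀ _
    rw [hL₀, hL₀, show ((bM : GL (Fin k ⊕ Fin k) F) : Matrix (Fin k ⊕ Fin k) (Fin k ⊕ Fin k) F) =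
      fromBlocks 0 1 1 0 from rfl, fromBlocks_mulVec]
    simp only [Sum.elim_comp_inl, Sum.elim_comp_inr, one_mulVec, zero_mulVec, add_zero, zero_add]
    rw [mulVec_add, hBB, add_comm]

/-- An involution has an anticommuting involution. -/
theorem IsSymp.exists_partner (h : IsSymp R) {a : GL ι F} (ha : a ∈ R) (ha1 : a ∉ scalars ι F) :
    ∃ b ∈ R, b * b = 1 ∧ Ac a b := by
  obtain ⟨b, hb, hab⟩ := h.exists_ac ha ha1
  obtain ⟨c, hc, hcc⟩ := h.exists_sq_one hb
  exact ⟨c * b, mul_mem (h.scal hc) hb, hcc, Ac.mul_right' (commute_scalar hc a).symm hab⟩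

/-! ### Block coordinates -/

section Blocks

variable {κ : Type} [Fintype κ] [DecidableEq κ]

/-- The diagonal embedding. -/
def di : GL κ F →* GL (κ ⊕ κ) F := dg.comp ((MonoidHom.id _).prod (MonoidHom.id _))

theorem di_apply (y : GL κ F) : (di y : GL (κ ⊕ κ) F) = dg (y, y) := rfl

theorem di_neg (y : GL κ F) : (di (-y) : GL (κ ⊕ κ) F) = -di y := Units.ext (by
  simp [di_apply, dg_val, fromBlocks_neg])

theorem di_scalar {c : GL κ F} (hc : c ∈ scalars κ F) : di c ∈ scalars (κ ⊕ κ) F := by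
  obtain ⟨d, hd⟩ := (mem_scalars_iff c).1 hc
  exact (mem_scalars_iff _).2 ⟨d, by simp [di_apply, dg_val, hd, fromBlocks_smul, ← fromBlocks_one]⟩

theorem exists_scalar_di {c : GL (κ ⊕ κ) F} (hc : c ∈ scalars (κ ⊕ κ) F) : ∃ c' ∈ scalars κ F, di c' = c := by
  obtain ⟨d, hd⟩ := (mem_scalars_iff c).1 hc
  refine ⟨sc (d : F) d.ne_zero, sc_mem _ _, Units.ext ?_⟩
  simp [di_apply, dg_val, sc, hd, fromBlocks_smul, ← fromBlocks_one]

theorem di_injective : Function.Injective (di : GL κ F →* GL (κ ⊕ κ) F) := fun y y' e => by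
  have := congrArg (fun g : GL (κ ⊕ κ) F => (g : Matrix (κ ⊕ κ) (κ ⊕ κ) F).toBlocks₁₁) e
  simpa [di_apply, dg_val, Units.ext_iff] using this

/-- What commutes with the sign is block diagonal. -/
theorem exists_dg (h2 : (2 : F) ≠ 0) {g : GL (κ ⊕ κ) F} (h : Commute g aM) : ∃ y z, g = dg (y, z) := by
  have key : ∀ g : GL (κ ⊕ κ) F, Commute g aM → (g : Matrix (κ ⊕ κ) (κ ⊕ κ) F) =
      fromBlocks (g : Matrix (κ ⊕ κ) (κ ⊕ κ) F).toBlocks₁₁ 0 0 (g : Matrix (κ ⊕ κ) (κ ⊕ κ) F).toBlocks₂₂ := by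
    intro g h
    have e := congrArg Units.val h.eq
    rw [Units.val_mul, Units.val_mul, aM_val, ← fromBlocks_toBlocks (g : Matrix (κ ⊕ κ) (κ ⊕ κ) F),
      fromBlocks_multiply, fromBlocks_multiply, fromBlocks_inj] at e
    obtain ⟨-, e12, e21, -⟩ := e
    simp only [mul_zero, mul_neg, mul_one, zero_mul, one_mul, neg_mul, add_zero, zero_add] at e12 e21
    have z12 : (g : Matrix (κ ⊕ κ) (κ ⊕ κ) F).toBlocks₁₂ = 0 :=
      (smul_eq_zero.1 (show (2 : F) • (g : Matrix (κ ⊕ κ) (κ ⊕ κ) F).toBlocks₁₂ = 0 by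
        rw [two_smul]; nth_rewrite 1 [← e12]; exact neg_add_cancel _)).resolve_left h2
    have z21 : (g : Matrix (κ ⊕ κ) (κ ⊕ κ) F).toBlocks₂₁ = 0 :=
      (smul_eq_zero.1 (show (2 : F) • (g : Matrix (κ ⊕ κ) (κ ⊕ κ) F).toBlocks₂₁ = 0 by
        rw [two_smul]; nth_rewrite 1 [e21]; exact neg_add_cancel _)).resolve_left h2
    conv_lhs => rw [← fromBlocks_toBlocks (g : Matrix (κ ⊕ κ) (κ ⊕ κ) F), z12, z21]
  have e1 := key g h
  have e2 := key g⁻¹ h.inv_left
  have p1 := congrArg Matrix.toBlocks₁₁ (show _ = _ from Units.mul_inv g)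
  have p2 := congrArg Matrix.toBlocks₁₁ (show _ = _ from Units.inv_mul g)
  have q1 := congrArg Matrix.toBlocks₂₂ (show _ = _ from Units.mul_inv g)
  have q2 := congrArg Matrix.toBlocks₂₂ (show _ = _ from Units.inv_mul g)
  rw [e1, e2, fromBlocks_multiply, ← fromBlocks_one] at p1 p2 q1 q2
  simp only [toBlocks_fromBlocks₁₁, toBlocks_fromBlocks₂₂, mul_zero, add_zero, zero_add] at p1 p2 q1 q2
  exact ⟨⟨_, _, p1, p2⟩, ⟨_, _, q1, q2⟩, Units.ext e1⟩

variable {R M : Subgroup (GL (κ ⊕ κ) F)}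

/-- The image of `R` on one half. -/
def half (R : Subgroup (GL (κ ⊕ κ) F)) : Subgroup (GL κ F) := R.comap di

theorem mem_half {y : GL κ F} : y ∈ half R ↔ dg (y, y) ∈ R := Iff.rfl

theorem IsPre.exists_half (h : IsPre R) (ha : aM ∈ R) (hb : bM ∈ R) {x : GL (κ ⊕ κ) F} (hx : x ∈ R)
    (hxa : Commute x aM) : ∃ r ∈ half R, x = dg (r, r) ∨ x = dg (r, -r) := by
  obtain ⟨y, z, rfl⟩ := exists_dg h.two hxa
  rcases h.sign _ hx bM hb with e | e
  · have e' := congrArg (fun g : GL (κ ⊕ κ) F => (g : Matrix (κ ⊕ κ) (κ ⊕ κ) F).toBlocks₁₂) e.eq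
    simp [bM, dg_val, fromBlocks_multiply] at e'
    obtain rfl : y = z := Units.ext e'
    exact ⟨y, hx, Or.inl rfl⟩
  · have e' := congrArg (fun g : GL (κ ⊕ κ) F => (g : Matrix (κ ⊕ κ) (κ ⊕ κ) F).toBlocks₁₂)
      (show dg (y, z) * bM = -(bM * dg (y, z)) from e)
    simp [bM, dg_val, fromBlocks_multiply, fromBlocks_neg] at e'
    have hz : z = -y := Units.ext (by rw [Units.val_neg, e', neg_neg])
    subst hz
    refine ⟨y, ?_, Or.inr rfl⟩
    rw [mem_half, show dg (y, y) = dg (y, -y) * aM by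
      rw [aM, ← map_mul, Prod.mk_mul_mk, mul_one, neg_mul_neg, mul_one]]
    exact mul_mem hx ha

theorem IsPre.half (h : IsPre R) (ha : aM ∈ R) (hb : bM ∈ R) : IsPre (half R) where
  two := h.two
  card_ne := fun e => h.card_ne (by rw [Fintype.card_sum, Nat.cast_add, e, add_zero])
  neg_one_mem := by
    show di (-1 : GL κ F) ∈ R
    rw [di_neg, map_one]; exact h.neg_one_mem
  sign := fun x hx y hy => (h.sign _ hx _ hy).imp
    (fun e => di_injective (by rw [map_mul, map_mul]; exact e))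
    (fun e => di_injective (by rw [map_mul, di_neg, map_mul]; exact e))
  sq_mem := fun {x} hx => by
    obtain ⟨c, hc, e⟩ := exists_scalar_di (h.sq_mem hx)
    rw [← map_mul] at e
    exact di_injective e ▸ hc
  span := by
    refine top_unique fun X _ => ?_
    let π : Matrix (κ ⊕ κ) (κ ⊕ κ) F →ₗ[F] Matrix κ κ F :=
      { toFun := Matrix.toBlocks₁₁, map_add' := fun _ _ => rfl, map_smul' := fun _ _ => rfl }
    have hX : fromBlocks X 0 0 X ∈ Submodule.span F (matrixSet R) := h.span ▸ Submodule.mem_top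
    have h1 := Submodule.mem_map_of_mem (f := π) hX
    rw [show π (fromBlocks X 0 0 X) = X from toBlocks_fromBlocks₁₁ _ _ _ _, Submodule.map_span] at h1
    refine Submodule.span_le.2 ?_ h1
    rintro _ ⟨_, ⟨x, hx, rfl⟩, rfl⟩
    rcases h.sign x hx aM ha with e | e
    · obtain ⟨r, hr, rfl | rfl⟩ := h.exists_half ha hb hx e <;>
        exact Submodule.subset_span ⟨r, hr, (toBlocks_fromBlocks₁₁ _ _ _ _).symm⟩
    · have e' := congrArg (fun g : GL (κ ⊕ κ) F => (g : Matrix (κ ⊕ κ) (κ ⊕ κ) F).toBlocks₁₁)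
        (show x * aM = -(aM * x) from e)
      simp only [Units.val_mul, Units.val_neg, aM_val] at e'
      rw [← fromBlocks_toBlocks (x : Matrix (κ ⊕ κ) (κ ⊕ κ) F), fromBlocks_multiply, fromBlocks_multiply,
        fromBlocks_neg] at e'
      simp only [toBlocks_fromBlocks₁₁, mul_one, mul_zero, one_mul, zero_mul, add_zero] at e'
      have : π (x : Matrix (κ ⊕ κ) (κ ⊕ κ) F) = 0 :=
        (smul_eq_zero.1 (show (2 : F) • (x : Matrix (κ ⊕ κ) (κ ⊕ κ) F).toBlocks₁₁ = 0 by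
          rw [two_smul]; nth_rewrite 1 [e']; exact neg_add_cancel _)).resolve_left h.two
      rw [SetLike.mem_coe, this]
      exact zero_mem _

theorem IsSymp.half (h : IsSymp R) (ha : aM ∈ R) (hb : bM ∈ R) : IsSymp (half R) where
  toIsPre := h.toIsPre.half ha hb
  scal := fun _ hc => h.scal (di_scalar hc)
  normed := fun x hx => by
    obtain ⟨c, hc, e⟩ := h.normed _ hx
    obtain ⟨c', hc', rfl⟩ := exists_scalar_di hc
    refine ⟨c', hc', di_injective ?_⟩
    rw [map_mul, map_mul, di_neg, map_one]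
    exact e
  root := h.root

/-- The action of the centraliser of the sign on the first half. -/
def projM (M : Subgroup (GL (κ ⊕ κ) F)) : Subgroup (GL κ F) := (M.comap dg).map (MonoidHom.fst _ _)

theorem mem_projM {y : GL κ F} : y ∈ projM M ↔ ∃ z, dg (y, z) ∈ M :=
  ⟨fun ⟨⟨_, z⟩, hp, e⟩ => ⟨z, e ▸ hp⟩, fun ⟨z, hz⟩ => ⟨(y, z), hz, rfl⟩⟩

theorem half_le_projM (hle : R ≤ M) : half R ≤ projM M := fun y hy => mem_projM.2 ⟨y, hle hy⟩

theorem di_tv (h2 : (2 : F) ≠ 0) {r : GL κ F} (hr : r * r = -1) (hr' : di r * di r = -1) :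
    di (tv h2 r hr) = tv h2 (di r) hr' := Units.ext (by
  show fromBlocks (1 + (r : Matrix κ κ F)) 0 0 (1 + (r : Matrix κ κ F)) =
    1 + fromBlocks (r : Matrix κ κ F) 0 0 (r : Matrix κ κ F)
  rw [← fromBlocks_one, fromBlocks_add, add_zero])

theorem hasTv_proj (h : IsSymp R) (ha : aM ∈ R) (hb : bM ∈ R) (hT : h.HasTv M) :
    (h.half ha hb).HasTv (projM M) := fun r hr hrr => by
  have hr' : di r * di r = -1 := by rw [← map_mul, hrr, di_neg, map_one]
  exact mem_projM.2 ⟨_, di_tv _ hrr hr' ▸ hT _ hr hr'⟩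

/-- Normalising on one half gives the projection condition at the sign. -/
theorem projNorm_at (h : IsPre R) (ha : aM ∈ R) (hb : bM ∈ R) (hN : projM M ≤ subgroupNormalizer (half R))
    {g : GL (κ ⊕ κ) F} (hg : g ∈ M) (hga : Commute g aM) {x : GL (κ ⊕ κ) F} (hx : x ∈ R) (hxa : Commute x aM) :
    ∃ x₁ ∈ R, Commute x₁ aM ∧
      ((g * x * g⁻¹ : GL (κ ⊕ κ) F) : Matrix (κ ⊕ κ) (κ ⊕ κ) F) * proj aM =
        (x₁ : Matrix (κ ⊕ κ) (κ ⊕ κ) F) * proj aM := by
  obtain ⟨y, z, rfl⟩ := exists_dg h.two hga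
  obtain ⟨r, hr, hx'⟩ := h.exists_half ha hb hx hxa
  have hy : y * r * y⁻¹ ∈ half R := (Subgroup.mem_normalizer_iff.1 (hN (mem_projM.2 ⟨z, hg⟩)) r).1 hr
  refine ⟨_, hy, ?_, ?_⟩
  · show dg _ * aM = aM * dg _
    rw [aM, ← map_mul, ← map_mul]; congr 1; simp
  · have hP : proj (aM : GL (κ ⊕ κ) F) = fromBlocks ((2 : F) • 1) 0 0 0 := by
      rw [proj, aM_val, ← fromBlocks_one, fromBlocks_add, two_smul]; simp
    rcases hx' with rfl | rfl <;>
      rw [hP, di_apply, dg_inv, ← map_mul, ← map_mul, dg_val, dg_val] <;>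
      simp [fromBlocks_multiply]

theorem kernel_elt (h : IsSymp R) (ha : aM ∈ R) (hle : R ≤ M) (hT : h.HasTv M) {r : GL κ F} (hr : r ∈ half R)
    (hrr : r * r = -1) : dg (r, 1) ∈ M := by
  have h1 : di r * di r = -1 := by rw [← map_mul, hrr, di_neg, map_one]
  have h3 : di r * aM * (di r * aM) = -1 := by
    rw [di_apply, aM, ← map_mul, ← map_mul, show ((r, r) * (1, -1)) * ((r, r) * (1, -1)) =
      ((-1 : GL κ F), (-1 : GL κ F)) by simp [hrr], ← di_apply, di_neg, map_one]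
  have e : dg (r, 1) = sc (2 : F)⁻¹ (inv_ne_zero h.two) * (tv h.two (di r) h1 * tv h.two (di r * aM) h3) := by
    refine Units.ext ?_
    show fromBlocks (r : Matrix κ κ F) 0 0 1 = (2 : F)⁻¹ • (1 : Matrix (κ ⊕ κ) (κ ⊕ κ) F) *
      ((1 + fromBlocks (r : Matrix κ κ F) 0 0 (r : Matrix κ κ F)) *
        (1 + fromBlocks (r : Matrix κ κ F) 0 0 (r : Matrix κ κ F) * ((aM : GL (κ ⊕ κ) F) : Matrix (κ ⊕ κ) (κ ⊕ κ) F)))
    have hr2 : (r : Matrix κ κ F) * r = -1 := by rw [← Units.val_mul, hrr]; simp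
    rw [aM_val, smul_mul_assoc, one_mul]
    simp only [← fromBlocks_one, fromBlocks_multiply, fromBlocks_add, fromBlocks_smul, mul_zero, zero_mul, mul_one,
      add_zero, zero_add, mul_neg, smul_zero, add_mul, mul_add, one_mul, hr2, neg_zero]
    congr 1
    · rw [show (1 : Matrix κ κ F) + r + (r + -1) = (2 : F) • (r : Matrix κ κ F) by rw [two_smul]; abel,
        smul_smul, inv_mul_cancel₀ h.two, one_smul]
    · rw [show (1 : Matrix κ κ F) + r + -((r : Matrix κ κ F) + -1) = (2 : F) • (1 : Matrix κ κ F) by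
        rw [two_smul]; abel, smul_smul, inv_mul_cancel₀ h.two, one_smul]
  rw [e]
  exact mul_mem (hle (h.scal (sc_mem _ _))) (mul_mem (hT _ hr h1) (hT _ (mul_mem hr ha) h3))

end Blocks

/-- Dichotomy for a projection. -/
theorem projNorm_or_specialLinear [Fintype F] {R M : Subgroup (GL ι F)} (h : IsSymp R) (hbig : 3 ≤ Fintype.card ι)
    (hle : R ≤ M) (hT : h.HasTv M) (h4 : 4 ≤ Fintype.card F)
    (ih : ∀ k, k + k = Fintype.card ι → ∀ (R' M' : Subgroup (GL (Fin k) F)) (h' : IsSymp R'), R' ≤ M' →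
      h'.HasTv M' → M' ≤ subgroupNormalizer R' ∨ specialLinear (Fin k) F ≤ M') :
    ProjNorm R M ∨ specialLinear ι F ≤ M := by
  refine (Classical.em (specialLinear ι F ≤ M)).symm.imp (fun hS => ?_) id
  intro a ha haa ha1 g hg hga x hx hxa
  obtain ⟨b, hb, hbb, hab⟩ := h.exists_partner ha ha1
  obtain ⟨k, L, hk, ea, eb⟩ := exists_coord h.two haa hbb hab
  set R₁ := R.map (coordGL L).toMonoidHom
  set M₁ := M.map (coordGL L).toMonoidHom
  have h₁ : IsSymp R₁ := h.map L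
  have ha₁ : aM ∈ R₁ := ⟨a, ha, ea⟩
  have hb₁ : bM ∈ R₁ := ⟨b, hb, eb⟩
  have hle₁ : R₁ ≤ M₁ := Subgroup.map_mono hle
  have hT₁ : h₁.HasTv M₁ := hasTv_map h L hT
  have h' := h₁.half ha₁ hb₁
  rcases ih k hk.symm (half R₁) (projM M₁) h' (half_le_projM hle₁) (hasTv_proj h₁ ha₁ hb₁ hT₁) with hN | hY
  · obtain ⟨x₁', ⟨x₁, hx₁, rfl⟩, hx₁a, e⟩ := projNorm_at h₁.toIsPre ha₁ hb₁ hN (g := coordGL L g) ⟨g, hg, rfl⟩
      (ea ▸ hga.map (coordGL L)) (x := coordGL L x) ⟨x, hx, rfl⟩ (ea ▸ hxa.map (coordGL L))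
    refine ⟨x₁, hx₁, ?_, (coordAlg L).injective ?_⟩
    · exact Commute.of_map (coordGL L).injective (by rw [ea]; exact hx₁a)
    · have hp : coordAlg L (proj a) = proj aM := by rw [proj, map_add, map_one, ← coordGL_val, ea]; rfl
      rw [map_mul, map_mul, hp, ← coordGL_val, ← coordGL_val, map_mul, map_mul, map_inv]
      exact e
  · exfalso
    refine hS (specialLinear_le_of_map L ?_)
    obtain ⟨i, hi⟩ := h.root
    have hk2 : 2 ≤ k := by omega
    obtain ⟨r, hr, hr1, hrr⟩ : ∃ r ∈ half R₁, r ∉ scalars (Fin k) F ∧ r * r = -1 := by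
      obtain ⟨r, hr, hr1⟩ : ∃ r ∈ half R₁, r ∉ scalars (Fin k) F := by
        by_contra! hc
        have hsp : Submodule.span F (matrixSet (half R₁)) ≤ Submodule.span F {(1 : Matrix (Fin k) (Fin k) F)} := by
          refine Submodule.span_le.2 ?_
          rintro _ ⟨y, hy, rfl⟩
          obtain ⟨d, hd⟩ := (mem_scalars_iff y).1 (hc y hy)
          rw [SetLike.mem_coe, Submodule.mem_span_singleton]
          exact ⟨d, hd.symm⟩
        rw [h'.span] at hsp
        haveI : Nonempty (Fin k) := ⟨⟨0, by omega⟩⟩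
        have h1 := Submodule.finrank_mono hsp
        rw [finrank_top, Module.finrank_matrix, Module.finrank_self, mul_one,
          finrank_span_singleton (one_ne_zero (α := Matrix (Fin k) (Fin k) F)), Fintype.card_fin] at h1
        nlinarith
      obtain ⟨c, hc, hcr, e, -, -⟩ := h'.normed_props hr
      exact ⟨_, hcr, fun e' => hr1 (by have := mul_mem (inv_mem hc) e'; rwa [inv_mul_cancel_left] at this), e⟩
    let j : GL (Fin k) F →* GL (Fin k ⊕ Fin k) F := dg.comp (MonoidHom.inl _ _)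
    have hj : ∀ y, j y = dg (y, 1) := fun y => rfl
    have hnorm : ∀ g ∈ specialLinear (Fin k) F, ∀ y ∈ M₁.comap j, g * y * g⁻¹ ∈ M₁.comap j := fun g hg y hy => by
      obtain ⟨z, hz⟩ := mem_projM.1 (hY hg)
      have e : j (g * y * g⁻¹) = dg (g, z) * j y * (dg (g, z))⁻¹ := by
        rw [hj, hj, dg_inv, ← map_mul, ← map_mul]; congr 1; simp
      rw [Subgroup.mem_comap, e]
      exact mul_mem (mul_mem hz hy) (inv_mem hz)
    have hK := specialLinear_le_of_normalized hk2 h4 (by simpa using h'.card_ne) hnorm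
      (show r ∈ M₁.comap j from kernel_elt h₁ ha₁ hle₁ hT₁ hr hrr) hr1
    have hj1 : jx (κ := Fin k) (1 : F) (-1) (one_mul _) = aM * bM := Units.ext (by
      show fromBlocks 0 _ _ 0 = ((aM : GL (Fin k ⊕ Fin k) F) : Matrix (Fin k ⊕ Fin k) (Fin k ⊕ Fin k) F) * fromBlocks 0 1 1 0
      rw [aM_val, fromBlocks_multiply]; simp)
    have hi0 : i ≠ 0 := by rintro rfl; simp at hi
    have hj2 : jx (κ := Fin k) i i hi = sc i hi0 * bM := Units.ext (by
      show fromBlocks 0 _ _ 0 = i • (1 : Matrix (Fin k ⊕ Fin k) (Fin k ⊕ Fin k) F) * fromBlocks 0 1 1 0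
      rw [smul_mul_assoc, one_mul, fromBlocks_smul, smul_zero])
    exact specialLinear_le_of_block h.two hi hk2 (hle₁ hb₁)
      (hT₁ _ (hj1 ▸ mul_mem ha₁ hb₁) _) (hT₁ _ (hj2 ▸ mul_mem (h₁.scal (sc_mem _ _)) hb₁) _) hK

end CfsgLib.Geo.SympNorm
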