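import Cfsg.Agent.Lib.Geo.SympNorm.Fusion

/-!
# An overgroup with small involution centralisers normalises `R`
-/

set_option autoImplicit false

namespace CfsgLib.Geo.SympNorm

open Matrix Cfsg.Geo

variable {ι : Type} [Fintype ι] [DecidableEq ι] {F : Type*} [Field F]

theorem tv_congr (h2 : (2 : F) ≠ 0) {x x' : GL ι F} (hx : x * x = -1) (hx' : x' * x' = -1) (e : x = x') :
    tv h2 x hx = tv h2 x' hx' := by
  subst e; rfl

theorem tv_conj (h2 : (2 : F) ≠ 0) {g x x' : GL ι F} (hx : x * x = -1) (hx' : x' * x' = -1)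
    (e : g * x * g⁻¹ = x') : g * tv h2 x hx * g⁻¹ = tv h2 x' hx' := by
  refine Units.ext ?_
  show (g : Matrix ι ι F) * (1 + (x : Matrix ι ι F)) * ((g⁻¹ : GL ι F) : Matrix ι ι F) = 1 + (x' : Matrix ι ι F)
  rw [mul_add, add_mul, mul_one, Units.mul_inv, ← Units.val_mul, ← Units.val_mul, e]

theorem tv_mul_self (h2 : (2 : F) ≠ 0) {x : GL ι F} (hx : x * x = -1) :
    tv h2 x hx * tv h2 x hx = sc 2 h2 * x := by
  refine Units.ext ?_
  show (1 + (x : Matrix ι ι F)) * (1 + (x : Matrix ι ι F)) = (2 : F) • (1 : Matrix ι ι F) * (x : Matrix ι ι F)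
  have e : (x : Matrix ι ι F) * x = -1 := by rw [← Units.val_mul, hx]; simp
  rw [add_mul, one_mul, mul_add, mul_one, e, smul_mul_assoc, one_mul, two_smul]
  abel

variable {R M : Subgroup (GL ι F)}

namespace Ctx

variable (C : Ctx R M)

include C in
/-- Separation: two fixed elements with different signs. -/
theorem separate [Finite F] {x a a' : GL ι F} (ha : a ∈ R) (ha' : a' ∈ R) (ha'1 : a' ∉ scalars ι F) (hax : Ac a x)
    (ha'x : Commute a' x) {h : GL ι F} (hh : h ∈ M) (hhx : PC h x) : h ∈ subgroupNormalizer R := by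
  have ha1 : a ∉ scalars ι F := (C.symp.not_ac_scalar hax).1
  set f := h * a' * h⁻¹ with hf
  have hfx : Commute f x := by
    have e := commute_conj ha'x h
    rcases hhx.conj_mem with e1 | e1 <;> rw [e1] at e
    · exact e
    · exact Commute.neg_right_iff.1 e
  rcases dihedral_mod (C.symp.sq_mem ha) (C.sq_conj h ha') with ⟨t, ht, e⟩ | ⟨w, hw, hw1, -, hwa, hwf, t, ht, e⟩
  · exfalso
    have hx' : ∀ y ∈ Subgroup.closure ({a, f} : Set (GL ι F)), PC y x := by
      intro y hy
      induction hy using Subgroup.closure_induction with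
      | mem y hy =>
        rcases hy with rfl | rfl
        · exact Or.inr hax
        · exact Or.inl hfx
      | one => exact Or.inl (Commute.one_left x)
      | mul y z _ _ hy hz => exact hy.mul_left hz
      | inv y _ hy => exact hy.inv_left
    have h1 : Ac (t * a * t⁻¹) x := by
      have e1 := hax.conj t
      rcases (hx' t ht).conj_mem with e2 | e2 <;> rw [e2] at e1
      · exact e1
      · unfold Ac at e1 ⊢
        rw [mul_neg, neg_mul, neg_neg] at e1
        exact neg_eq_iff_eq_neg.1 e1
    refine C.symp.not_both ?_ h1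
    rw [show t * a * t⁻¹ = t * a * t⁻¹ * f⁻¹ * f by group]
    exact (commute_scalar e x).mul_left hfx
  have hcl : Subgroup.closure ({a, f} : Set (GL ι F)) ≤ M := (Subgroup.closure_le _).2 (by
    rintro y (rfl | rfl)
    exacts [C.le ha, C.conj_le hh ha'])
  have hwN : w ∈ subgroupNormalizer R := C.cent w (hcl hw) a ha ha1 hwa
  have hwaN : w * a ∈ subgroupNormalizer R := mul_mem hwN (Subgroup.le_normalizer ha)
  -- `w * a` is a conjugate of an element of `R`
  have key : ∀ b ∈ R, b ∉ scalars ι F → ∀ k ∈ M, w * a * (k * b * k⁻¹)⁻¹ ∈ scalars ι F → w ∈ R := by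
    intro b hb hb1 k hk e
    have hkb : k * b * k⁻¹ = (w * a * (k * b * k⁻¹)⁻¹)⁻¹ * (w * a) := by group
    have hkbN : k * b * k⁻¹ ∈ subgroupNormalizer R := by
      rw [hkb]; exact mul_mem (inv_mem (C.symp.scalars_le e)) hwaN
    have hkbR := (Subgroup.mem_normalizer_iff.1 (C.extended hk hb hb1 hkbN) b).1 hb
    have := mul_mem (mul_mem (C.symp.scal e) hkbR) (inv_mem ha)
    rwa [show w * a * (k * b * k⁻¹)⁻¹ * (k * b * k⁻¹) * a⁻¹ = w by group] at this
  have hwR : w ∈ R := by
    rcases e with e | e
    · exact key a ha ha1 t (hcl ht) e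
    · refine key a' ha' ha'1 (t * h) (mul_mem (hcl ht) hh) ?_
      rwa [show t * h * a' * (t * h)⁻¹ = t * f * t⁻¹ by rw [hf]; group]
  exact C.weak hh ha' ha'1 hwR hw1 hwf.symm

include C in
/-- The group normalises `R`. -/
theorem le_normalizer [Finite F] : M ≤ subgroupNormalizer R := by
  classical
  intro g hg
  by_contra hgn
  haveI := C.symp.nonempty
  obtain ⟨u, hu, hu1, huu⟩ : ∃ u ∈ R, u ∉ scalars ι F ∧ u * u = -1 := by
    obtain ⟨u, hu, hu1⟩ : ∃ u ∈ R, u ∉ scalars ι F := by
      by_contra! hc
      have hle : Submodule.span F (matrixSet R) ≤ Submodule.span F {(1 : Matrix ι ι F)} := by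
        refine Submodule.span_le.2 ?_
        rintro _ ⟨x, hx, rfl⟩
        obtain ⟨d, hd⟩ := (mem_scalars_iff x).1 (hc x hx)
        rw [SetLike.mem_coe, Submodule.mem_span_singleton]
        exact ⟨d, hd.symm⟩
      rw [C.symp.span] at hle
      have h1 := Submodule.finrank_mono hle
      rw [finrank_top, Module.finrank_matrix, Module.finrank_self, mul_one,
        finrank_span_singleton (one_ne_zero (α := Matrix ι ι F))] at h1
      have : 3 * 3 ≤ Fintype.card ι * Fintype.card ι := Nat.mul_le_mul C.big C.big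
      omega
    obtain ⟨c, hc, hcu, e, -, -⟩ := C.symp.normed_props hu
    exact ⟨_, hcu, fun h => hu1 (by have := mul_mem (inv_mem hc) h; rwa [inv_mul_cancel_left] at this), e⟩
  obtain ⟨r, hr, hur⟩ := C.symp.exists_ac hu hu1
  have h2 := C.symp.two
  set T := SympNorm.tv h2 u huu with hT
  set s := T * r with hs
  have hTM : T ∈ M := C.tv u hu huu
  have hTN : T ∈ subgroupNormalizer R := tv_mem_normalizer huu C.symp.toIsPre hu
  have hsM : s ∈ M := mul_mem hTM (C.le hr)
  have hsN : s ∈ subgroupNormalizer R := mul_mem hTN (Subgroup.le_normalizer hr)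
  have hTu : Commute T u := tv_commute h2 huu (Commute.refl u)
  have hrT : r * T * r⁻¹ = SympNorm.tv h2 (-u) (neg_sq huu) := tv_conj h2 huu (neg_sq huu) hur.symm.conj_eq
  have hss : s * s ∈ scalars ι F := by
    obtain ⟨c, hc, e⟩ := tv_inv h2 huu
    have hk : SympNorm.tv h2 (-u) (neg_sq huu) = c⁻¹ * T⁻¹ := by rw [e, inv_mul_cancel_left]
    rw [hs, show T * r * (T * r) = T * (r * T * r⁻¹) * (r * r) by group, hrT, hk, ← mul_assoc T c⁻¹ T⁻¹,
      ← (commute_scalar (inv_mem hc) T).eq, mul_inv_cancel_right]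
    exact mul_mem (inv_mem hc) (C.symp.sq_mem hr)
  have hsu : Ac s u := (Ac.mul_left' hTu hur.symm)
  have hsR : s ∉ R := by
    intro h
    have hTR : T ∈ R := by
      have := mul_mem h (inv_mem hr)
      rwa [hs, mul_inv_cancel_right] at this
    have e := tv_ac h2 huu hur.symm
    rw [← hT] at e
    rcases (C.symp.sign T hTR r hr).conj_mem with e1 | e1 <;> rw [e1] at e
    · exact hu1 (by
        have : r * -u = r * 1 := by rw [mul_neg, ← e, mul_one]
        have := mul_left_cancel this
        rw [neg_eq_iff_eq_neg] at this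
        rw [this]; exact neg_mem_scalars (one_mem _))
    · exact hu1 (by
        have : r * u = r * 1 := by rw [← neg_inj, ← e, mul_one]
        rw [mul_left_cancel this]; exact one_mem _)
  -- the centraliser of `s`
  have hCs : ∀ h ∈ M, PC h s → h ∈ subgroupNormalizer R := by
    obtain ⟨t, ht, ht1, htu, htr⟩ := C.symp.exists_commute_pair C.big hu hr hur
    exact fun h hh hhs => C.separate hu ht ht1 hsu.symm ((tv_commute h2 huu htu).symm.mul_right htr) hh hhs
  set f := g * u * g⁻¹ with hf
  have hfM : f ∈ M := C.conj_le hg hu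
  have hfN : f ∉ subgroupNormalizer R := fun h => hgn (C.extended hg hu hu1 h)
  have hcl : Subgroup.closure ({s, f} : Set (GL ι F)) ≤ M := (Subgroup.closure_le _).2 (by
    rintro y (rfl | rfl)
    exacts [hsM, hfM])
  -- a conjugate of `u` in the normaliser is in `R`
  have back : ∀ k ∈ M, ∀ y, y ∈ subgroupNormalizer R → y * (k * f * k⁻¹)⁻¹ ∈ scalars ι F → y ∈ R := by
    intro k hk y hy e
    have hkg : k * g * u * (k * g)⁻¹ = k * f * k⁻¹ := by rw [hf]; group
    have hN : k * g * u * (k * g)⁻¹ ∈ subgroupNormalizer R := by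
      rw [hkg, show k * f * k⁻¹ = (y * (k * f * k⁻¹)⁻¹)⁻¹ * y by group]
      exact mul_mem (inv_mem (C.symp.scalars_le e)) hy
    have := mul_mem (C.symp.scal e)
      ((Subgroup.mem_normalizer_iff.1 (C.extended (mul_mem hk hg) hu hu1 hN) u).1 hu)
    rwa [hkg, inv_mul_cancel_right] at this
  rcases dihedral_mod hss (C.sq_conj g hu) with ⟨k, hk, e⟩ | ⟨w, hw, hw1, hww, hws, hwf, k, hk, e⟩
  · refine hsR (back k⁻¹ (inv_mem (hcl hk)) s hsN ?_)
    rw [inv_inv, show s * (k⁻¹ * f * k)⁻¹ = k⁻¹ * (k * s * k⁻¹ * f⁻¹) * k⁻¹⁻¹ by group, scalar_conj e]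
    exact e
  have hwN : w ∈ subgroupNormalizer R := hCs w (hcl hw) hws
  have hwsN : w * s ∈ subgroupNormalizer R := mul_mem hwN hsN
  have hwR : w ∉ R := fun h => hgn (C.weak hg hu hu1 h hw1 hwf.symm)
  -- two fixed elements with different signs
  obtain ⟨a, ha, a', ha', ha'1, haw, ha'w⟩ :
      ∃ a ∈ R, ∃ a' ∈ R, a' ∉ scalars ι F ∧ Ac a w ∧ Commute a' w := by
    rcases e with e | e
    swap
    · -- `w * s` in `R`
      set q := w * s with hq
      have hqR : q ∈ R := back k (hcl hk) q hwsN e
      have hqs : PC q s := hws.mul_left (pc_self s)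
      have hqu : Commute q u := by
        refine (C.symp.sign q hqR u hu).resolve_right fun hac => ?_
        have e1 : s * q * s⁻¹ = T * (r * q * r⁻¹) * T⁻¹ := by rw [hs]; group
        have e2 : r * q * r⁻¹ = q ∨ r * q * r⁻¹ = -q := (C.symp.sign r hr q hqR).conj_mem
        have e3 : s * q * s⁻¹ = q * u ∨ s * q * s⁻¹ = -(q * u) := by
          rcases e2 with e2 | e2 <;> rw [e1, e2]
          · exact Or.inr (tv_ac h2 huu hac)
          · left
            rw [mul_neg, neg_mul, tv_ac h2 huu hac, neg_neg]
        have e4 : s * q * s⁻¹ = q * 1 ∨ s * q * s⁻¹ = q * -1 := by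
          rcases hqs.symm.conj_mem with e4 | e4 <;> simp [e4]
        rcases e3 with e3 | e3 <;> rcases e4 with e4 | e4 <;> rw [e3] at e4
        · exact hu1 (mul_left_cancel e4 ▸ one_mem _)
        · exact hu1 (mul_left_cancel e4 ▸ neg_mem_scalars (one_mem _))
        · rw [← mul_neg] at e4
          exact hu1 (by rw [neg_eq_iff_eq_neg.1 (mul_left_cancel e4)]; exact neg_mem_scalars (one_mem _))
        · rw [← mul_neg] at e4
          exact hu1 (by rw [neg_inj.1 (mul_left_cancel e4)]; exact one_mem _)
      have hwe : w = q * s⁻¹ := by rw [hq, mul_inv_cancel_right]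
      have hac : Ac u (q * r⁻¹) := Ac.mul_right' hqu.symm hur.symm.inv_left.symm
      obtain ⟨t, ht, ht1, htu, htq⟩ := C.symp.exists_commute_pair C.big hu (mul_mem hqR (inv_mem hr)) hac
      refine ⟨u, hu, t, ht, ht1, ?_, ?_⟩
      · rw [hwe]
        exact Ac.mul_right' hqu.symm hsu.inv_left.symm
      · rw [hwe, hs, _root_.mul_inv_rev, ← mul_assoc]
        exact htq.mul_right (tv_commute h2 huu htu).symm.inv_right
    · -- `w * s` a conjugate of `s`
      have hk' := hcl hk
      set s' := k * s * k⁻¹ with hs'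
      have hs'N : s' ∈ subgroupNormalizer R := by
        rw [show s' = (w * s * s'⁻¹)⁻¹ * (w * s) by group]
        exact mul_mem (inv_mem (C.symp.scalars_le e)) hwsN
      have hs's' : s' * s' ∈ scalars ι F := by
        rw [hs', show k * s * k⁻¹ * (k * s * k⁻¹) = k * (s * s) * k⁻¹ by group, scalar_conj hss]
        exact hss
      have hkN : k ∈ subgroupNormalizer R := by
        obtain ⟨t, ht, ht1, -, hpc⟩ := C.symp.exists_fixed C.big hs'N hs's' hu hu1
        have := (hpc.symm).conj k⁻¹
        rw [hs', inv_inv, show k⁻¹ * (k * s * k⁻¹) * k = s by group] at this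
        have h1 : k⁻¹ * t * k ∈ subgroupNormalizer R :=
          hCs _ (mul_mem (mul_mem (inv_mem hk') (C.le ht)) hk') this
        have h2' := C.extended (inv_mem hk') ht ht1 (by rwa [inv_inv])
        have := inv_mem h2'
        rwa [inv_inv] at this
      set u' := k * u * k⁻¹ with hu'
      set r' := k * r * k⁻¹ with hr'
      have hu'R : u' ∈ R := (Subgroup.mem_normalizer_iff.1 hkN u).1 hu
      have hr'R : r' ∈ R := (Subgroup.mem_normalizer_iff.1 hkN r).1 hr
      have hu'u' : u' * u' = -1 := by
        rw [hu', show k * u * k⁻¹ * (k * u * k⁻¹) = k * (u * u) * k⁻¹ by group, huu, mul_neg_one, neg_mul,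
          mul_inv_cancel]
      set T' := SympNorm.tv h2 u' hu'u' with hT'
      have hs'e : s' = T' * r' := by
        rw [hs', hr', hT', ← tv_conj h2 huu hu'u' hu'.symm, hs, hT]; group
      have hu'r' : Ac u' r' := hur.conj k
      have hs'u' : Ac s' u' := by rw [hs', hu']; exact hsu.conj k
      obtain ⟨c, hc, hce⟩ : ∃ c ∈ scalars ι F, w * s = c * s' := ⟨_, e, by group⟩
      by_cases hdep : u⁻¹ * u' ∈ scalars ι F
      · exfalso
        apply hwR
        have hq : r' * r⁻¹ ∈ R := mul_mem hr'R (inv_mem hr)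
        have hpm : u' = u ∨ u' = -u := by
          obtain ⟨d, hd⟩ := (mem_scalars_iff _).1 hdep
          have hd' : (u' : Matrix ι ι F) = (d : F) • (u : Matrix ι ι F) := by
            have := congrArg (fun Z => (u : Matrix ι ι F) * Z) hd
            simpa [← Units.val_mul, mul_inv_cancel_left] using this
          have e1 : ((d : F) * d) • (1 : Matrix ι ι F) = 1 := by
            have := congrArg Units.val hu'u'
            have hu2 : (u : Matrix ι ι F) * u = -1 := by rw [← Units.val_mul, huu]; simp
            rw [Units.val_mul, hd', smul_mul_smul_comm, hu2] at this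
            simpa using this
          obtain ⟨i⟩ := ‹Nonempty ι›
          have e2 : (d : F) * d = 1 := by simpa using congrFun₂ e1 i i
          rcases mul_self_eq_one_iff.1 e2 with h | h
          · exact Or.inl (Units.ext (by rw [hd', h, one_smul]))
          · exact Or.inr (Units.ext (by rw [hd', h, neg_smul, one_smul, Units.val_neg]))
        have hr'u : Ac r' u := by
          rcases hpm with e1 | e1 <;> rw [e1] at hu'r'
          · exact hu'r'.symm
          · refine ((C.symp.sign r' hr'R u hu)).resolve_left fun hc' => C.symp.not_both (hc'.neg_right).symm hu'r'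
        have hTq : Commute T (r' * r⁻¹) :=
          tv_commute h2 huu (commute_of_ac_ac hr'u.symm hur.symm.inv_left.symm).symm
        have hwe : w = c * (T' * T⁻¹) * (r' * r⁻¹) := by
          calc w = c * (T' * r') * (T * r)⁻¹ := by rw [← hs'e, ← hs, ← hce, mul_inv_cancel_right]
            _ = c * T' * ((r' * r⁻¹) * T⁻¹) := by group
            _ = _ := by rw [← hTq.inv_left.eq]; group
        rw [hwe]
        refine mul_mem (mul_mem (C.symp.scal hc) ?_) hq
        rcases hpm with e1 | e1
        · rw [hT', tv_congr h2 hu'u' huu e1, ← hT, mul_inv_cancel]; exact one_mem R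
        · rw [hT', tv_congr h2 hu'u' (neg_sq huu) e1]
          obtain ⟨c', hc', e2⟩ := tv_inv h2 huu
          rw [show SympNorm.tv h2 (-u) (neg_sq huu) = c'⁻¹ * T⁻¹ by rw [e2, inv_mul_cancel_left],
            mul_assoc, ← _root_.mul_inv_rev, hT, tv_mul_self]
          exact mul_mem (C.symp.scal (inv_mem hc')) (inv_mem (mul_mem (C.symp.scal (sc_mem 2 h2)) hu))
      -- independent axes
      have hu'1 : u' ∉ scalars ι F := fun h => hu1 ((conj_mem_scalars k).1 h)
      have hss' : PC s s' := by
        have : s' = c⁻¹ * (w * s) := by rw [hce, inv_mul_cancel_left]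
        rw [this]
        exact (pc_scalar (inv_mem hc) s).symm.mul_right (hws.symm.mul_right (pc_self s))
      obtain ⟨ε, hε, hεe⟩ : ∃ ε : F, (ε = 1 ∧ Commute r u' ∨ ε = -1 ∧ Ac r u') ∧
          ((r * T' : GL ι F) : Matrix ι ι F) = (1 + ε • (u' : Matrix ι ι F)) * (r : Matrix ι ι F) := by
        have e0 : ((r * T' : GL ι F) : Matrix ι ι F) = (r : Matrix ι ι F) + ((r * u' : GL ι F) : Matrix ι ι F) := by
          show (r : Matrix ι ι F) * (1 + (u' : Matrix ι ι F)) = _
          rw [mul_add, mul_one, ← Units.val_mul]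
        rcases C.symp.sign r hr u' hu'R with h | h
        · exact ⟨1, Or.inl ⟨rfl, h⟩, by rw [e0, h.eq, one_smul, add_mul, one_mul, ← Units.val_mul]⟩
        · refine ⟨-1, Or.inr ⟨rfl, h⟩, ?_⟩
          rw [e0, show r * u' = -(u' * r) from h, Units.val_neg, neg_smul, one_smul, add_mul, one_mul, neg_mul,
            ← Units.val_mul]
      obtain ⟨δ, hδ, hδe⟩ : ∃ δ : F, (δ = 1 ∧ Commute r' u ∨ δ = -1 ∧ Ac r' u) ∧
          ((r' * T : GL ι F) : Matrix ι ι F) = (1 + δ • (u : Matrix ι ι F)) * (r' : Matrix ι ι F) := by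
        have e0 : ((r' * T : GL ι F) : Matrix ι ι F) = (r' : Matrix ι ι F) + ((r' * u : GL ι F) : Matrix ι ι F) := by
          show (r' : Matrix ι ι F) * (1 + (u : Matrix ι ι F)) = _
          rw [mul_add, mul_one, ← Units.val_mul]
        rcases C.symp.sign r' hr'R u hu with h | h
        · exact ⟨1, Or.inl ⟨rfl, h⟩, by rw [e0, h.eq, one_smul, add_mul, one_mul, ← Units.val_mul]⟩
        · refine ⟨-1, Or.inr ⟨rfl, h⟩, ?_⟩
          rw [e0, show r' * u = -(u * r') from h, Units.val_neg, neg_smul, one_smul, add_mul, one_mul, neg_mul,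
            ← Units.val_mul]
      obtain ⟨η, hη, hηe⟩ : ∃ η : F, (η = 1 ∧ Commute u' u ∨ η = -1) ∧
          ((u' * u : GL ι F) : Matrix ι ι F) = η • ((u * u' : GL ι F) : Matrix ι ι F) := by
        rcases C.symp.sign u' hu'R u hu with h | h
        · exact ⟨1, Or.inl ⟨rfl, h⟩, by rw [h.eq, one_smul]⟩
        · exact ⟨-1, Or.inr rfl, by rw [show u' * u = -(u * u') from h, Units.val_neg, neg_one_smul]⟩
      obtain ⟨γ, hγ⟩ : ∃ γ : F, (1 + (u : Matrix ι ι F)) * (1 + ε • (u' : Matrix ι ι F)) =
          γ • ((1 + (u' : Matrix ι ι F)) * (1 + δ • (u : Matrix ι ι F))) := by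
        obtain ⟨γ₁, hγ₁⟩ : ∃ γ : F, ((r' * r : GL ι F) : Matrix ι ι F) = γ • ((r * r' : GL ι F) : Matrix ι ι F) := by
          rcases C.symp.sign r' hr'R r hr with h | h
          · exact ⟨1, by rw [h.eq, one_smul]⟩
          · exact ⟨-1, by rw [show r' * r = -(r * r') from h, Units.val_neg, neg_one_smul]⟩
        obtain ⟨γ₂, hγ₂⟩ : ∃ γ : F, ((s * s' : GL ι F) : Matrix ι ι F) = γ • ((s' * s : GL ι F) : Matrix ι ι F) := by
          rcases hss' with h | h
          · exact ⟨1, by rw [h.eq, one_smul]⟩
          · exact ⟨-1, by rw [show s * s' = -(s' * s) from h, Units.val_neg, neg_one_smul]⟩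
        refine ⟨γ₂ * γ₁, ?_⟩
        have eA : ((s * s' : GL ι F) : Matrix ι ι F) =
            (1 + (u : Matrix ι ι F)) * (1 + ε • (u' : Matrix ι ι F)) * ((r * r' : GL ι F) : Matrix ι ι F) := by
          rw [hs, hs'e, show T * r * (T' * r') = T * (r * T') * r' by group, Units.val_mul, Units.val_mul, hεe,
            Units.val_mul r r', show (T : Matrix ι ι F) = 1 + (u : Matrix ι ι F) from rfl]
          simp only [mul_assoc]
        have eB : ((s' * s : GL ι F) : Matrix ι ι F) =
            (1 + (u' : Matrix ι ι F)) * (1 + δ • (u : Matrix ι ι F)) * ((r' * r : GL ι F) : Matrix ι ι F) := by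
          rw [hs, hs'e, show T' * r' * (T * r) = T' * (r' * T) * r by group, Units.val_mul, Units.val_mul, hδe,
            Units.val_mul r' r, show (T' : Matrix ι ι F) = 1 + (u' : Matrix ι ι F) from rfl]
          simp only [mul_assoc]
        rw [eA, eB, hγ₁, Matrix.mul_smul, smul_smul, ← Matrix.smul_mul] at hγ₂
        have := congrArg (fun Z => Z * (((r * r')⁻¹ : GL ι F) : Matrix ι ι F)) hγ₂
        simpa [mul_assoc] using this
      -- comparing coefficients
      let bas : Fin 4 → GL ι F := ![1, u, u', u * u']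
      have hbasR : ∀ i, bas i ∈ R := by
        intro i; fin_cases i
        exacts [one_mem R, hu, hu'R, mul_mem hu hu'R]
      have hzero : ∀ i, (![1 - γ, 1 - γ * δ, ε - γ, ε - γ * δ * η] : Fin 4 → F) i = 0 := by
        refine fun i => C.symp.coeff_eq_zero bas hbasR (fun p q hpq => ?_) _ ?_ i
        · have huu' : u * u' ∉ scalars ι F := fun h => hdep (by
            have := mul_mem (inv_mem (C.symp.sq_mem hu)) h
            rwa [_root_.mul_inv_rev, mul_assoc, inv_mul_cancel_left] at this)
          have hu'uu' : u'⁻¹ * (u * u') ∉ scalars ι F := fun h => hu1 (by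
            have h1 := scalar_conj h u'
            rw [show u' * (u'⁻¹ * (u * u')) * u'⁻¹ = u by group] at h1
            rw [h1]; exact h)
          have hsym : ∀ {x y : GL ι F}, x⁻¹ * y ∉ scalars ι F → y⁻¹ * x ∉ scalars ι F := fun {x y} hxy h => hxy (by
            have := inv_mem h; rwa [_root_.mul_inv_rev, inv_inv] at this)
          have b01 : (1 : GL ι F)⁻¹ * u ∉ scalars ι F := by rwa [inv_one, one_mul]
          have b02 : (1 : GL ι F)⁻¹ * u' ∉ scalars ι F := by rwa [inv_one, one_mul]
          have b03 : (1 : GL ι F)⁻¹ * (u * u') ∉ scalars ι F := by rwa [inv_one, one_mul]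
          have b13 : u⁻¹ * (u * u') ∉ scalars ι F := by rwa [inv_mul_cancel_left]
          fin_cases p <;> fin_cases q <;> first
            | exact absurd rfl hpq
            | exact b01 | exact hsym b01 | exact b02 | exact hsym b02 | exact b03 | exact hsym b03
            | exact hdep | exact hsym hdep | exact b13 | exact hsym b13 | exact hu'uu' | exact hsym hu'uu'
        · simp only [Fin.sum_univ_four, bas]
          simp only [Matrix.cons_val_zero, Matrix.cons_val_one, Matrix.cons_val]
          have eR : (1 + (u' : Matrix ι ι F)) * (1 + δ • (u : Matrix ι ι F)) =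
              1 + δ • (u : Matrix ι ι F) + (u' : Matrix ι ι F) + (δ * η) • ((u * u' : GL ι F) : Matrix ι ι F) := by
            rw [add_mul, one_mul, mul_add, mul_one, Matrix.mul_smul, ← Units.val_mul, hηe, smul_smul]
            abel
          rw [eR] at hγ
          rw [add_mul, one_mul, mul_add, mul_one, Matrix.mul_smul, ← Units.val_mul] at hγ
          rw [Units.val_one]
          linear_combination (norm := module) hγ
      have z0 := hzero 0
      have z1 := hzero 1
      have z2 := hzero 2
      have z3 := hzero 3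
      simp at z0 z1 z2 z3
      have hγ1 : γ = 1 := by linear_combination -z0
      subst hγ1
      have hδ1 : δ = 1 := by linear_combination -z1
      have hε1 : ε = 1 := by linear_combination z2
      subst hδ1 hε1
      have hη1 : η = 1 := by linear_combination -z3
      have hne : (1 : F) ≠ -1 := fun h => h2 (by linear_combination h)
      have hru' : Commute r u' := (hε.resolve_right fun h => hne h.1).2
      have hr'u : Commute r' u := (hδ.resolve_right fun h => hne h.1).2
      have huu' : Commute u' u := (hη.resolve_right fun h => hne (hη1 ▸ h)).2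
      have hsu' : Commute s u' := (tv_commute h2 huu huu'.symm.symm).mul_left hru'
      have hs'u : Commute s' u := by
        rw [hs'e]; exact (tv_commute h2 hu'u' huu'.symm).mul_left hr'u
      have hwe : w = c * s' * s⁻¹ := by rw [← hce, mul_inv_cancel_right]
      have hwu : Ac w u := by
        rw [hwe]
        exact Ac.mul_left' ((commute_scalar hc u).mul_left hs'u) hsu.inv_left
      have hwu' : Ac w u' := by
        rw [hwe]
        exact (Ac.mul_left' (commute_scalar hc u') hs'u').mul_left hsu'.inv_left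
      refine ⟨u, hu, u * u', mul_mem hu hu'R, fun h => hdep ?_, hwu.symm, (commute_of_ac_ac hwu hwu').symm⟩
      have := mul_mem (inv_mem (C.symp.sq_mem hu)) h
      rwa [_root_.mul_inv_rev, mul_assoc, inv_mul_cancel_left] at this
  exact hfN (C.separate ha ha' ha'1 haw ha'w hfM hwf.symm)

end Ctx

end CfsgLib.Geo.SympNorm
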