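import Cfsg.Agent.Lib.Geo.SympNorm.Tools
import Mathlib.LinearAlgebra.LinearIndependent.Basic

/-!
# Conjugates of elements of `R` commuting with elements of `R` lie in `R`
-/

set_option autoImplicit false

namespace CfsgLib.Geo.SympNorm

open Matrix Cfsg.Geo

variable {ι : Type} [Fintype ι] [DecidableEq ι] {F : Type*} [Field F]

/-- The standing hypotheses on an overgroup `M` of the normaliser of `R`. -/
structure Ctx (R M : Subgroup (GL ι F)) : Prop where
  symp : IsSymp R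
  big : 3 ≤ Fintype.card ι
  le : R ≤ M
  tv : symp.HasTv M
  cent : ∀ g ∈ M, ∀ a ∈ R, a ∉ scalars ι F → PC g a → g ∈ subgroupNormalizer R

/-- The projection modulo scalars. -/
abbrev bar : GL ι F →* GL ι F ⧸ scalars ι F := QuotientGroup.mk' (scalars ι F)

theorem bar_eq_iff {x y : GL ι F} : bar x = bar y ↔ x * y⁻¹ ∈ scalars ι F := by
  rw [← div_eq_mul_inv]
  exact QuotientGroup.eq_iff_div_mem

theorem bar_eq_one {x : GL ι F} : bar x = 1 ↔ x ∈ scalars ι F := QuotientGroup.eq_one_iff x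

/-- The elements of `R` commuting up to sign with `x`. -/
def fixedBy (R : Subgroup (GL ι F)) (x : GL ι F) : Subgroup (GL ι F) where
  carrier := {t | t ∈ R ∧ PC x t}
  one_mem' := ⟨one_mem R, Or.inl (Commute.one_right x)⟩
  mul_mem' := fun ha hb => ⟨mul_mem ha.1 hb.1, ha.2.mul_right hb.2⟩
  inv_mem' := fun ha => ⟨inv_mem ha.1, ha.2.symm.inv_left.symm⟩

theorem mem_fixedBy {R : Subgroup (GL ι F)} {x t : GL ι F} : t ∈ fixedBy R x ↔ t ∈ R ∧ PC x t := Iff.rfl

variable {R M : Subgroup (GL ι F)}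

theorem IsPre.pc_iff (h : IsPre R) {x t : GL ι F} (ht : t ∈ R) :
    PC x t ↔ bar (x * t * x⁻¹ * t⁻¹) = 1 := by
  rw [bar_eq_one]
  refine ⟨fun hp => ?_, pc_of_scalar (h.sq_mem ht)⟩
  rcases hp.conj_mem with e | e <;> rw [e]
  · rw [mul_inv_cancel]; exact one_mem _
  · rw [neg_mul, mul_inv_cancel]; exact neg_mem_scalars (one_mem _)

theorem IsPre.bar_comm (h : IsPre R) {a b : GL ι F} (ha : a ∈ R) (hb : b ∈ R) : bar a * bar b = bar b * bar a := by
  have h1 : a * b * (b * a)⁻¹ ∈ scalars ι F := by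
    rcases h.sign a ha b hb with e | e
    · rw [e.eq, mul_inv_cancel]; exact one_mem _
    · rw [show a * b = -(b * a) from e, neg_mul, mul_inv_cancel]; exact neg_mem_scalars (one_mem _)
  rw [← map_mul, ← map_mul, bar_eq_iff]
  exact h1

theorem IsPre.bar_sq (h : IsPre R) {a : GL ι F} (ha : a ∈ R) : bar a * bar a = 1 := by
  rw [← map_mul, bar_eq_one]; exact h.sq_mem ha

/-- An involutive normalising element fixes an element outside a given cyclic subgroup. -/
theorem IsPre.exists_fixed (h : IsPre R) (hbig : 3 ≤ Fintype.card ι) {x v : GL ι F}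
    (hxN : x ∈ subgroupNormalizer R) (hxx : x * x ∈ scalars ι F) (hv : v ∈ R) (hv1 : v ∉ scalars ι F) :
    ∃ t ∈ R, t ∉ scalars ι F ∧ t * v⁻¹ ∉ scalars ι F ∧ PC x t := by
  have hcR : ∀ t ∈ R, x * t * x⁻¹ ∈ R := fun t ht => (Subgroup.mem_normalizer_iff.1 hxN t).1 ht
  by_cases hc : ∃ t ∈ R, x * t * x⁻¹ * t⁻¹ ∉ scalars ι F ∧ x * t * x⁻¹ * t⁻¹ * v⁻¹ ∉ scalars ι F
  · obtain ⟨t, ht, e1, e2⟩ := hc
    refine ⟨_, mul_mem (hcR t ht) (inv_mem ht), e1, e2, (h.pc_iff (mul_mem (hcR t ht) (inv_mem ht))).2 ?_⟩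
    have e3 : bar x * bar x = 1 := by rw [← map_mul, bar_eq_one]; exact hxx
    have e4 := h.bar_comm (hcR t ht) (inv_mem ht)
    have e5 := h.bar_sq (mul_mem (hcR t ht) (inv_mem ht))
    simp only [map_mul, map_inv] at e4 e5 ⊢
    rw [inv_eq_of_mul_eq_one_right e3] at e4 e5 ⊢
    have e6 : (bar t)⁻¹ = bar t := inv_eq_of_mul_eq_one_right (h.bar_sq ht)
    rw [e6] at e4 e5 ⊢
    rw [show bar x * (bar x * bar t * bar x * bar t) * bar x = bar t * (bar x * bar t * bar x) by
      rw [← mul_assoc, ← mul_assoc, ← mul_assoc, e3, one_mul]; group, ← e4, inv_eq_of_mul_eq_one_right e5, e5]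
  push Not at hc
  obtain ⟨u, hu, hvu⟩ := h.exists_ac hv hv1
  obtain ⟨t, ht, ht1, htv, htu⟩ := h.exists_commute_pair hbig hv hu hvu
  have hns : ∀ w : GL ι F, Ac v w → w ∉ scalars ι F ∧ w * v⁻¹ ∉ scalars ι F := fun w hw =>
    ⟨(h.not_ac_scalar hw).2, fun e => h.not_both (commute_scalar e v).symm
      (hw.mul_right (Commute.refl v).inv_right)⟩
  by_cases e1 : x * t * x⁻¹ * t⁻¹ ∈ scalars ι F
  · exact ⟨t, ht, ht1, fun e => (h.not_ac_scalar (Ac.mul_right' htu.symm hvu.inv_left.symm)).2 e,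
      pc_of_scalar (h.sq_mem ht) e1⟩
  by_cases e2 : x * u * x⁻¹ * u⁻¹ ∈ scalars ι F
  · exact ⟨u, hu, (hns u hvu).1, (hns u hvu).2, pc_of_scalar (h.sq_mem hu) e2⟩
  have hw : Ac v (t * u) := Ac.mul_right' htv.symm hvu
  refine ⟨t * u, mul_mem ht hu, (hns _ hw).1, (hns _ hw).2, (h.pc_iff (mul_mem ht hu)).2 ?_⟩
  have E : ∀ w ∈ R, ¬ x * w * x⁻¹ * w⁻¹ ∈ scalars ι F → bar x * bar w * (bar x)⁻¹ = bar v * bar w := by
    intro w hw' hn
    rw [← map_inv, ← map_mul, ← map_mul, ← map_mul, bar_eq_iff]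
    simpa [mul_assoc] using hc w hw' hn
  simp only [map_mul, map_inv, _root_.mul_inv_rev]
  rw [show bar x * (bar t * bar u) * (bar x)⁻¹ * ((bar u)⁻¹ * (bar t)⁻¹) =
    (bar x * bar t * (bar x)⁻¹) * (bar x * bar u * (bar x)⁻¹) * ((bar u)⁻¹ * (bar t)⁻¹) by group,
    E t ht e1, E u hu e2, show bar v * bar t = bar t * bar v from h.bar_comm hv ht,
    show bar t * bar v * (bar v * bar u) * ((bar u)⁻¹ * (bar t)⁻¹) = bar t * (bar v * bar v) * (bar t)⁻¹ by group,
    h.bar_sq hv, mul_one, mul_inv_cancel]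

open Classical in
/-- The sign of the commutator with `c`. -/
noncomputable def sgn (h : IsPre R) {c : GL ι F} (hc : c ∈ R) : R →* F where
  toFun t := if Commute c t then 1 else -1
  map_one' := if_pos (Commute.one_right c)
  map_mul' t t' := by
    rcases h.sign c hc t t.2 with e | e <;> rcases h.sign c hc t' t'.2 with e' | e'
    · simp [e, e', e.mul_right e']
    · have n1 : ¬ Commute c (t' : GL ι F) := fun hh => h.not_both hh e'
      have n2 : ¬ Commute c ((t : GL ι F) * t') := fun hh => h.not_both hh (Ac.mul_right' e e')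
      simp [e, n1, n2]
    · have n1 : ¬ Commute c (t : GL ι F) := fun hh => h.not_both hh e
      have n2 : ¬ Commute c ((t : GL ι F) * t') := fun hh => h.not_both hh (e.mul_right e')
      simp [e', n1, n2]
    · have n1 : ¬ Commute c (t : GL ι F) := fun hh => h.not_both hh e
      have n1' : ¬ Commute c (t' : GL ι F) := fun hh => h.not_both hh e'
      simp [commute_of_ac_ac e e', n1, n1']

open Classical in
/-- The fixed elements commuting exactly with all fixed elements. -/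
def perpBar (R : Subgroup (GL ι F)) (x : GL ι F) : Set (GL ι F ⧸ scalars ι F) :=
  {q | ∃ c ∈ fixedBy R x, (∀ s ∈ fixedBy R x, Commute c s) ∧ bar c = q}

/-- The commutators with `x`. -/
def imageBar (R : Subgroup (GL ι F)) (x : GL ι F) : Set (GL ι F ⧸ scalars ι F) :=
  Set.range fun t : R => bar (x * t * x⁻¹ * (t : GL ι F)⁻¹)

open Classical in
/-- No more fixed elements perpendicular to all fixed elements than commutators. -/
theorem IsPre.card_perp_le [Finite F] (h : IsPre R) {x : GL ι F} (hxN : x ∈ subgroupNormalizer R) :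
    Nat.card (perpBar R x) ≤ Nat.card (imageBar R x) := by
  haveI : Fintype (imageBar R x) := Fintype.ofFinite _
  haveI : Fintype (perpBar R x) := Fintype.ofFinite _
  let ρ : R → imageBar R x := fun t => ⟨_, t, rfl⟩
  have hker : ∀ t t' : R, ρ t = ρ t' → PC x ((t'⁻¹ * t : R) : GL ι F) := by
    intro t t' e
    have hcR : ∀ t ∈ R, x * t * x⁻¹ ∈ R := fun t ht => (Subgroup.mem_normalizer_iff.1 hxN t).1 ht
    refine (h.pc_iff (t'⁻¹ * t : R).2).2 ?_
    have e1 : bar (x * (t : GL ι F) * x⁻¹ * (t : GL ι F)⁻¹) = bar (x * (t' : GL ι F) * x⁻¹ * (t' : GL ι F)⁻¹) := congrArg Subtype.val e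
    have c1 := h.bar_comm (hcR t t.2) (inv_mem t'.2)
    simp only [Subgroup.coe_mul, Subgroup.coe_inv, map_mul, map_inv, _root_.mul_inv_rev, inv_inv] at e1 c1 ⊢
    calc bar x * ((bar (t' : GL ι F))⁻¹ * bar (t : GL ι F)) * (bar x)⁻¹ * ((bar (t : GL ι F))⁻¹ * bar (t' : GL ι F))
        = (bar x * bar (t' : GL ι F) * (bar x)⁻¹)⁻¹ * (bar x * bar (t : GL ι F) * (bar x)⁻¹ * (bar (t : GL ι F))⁻¹) *
            bar (t' : GL ι F) := by group
      _ = _ := by rw [e1]; group
  choose c hc hcomm hbar using fun q : perpBar R x => q.2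
  let χ : perpBar R x → (R →* F) := fun q => sgn h (hc q).1
  have hinj : Function.Injective χ := by
    intro q q' e
    have hsc : c q * (c q')⁻¹ ∈ scalars ι F := by
      refine h.scalar_of_commute fun r hr => ?_
      have e1 : (if Commute (c q) r then (1 : F) else -1) = (if Commute (c q') r then (1 : F) else -1) :=
        DFunLike.congr_fun e ⟨r, hr⟩
      have hne : (1 : F) ≠ -1 := fun e2 => h.two (by linear_combination e2)
      rcases h.sign _ (hc q).1 r hr with a | a <;> rcases h.sign _ (hc q').1 r hr with a' | a'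
      · exact a.mul_left a'.inv_left
      · rw [if_pos a, if_neg fun hh => h.not_both hh a'] at e1; exact absurd e1 hne
      · rw [if_neg fun hh => h.not_both hh a, if_pos a'] at e1; exact absurd e1.symm hne
      · exact (commute_of_ac_ac a.symm a'.inv_left.symm).symm
    exact Subtype.ext (by rw [← hbar q, ← hbar q', bar_eq_iff]; exact hsc)
  have hfac : ∀ q t t', ρ t = ρ t' → χ q t = χ q t' := by
    intro q t t' e
    have hc' : Commute (c q) ((t'⁻¹ * t : R) : GL ι F) := hcomm q _ ⟨(t'⁻¹ * t : R).2, hker t t' e⟩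
    rw [show t = t' * (t'⁻¹ * t) by group, map_mul,
      show χ q (t'⁻¹ * t) = 1 from if_pos hc', mul_one]
  let L : (imageBar R x → F) →ₗ[F] (R → F) := LinearMap.funLeft F F ρ
  have hmem : ∀ q, (χ q : R → F) ∈ LinearMap.range L := by
    intro q
    have hρ : ∀ i : imageBar R x, ∃ t, ρ t = i := fun i => by
      obtain ⟨t, ht⟩ := i.2; exact ⟨t, Subtype.ext ht⟩
    choose σ hσ using hρ
    exact ⟨fun i => χ q (σ i), funext fun t => hfac q _ _ (hσ (ρ t))⟩
  have hli : LinearIndependent F (fun q => (⟨(χ q : R → F), hmem q⟩ : LinearMap.range L)) := by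
    refine LinearIndependent.of_comp (LinearMap.range L).subtype ?_
    exact (linearIndependent_monoidHom R F).comp χ hinj
  have h1 := hli.fintype_card_le_finrank
  have h3 := L.finrank_range_le
  rw [Module.finrank_fintype_fun_eq_card] at h3
  rw [Nat.card_eq_fintype_card, Nat.card_eq_fintype_card]
  omega

namespace Ctx

variable (C : Ctx R M)

include C in
theorem scalars_le : scalars ι F ≤ M := C.symp.scal.trans C.le

include C in
/-- An element moving a non-scalar element of `R` into `R` normalises `R`. -/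
theorem mem_of_conj_mem {g r : GL ι F} (hg : g ∈ M) (hr : r ∈ R) (hr1 : r ∉ scalars ι F) (e : g * r * g⁻¹ ∈ R) :
    g ∈ subgroupNormalizer R := by
  obtain ⟨n, hn, hn'⟩ := C.symp.transitive C.tv e hr (fun h => hr1 ((conj_mem_scalars g).1 h)) hr1
  have hng : n * g ∈ subgroupNormalizer R := C.cent _ (mul_mem hn.1 hg) r hr hr1
    (pc_of_scalar (C.symp.sq_mem hr) (by rwa [show n * g * r * (n * g)⁻¹ = n * (g * r * g⁻¹) * n⁻¹ by group]))
  have := (subgroupNormalizer R).mul_mem ((subgroupNormalizer R).inv_mem hn.2) hng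
  rwa [inv_mul_cancel_left] at this

include C in
theorem conj_le {g r : GL ι F} (hg : g ∈ M) (hr : r ∈ R) : g * r * g⁻¹ ∈ M :=
  mul_mem (mul_mem hg (C.le hr)) (inv_mem hg)

include C in
theorem sq_conj (g : GL ι F) {r : GL ι F} (hr : r ∈ R) : g * r * g⁻¹ * (g * r * g⁻¹) ∈ scalars ι F := by
  rw [show g * r * g⁻¹ * (g * r * g⁻¹) = g * (r * r) * g⁻¹ by group, scalar_conj (C.symp.sq_mem hr)]
  exact C.symp.sq_mem hr

include C in
/-- Fixed elements of two commuting conjugates agree. -/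
theorem fixed_transfer {g r r' a s : GL ι F} (hg : g ∈ M) (hgn : g ∉ subgroupNormalizer R) (hr : r ∈ R)
    (hr1 : r ∉ scalars ι F) (hr' : r' ∈ R) (ha : a ∈ R) (ha1 : a ∉ scalars ι F) (hs : s ∈ R)
    (hra : PC (g * r' * g⁻¹) a) (hrs : PC (g * r * g⁻¹) s) : PC (g * r' * g⁻¹) s := by
  set y := g * r' * g⁻¹ with hy
  have hyN : y ∈ subgroupNormalizer R := C.cent y (C.conj_le hg hr') a ha ha1 hra
  have hsN : g⁻¹ * s * g ∈ subgroupNormalizer R := by
    refine C.cent _ (mul_mem (mul_mem (inv_mem hg) (C.le hs)) hg) r hr hr1 ?_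
    have := (hrs.symm).conj g⁻¹
    rwa [inv_inv, show g⁻¹ * (g * r * g⁻¹) * g = r by group] at this
  set c := y * s * y⁻¹ * s⁻¹ with hc
  have hc1 : c ∈ R := mul_mem ((Subgroup.mem_normalizer_iff.1 hyN s).1 hs) (inv_mem hs)
  have hc2 : g⁻¹ * c * g ∈ R := by
    rw [hc, hy, show g⁻¹ * (g * r' * g⁻¹ * s * (g * r' * g⁻¹)⁻¹ * s⁻¹) * g =
      r' * ((g⁻¹ * s * g) * r'⁻¹ * (g⁻¹ * s * g)⁻¹) by group]
    exact mul_mem hr' ((Subgroup.mem_normalizer_iff.1 hsN _).1 (inv_mem hr'))
  refine pc_of_scalar (C.symp.sq_mem hs) ?_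
  by_contra hcs
  refine hgn ?_
  have hgi : g⁻¹ ∈ subgroupNormalizer R := C.mem_of_conj_mem (inv_mem hg) hc1 hcs (by rwa [inv_inv])
  have := inv_mem hgi
  rwa [inv_inv] at this

include C in
/-- Weak closure. -/
theorem weak [Finite F] {g r a : GL ι F} (hg : g ∈ M) (hr : r ∈ R) (hr1 : r ∉ scalars ι F) (ha : a ∈ R)
    (ha1 : a ∉ scalars ι F) (hra : PC (g * r * g⁻¹) a) : g ∈ subgroupNormalizer R := by
  classical
  by_contra hgn
  have hgin : g⁻¹ ∉ subgroupNormalizer R := fun h => hgn (by have := inv_mem h; rwa [inv_inv] at this)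
  have flip : ∀ {r' s : GL ι F}, PC (g * r' * g⁻¹) s → PC (g⁻¹ * s * g⁻¹⁻¹) r' := fun {r' s} h => by
    have := h.symm.conj g⁻¹
    rw [inv_inv] at this ⊢
    rwa [show g⁻¹ * (g * r' * g⁻¹) * g = r' by group] at this
  -- the bound
  have bound : ∀ g ∈ M, g ∉ subgroupNormalizer R → ∀ r ∈ R, r ∉ scalars ι F → ∀ a ∈ R, a ∉ scalars ι F →
      PC (g * r * g⁻¹) a → (∃ t ∈ R, ¬ PC (g * r * g⁻¹) t) ∧ imageBar R (g * r * g⁻¹) ⊆ perpBar R (g * r * g⁻¹) ∧
      Nat.card ((fixedBy R (g⁻¹ * a * g)).map (bar : GL ι F →* _)) ≤ Nat.card (perpBar R (g * r * g⁻¹)) := by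
    intro g hg hgn r hr hr1 a ha ha1 hra
    set x := g * r * g⁻¹ with hx
    have hxN : x ∈ subgroupNormalizer R := C.cent x (C.conj_le hg hr) a ha ha1 hra
    have hxR : x ∉ R := fun h => hgn (C.mem_of_conj_mem hg hr hr1 h)
    have hperp : ∀ r' ∈ R, PC (g * r' * g⁻¹) a → r' ∉ scalars ι F → ∀ t ∈ R,
        bar (g * r' * g⁻¹ * t * (g * r' * g⁻¹)⁻¹ * t⁻¹) ∈ perpBar R x := by
      intro r' hr' hra' hr'1 t ht
      set y := g * r' * g⁻¹ with hy
      have hyN : y ∈ subgroupNormalizer R := C.cent y (C.conj_le hg hr') a ha ha1 hra'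
      set c := y * t * y⁻¹ * t⁻¹ with hc
      have hcR : c ∈ R := mul_mem ((Subgroup.mem_normalizer_iff.1 hyN t).1 ht) (inv_mem ht)
      have hyc : PC y c := by
        refine (C.symp.pc_iff hcR).2 ?_
        have e3 : bar y * bar y = 1 := by rw [← map_mul, bar_eq_one]; exact C.sq_conj g hr'
        have e5 := C.symp.bar_sq hcR
        simp only [hc, map_mul, map_inv] at e5 ⊢
        have e4 := C.symp.bar_comm ((Subgroup.mem_normalizer_iff.1 hyN t).1 ht) (inv_mem ht)
        simp only [map_mul, map_inv] at e4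
        rw [inv_eq_of_mul_eq_one_right e3] at e4 e5 ⊢
        have e6 : (bar t)⁻¹ = bar t := inv_eq_of_mul_eq_one_right (C.symp.bar_sq ht)
        rw [e6] at e4 e5 ⊢
        rw [show bar y * (bar y * bar t * bar y * bar t) * bar y = bar t * (bar y * bar t * bar y) by
          rw [← mul_assoc, ← mul_assoc, ← mul_assoc, e3, one_mul]; group, ← e4, inv_eq_of_mul_eq_one_right e5, e5]
      refine ⟨c, ⟨hcR, C.fixed_transfer hg hgn hr' hr'1 hr ha ha1 hcR hra hyc⟩, fun s hs => ?_, rfl⟩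
      have hys : PC y s := C.fixed_transfer hg hgn hr hr1 hr' ha ha1 hs.1 hra' hs.2
      rcases C.symp.sign t ht s hs.1 with e | e
      · have e' := commute_conj e y
        rcases hys.conj_mem with e1 | e1 <;> rw [e1] at e'
        · exact e'.mul_left e.inv_left
        · exact (Commute.neg_right_iff.1 e').mul_left e.inv_left
      · have e' := e.conj y
        rcases hys.conj_mem with e1 | e1 <;> rw [e1] at e'
        · exact (commute_of_ac_ac e'.symm e.inv_left.symm).symm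
        · have e'' : Ac (y * t * y⁻¹) s := by
            unfold Ac at e' ⊢
            rw [mul_neg, neg_mul, neg_neg] at e'
            exact neg_eq_iff_eq_neg.1 e'
          exact (commute_of_ac_ac e''.symm e.inv_left.symm).symm
    obtain ⟨t₀, ht₀, hxt⟩ : ∃ t ∈ R, ¬ PC x t := by
      by_contra! hc
      exact hxR (C.symp.mem_of_pc hc)
    refine ⟨⟨t₀, ht₀, hxt⟩, ?_, ?_⟩
    · rintro _ ⟨⟨t, ht⟩, rfl⟩
      exact hperp r hr hra hr1 t ht
    -- commutators with a fixed element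
    have hB : ∀ q ∈ ((fixedBy R (g⁻¹ * a * g)).map (bar : GL ι F →* _)), ∃ r' ∈ R, PC (g * r' * g⁻¹) a ∧ bar r' = q := by
      rintro _ ⟨r', ⟨hr', hpc⟩, rfl⟩
      refine ⟨r', hr', ?_, rfl⟩
      have := hpc.symm.conj g
      rwa [show g * (g⁻¹ * a * g) * g⁻¹ = a by group] at this
    choose r' hr'R hr'a hr'q using fun q : ((fixedBy R (g⁻¹ * a * g)).map (bar : GL ι F →* _)) => hB q.1 q.2
    let ψ : ((fixedBy R (g⁻¹ * a * g)).map (bar : GL ι F →* _)) → perpBar R x := fun q =>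
      ⟨bar (g * r' q * g⁻¹ * t₀ * (g * r' q * g⁻¹)⁻¹ * t₀⁻¹), by
        by_cases h1 : r' q ∈ scalars ι F
        · refine ⟨1, ⟨one_mem R, Or.inl (Commute.one_right x)⟩, fun s _ => Commute.one_left s, ?_⟩
          rw [scalar_conj h1 g, (commute_scalar h1 t₀).eq, mul_inv_cancel_right, mul_inv_cancel, map_one]
        · exact hperp _ (hr'R q) (hr'a q) h1 t₀ ht₀⟩
    refine Nat.card_le_card_of_injective ψ fun q q' e => ?_
    have e1 : bar (g * r' q * g⁻¹ * t₀ * (g * r' q * g⁻¹)⁻¹ * t₀⁻¹) =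
        bar (g * r' q' * g⁻¹ * t₀ * (g * r' q' * g⁻¹)⁻¹ * t₀⁻¹) := congrArg Subtype.val e
    have hd : (r' q')⁻¹ * r' q ∈ R := mul_mem (inv_mem (hr'R q')) (hr'R q)
    have hsc : (r' q')⁻¹ * r' q ∈ scalars ι F := by
      by_contra hns
      refine hxt (C.fixed_transfer hg hgn hd hns hr ha ha1 ht₀ hra ((C.symp.pc_iff ht₀).2 ?_))
      simp only [map_mul, map_inv, _root_.mul_inv_rev, inv_inv] at e1 ⊢
      calc bar g * ((bar (r' q'))⁻¹ * bar (r' q)) * (bar g)⁻¹ * bar t₀ *
            (bar g * ((bar (r' q))⁻¹ * bar (r' q') * (bar g)⁻¹)) * (bar t₀)⁻¹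
          = (bar g * bar (r' q') * (bar g)⁻¹)⁻¹ *
              (bar g * bar (r' q) * (bar g)⁻¹ * bar t₀ * (bar g * ((bar (r' q))⁻¹ * (bar g)⁻¹)) * (bar t₀)⁻¹) *
              (bar t₀ * (bar g * bar (r' q') * (bar g)⁻¹) * (bar t₀)⁻¹) := by group
        _ = 1 := by rw [e1]; group
    refine Subtype.ext ?_
    rw [← hr'q q, ← hr'q q']
    have := bar_eq_one.2 hsc
    rw [map_mul, map_inv, inv_mul_eq_one] at this
    exact this.symm
  -- both sides
  obtain ⟨-, hsub, hb⟩ := bound g hg hgn r hr hr1 a ha ha1 hra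
  set x := g * r * g⁻¹ with hx
  have hxN : x ∈ subgroupNormalizer R := C.cent x (C.conj_le hg hr) a ha ha1 hra
  obtain ⟨-, -, hb'⟩ := bound g⁻¹ (inv_mem hg) hgin a ha ha1 r hr hr1 (flip hra)
  rw [inv_inv] at hb'
  have hperp_le : ∀ z : GL ι F, perpBar R z ⊆ ((fixedBy R z).map (bar : GL ι F →* _) : Set _) := by
    rintro z _ ⟨c, hc, -, rfl⟩
    exact ⟨c, hc, rfl⟩
  have hI : imageBar R x = ((fixedBy R x).map (bar : GL ι F →* _) : Set _) := by
    have h1 := C.symp.card_perp_le hxN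
    have h2 := Nat.card_mono (Set.toFinite _) hsub
    have h3 := Nat.card_mono (Set.toFinite _) (hperp_le (g⁻¹ * a * g))
    have e1 : imageBar R x = perpBar R x := Set.eq_of_subset_of_ncard_le hsub
      (by rw [← Nat.card_coe_set_eq, ← Nat.card_coe_set_eq]; exact h1) (Set.toFinite _)
    rw [e1]
    refine Set.eq_of_subset_of_ncard_le (hperp_le x) ?_ (Set.toFinite _)
    rw [← Nat.card_coe_set_eq, ← Nat.card_coe_set_eq]
    exact hb'.trans (h3.trans hb)
  -- a second conjugate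
  have hyN : g⁻¹ * a * g ∈ subgroupNormalizer R := by
    refine C.cent _ (by simpa using C.conj_le (inv_mem hg) ha) r hr hr1 ?_
    have := flip hra
    rwa [inv_inv] at this
  obtain ⟨r₂, hr₂, hr₂1, hr₂2, hr₂a⟩ := C.symp.exists_fixed C.big hyN
    (by simpa using C.sq_conj g⁻¹ ha) hr hr1
  have hra₂ : PC (g * r₂ * g⁻¹) a := by
    have := hr₂a.symm.conj g
    rwa [show g * (g⁻¹ * a * g) * g⁻¹ = a by group] at this
  -- exact commutation with the fixed elements
  have spread : ∀ r₁ ∈ R, r₁ ∉ scalars ι F → ∀ r₃ ∈ R, PC (g * r₃ * g⁻¹) a → ∀ u ∈ R,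
      PC (g * r₁ * g⁻¹) u → Commute (g * r₁ * g⁻¹) u → Commute (g * r₃ * g⁻¹) u := by
    intro r₁ hr₁ hr₁1 r₃ hr₃ h₃a u hu h₁u h₁c
    have h₃u : PC (g * r₃ * g⁻¹) u := C.fixed_transfer hg hgn hr₁ hr₁1 hr₃ ha ha1 hu h₃a h₁u
    refine h₃u.resolve_right fun hac => ?_
    have hu1 : u ∉ scalars ι F := (C.symp.not_ac_scalar hac).2
    obtain ⟨c, hc, huR, huu, hcom, hacm⟩ := C.symp.normed_props hu
    set T := SympNorm.tv C.symp.two _ huu with hT
    have hTM : T ∈ M := C.tv _ huR huu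
    have hTN : g⁻¹ * T * g ∈ subgroupNormalizer R := by
      refine C.cent _ (mul_mem (mul_mem (inv_mem hg) hTM) hg) r₁ hr₁ hr₁1 ?_
      have hT1 : Commute T (g * r₁ * g⁻¹) := tv_commute C.symp.two huu (hcom _ h₁c)
      have := commute_conj hT1 g⁻¹
      rw [inv_inv, show g⁻¹ * (g * r₁ * g⁻¹) * g = r₁ by group] at this
      exact Or.inl this
    have h1 := (Subgroup.mem_normalizer_iff.1 hTN r₃).1 hr₃
    have h2 : T * (g * r₃ * g⁻¹) * T⁻¹ = -(g * r₃ * g⁻¹ * (c * u)) := tv_ac C.symp.two huu (hacm _ hac)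
    have h3 : g⁻¹ * (c * u) * g⁻¹⁻¹ ∈ R := by
      rw [show g⁻¹ * T * g * r₃ * (g⁻¹ * T * g)⁻¹ = g⁻¹ * (T * (g * r₃ * g⁻¹) * T⁻¹) * g by group, h2] at h1
      have h4 := mul_mem (inv_mem hr₃) (C.symp.neg_mem h1)
      simp only [mul_neg, neg_mul, neg_neg] at h4
      rw [show r₃⁻¹ * (g⁻¹ * (g * r₃ * g⁻¹ * (c * u)) * g) = g⁻¹ * (c * u) * g by group] at h4
      rwa [inv_inv]
    exact hgin (C.mem_of_conj_mem (inv_mem hg) huR (fun e => hu1 (by
      have := mul_mem (inv_mem hc) e; rwa [inv_mul_cancel_left] at this)) h3)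
  have hcomA : ∀ u ∈ R, PC x u → Commute x u := by
    intro u hu hxu
    refine hxu.resolve_right fun hac => ?_
    have h2u : Ac (g * r₂ * g⁻¹) u := (C.fixed_transfer hg hgn hr hr1 hr₂ ha ha1 hu hra₂ hxu).resolve_left fun hc2 =>
      C.symp.not_both (spread r₂ hr₂ hr₂1 r hr hra u hu (Or.inl hc2) hc2) hac
    have h21 : r₂ * r⁻¹ ∈ R := mul_mem hr₂ (inv_mem hr)
    have hc21 : Commute (g * (r₂ * r⁻¹) * g⁻¹) u := by
      rw [show g * (r₂ * r⁻¹) * g⁻¹ = g * r₂ * g⁻¹ * x⁻¹ by rw [hx]; group]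
      exact (commute_of_ac_ac h2u.symm hac.inv_left.symm).symm
    exact C.symp.not_both (spread _ h21 hr₂2 r hr hra u hu (Or.inl hc21) hc21) hac
  -- the trace
  have hzero : (x : Matrix ι ι F) = 0 := by
    refine C.symp.eq_zero_of_trace fun s hs => ?_
    by_cases hxs : PC x s
    · have hq : bar s ∈ imageBar R x := by rw [hI]; exact ⟨s, ⟨hs, hxs⟩, rfl⟩
      obtain ⟨⟨t, ht⟩, e⟩ := hq
      obtain ⟨d, hd⟩ := (mem_scalars_iff _).1 (bar_eq_iff.1 e.symm)
      obtain ⟨d', hd'⟩ := (mem_scalars_iff _).1 (C.sq_conj g hr)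
      obtain ⟨d'', hd''⟩ := (mem_scalars_iff _).1 (inv_mem (C.sq_conj g hr))
      have e2 : x * s = (s * (x * t * x⁻¹ * t⁻¹)⁻¹) * (x * x) * (t * x⁻¹ * t⁻¹) := by
        have hc := commute_scalar (bar_eq_iff.1 e.symm) x
        calc x * s = x * (s * (x * t * x⁻¹ * t⁻¹)⁻¹) * (x * t * x⁻¹ * t⁻¹) := by group
          _ = _ := by rw [← hc.eq]; group
      have e3 : (x⁻¹ : GL ι F) = (x * x)⁻¹ * x := by group
      show (((x : GL ι F) : Matrix ι ι F) * (s : Matrix ι ι F)).trace = 0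
      rw [← Units.val_mul, e2, Units.val_mul, Units.val_mul, hd, hd', Units.val_mul, Units.val_mul]
      simp only [smul_mul_assoc, one_mul, trace_smul]
      rw [trace_mul_cycle, Units.inv_mul, one_mul, e3, Units.val_mul, hd'', smul_mul_assoc, one_mul, trace_smul, hx,
        Units.val_mul, Units.val_mul, trace_mul_cycle, Units.inv_mul, one_mul, C.symp.trace_zero hr hr1]
      simp
    · obtain ⟨u, hu, hxu, hsu⟩ : ∃ u ∈ R, PC x u ∧ Ac s u := by
        by_contra! hc
        refine hxs ?_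
        have hxs' : x * s * x⁻¹ * s⁻¹ ∈ scalars ι F := by
          refine C.symp.scalar_of_commute fun t ht => ?_
          have hcR : x⁻¹ * t * x * t⁻¹ ∈ R := by
            have := (Subgroup.mem_normalizer_iff.1 (inv_mem hxN) t).1 ht
            rw [inv_inv] at this
            exact mul_mem this (inv_mem ht)
          obtain ⟨c, ⟨hcf, hxc⟩, hc'⟩ : bar (x⁻¹ * t * x * t⁻¹) ∈ ((fixedBy R x).map (bar : GL ι F →* _) : Set _) := by
            rw [← hI]
            refine ⟨⟨t, ht⟩, ?_⟩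
            have e3 : bar x * bar x = 1 := by rw [← map_mul, bar_eq_one]; exact C.sq_conj g hr
            simp only [map_mul, map_inv, inv_eq_of_mul_eq_one_right e3]
          have hsc : Commute s c := (C.symp.sign s hs c hcf).resolve_right (hc c hcf hxc)
          have hscc : Commute s (x⁻¹ * t * x * t⁻¹) := by
            have := bar_eq_iff.1 hc'.symm
            have h5 := (commute_scalar this s).symm.mul_right hsc
            rwa [show x⁻¹ * t * x * t⁻¹ * c⁻¹ * c = x⁻¹ * t * x * t⁻¹ by group] at h5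
          rcases C.symp.sign s hs t ht with e | e
          · have := commute_conj (hscc.mul_right e) x
            rw [show x * (x⁻¹ * t * x * t⁻¹ * t) * x⁻¹ = t by group] at this
            exact this.mul_left e.inv_left
          · have := (Ac.mul_right' hscc e).conj x
            rw [show x * (x⁻¹ * t * x * t⁻¹ * t) * x⁻¹ = t by group] at this
            exact (commute_of_ac_ac this.symm e.inv_left.symm).symm
        exact pc_of_scalar (C.symp.sq_mem hs) hxs'
      have hac : Ac (x * s) u := Ac.mul_left' (hcomA u hu hxu) hsu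
      have e := congrArg (fun Z : GL ι F => (Z : Matrix ι ι F).trace) hac.symm.conj_eq
      simp only [Units.val_mul, Units.val_neg, trace_neg] at e
      rw [trace_mul_cycle, Units.inv_mul, one_mul] at e
      exact (mul_eq_zero.1 (show (2 : F) * ((x : Matrix ι ι F) * (s : Matrix ι ι F)).trace = 0 by
        linear_combination e)).resolve_left C.symp.two
  haveI := C.symp.nonempty
  have := Units.mul_inv x
  rw [hzero, zero_mul] at this
  exact zero_ne_one this

include C in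
/-- A conjugate of an element of `R` lying in the normaliser lies in `R`. -/
theorem extended [Finite F] {g r : GL ι F} (hg : g ∈ M) (hr : r ∈ R) (hr1 : r ∉ scalars ι F)
    (hN : g * r * g⁻¹ ∈ subgroupNormalizer R) : g ∈ subgroupNormalizer R := by
  obtain ⟨t, ht, ht1, -, hpc⟩ := C.symp.exists_fixed C.big hN (C.sq_conj g hr) hr hr1
  exact C.weak hg hr hr1 ht ht1 hpc

end Ctx

end CfsgLib.Geo.SympNorm
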