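import Cfsg.Agent.Lib.Geo.SympNorm.Linear
import Cfsg.Agent.Lib.Geo.SympNorm.Apply

/-!
# Normalisers of symplectic-type two-groups are maximal in `SL`
-/

set_option autoImplicit false

namespace CfsgLib.Geo.SympNorm

open Matrix Cfsg.Geo
open scoped commutatorElement

variable {F : Type*} [Field F] [Fintype F]

/-- Maximality in dimension `2^m`, `m ≥ 3`. -/
theorem isMaximalIn_linear (hp : (Fintype.card F).Prime) (h4p : Fintype.card F % 4 = 1) {n m : ℕ} (hm : 3 ≤ m)
    (hn : n = 2 ^ m) {R : Subgroup (GL (Fin n) F)} (hR : IsLinearSymplecticTypeData 2 R) :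
    Cfsg.Geo.IsMaximalIn (specialLinear (Fin n) F) (subgroupNormalizer R ⊓ specialLinear (Fin n) F) := by
  classical
  have hn8 : 8 ≤ n := by
    rw [hn]
    calc 8 = 2 ^ 3 := rfl
      _ ≤ _ := Nat.pow_le_pow_right two_pos hm
  have h2 : (2 : F) ≠ 0 := fun e => by
    haveI : CharP F 2 := CharTwo.of_one_ne_zero_of_two_eq_zero one_ne_zero e
    have := FiniteField.even_card_iff_char_two.1 (ringChar.eq F 2)
    omega
  obtain ⟨i, hi⟩ : ∃ i : F, i * i = -1 := by
    obtain ⟨i, hi⟩ : IsSquare (-1 : F) := FiniteField.isSquare_neg_one_iff.2 (by omega)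
    exact ⟨i, hi.symm⟩
  have hnF : (Fintype.card (Fin n) : F) ≠ 0 := by
    rw [Fintype.card_fin, hn, Nat.cast_pow, Nat.cast_two]
    exact pow_ne_zero _ h2
  have h2c : 2 ≤ Fintype.card (Fin n) := by rw [Fintype.card_fin]; omega
  have hZ : Nat.card (Subgroup.center R) = 4 := by
    obtain ⟨p, e, -, -, h | h | h⟩ := hR.field
    · exact absurd h.1 (by decide)
    · exact h.2.2.1
    · obtain ⟨-, -, hc, -⟩ := h; rw [Fintype.card_fin] at hc; omega
  set R' := R ⊔ scalars (Fin n) F with hR'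
  have h : IsSymp R' := isSymp_of_type h2 hnF h2c ⟨i, hi⟩ hR.symplecticType hR.absIrred
  have hN := normalizer_sup_scalars h2 h2c hR.symplecticType hR.absIrred hZ
  have hbig : 3 ≤ Fintype.card (Fin n) := by rw [Fintype.card_fin]; omega
  refine ⟨lt_of_le_of_ne inf_le_right fun e =>
    CfsgLib.Geo.Asch.not_le_symplecticNormalizer hbig hR (e.ge.trans inf_le_left), fun M hM hMS => ?_⟩
  set M' := M ⊔ scalars (Fin n) F with hM'
  have hinN : ∀ {g : GL (Fin n) F}, g ∈ subgroupNormalizer R' → g ∈ specialLinear (Fin n) F → g ∈ M :=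
    fun hg hgS => hM ⟨hN ▸ hg, hgS⟩
  have hle : R' ≤ M' := by
    intro x hx
    by_cases hx1 : x ∈ scalars (Fin n) F
    · exact Subgroup.mem_sup_right hx1
    obtain ⟨c, hc, hcx, hcc, -, -⟩ := h.normed_props hx
    have hcx1 : c * x ∉ scalars (Fin n) F := fun e => hx1 (by
      have := mul_mem (inv_mem hc) e; rwa [inv_mul_cancel_left] at this)
    have h1 : c * x ∈ M := hinN (Subgroup.le_normalizer hcx) (h.mem_specialLinear hcx hcc hcx1)
    rw [show x = c⁻¹ * (c * x) by group]
    exact mul_mem (Subgroup.mem_sup_right (inv_mem hc)) (Subgroup.mem_sup_left h1)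
  have hT : h.HasTv M' := by
    intro x hx hxx
    by_cases hx1 : x ∈ scalars (Fin n) F
    · obtain ⟨d, hd⟩ := (mem_scalars_iff x).1 hx1
      refine Subgroup.mem_sup_right ((mem_scalars_iff _).2 ?_)
      have hd1 : (1 : F) + d ≠ 0 := fun e => by
        haveI : Nonempty (Fin n) := ⟨⟨0, by omega⟩⟩
        have := congrArg (fun g : GL (Fin n) F => (g : Matrix (Fin n) (Fin n) F) ⟨0, by omega⟩ ⟨0, by omega⟩) hxx
        simp [hd] at this
        exact h2 (by linear_combination this + (1 - (d : F)) * e)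
      exact ⟨Units.mk0 _ hd1, by
        show 1 + (x : Matrix (Fin n) (Fin n) F) = _
        rw [hd, Units.val_mk0, add_smul, one_smul]⟩
    set l : F := (1 + i) * (2 : F)⁻¹ with hl
    have hll : l * l * 2 = i := by rw [hl]; field_simp; linear_combination hi
    have hl0 : l ≠ 0 := fun e => by rw [e] at hll; simp at hll; rw [← hll] at hi; simp at hi
    have hS : sc l hl0 * tv h.two x hxx ∈ specialLinear (Fin n) F := by
      refine MonoidHom.mem_ker.2 (Units.ext ?_)
      rw [Matrix.GeneralLinearGroup.val_det_apply, Units.val_mul]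
      show (l • (1 : Matrix (Fin n) (Fin n) F) * _).det = 1
      rw [smul_mul_assoc, one_mul, det_smul, h.det_tv hbig hx hxx hx1, Fintype.card_fin]
      obtain ⟨j, hj⟩ : 8 ∣ n := hn ▸ pow_dvd_pow 2 hm
      rw [show n / 2 = 4 * j by omega, show n = 4 * j + 4 * j by omega, pow_add, mul_assoc, ← mul_pow, ← mul_pow,
        ← mul_assoc, hll, pow_mul, show i ^ 4 = 1 by linear_combination (i * i - 1) * hi, one_pow]
    have h1 : sc l hl0 * tv h.two x hxx ∈ M :=
      hinN (mul_mem (h.scalars_le (sc_mem _ _)) (tv_mem_normalizer hxx h.toIsPre hx)) hS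
    rw [show tv h.two x hxx = (sc l hl0)⁻¹ * (sc l hl0 * tv h.two x hxx) by group]
    exact mul_mem (Subgroup.mem_sup_right (inv_mem (sc_mem _ _))) (Subgroup.mem_sup_left h1)
  rcases linear_dichotomy hp (m := m) (by omega) hn h hle hT with hNM | hSM
  · exact Or.inl (le_antisymm (fun g hg => ⟨hN ▸ hNM (Subgroup.mem_sup_left hg), hMS hg⟩) hM)
  refine Or.inr (le_antisymm hMS ?_)
  have hperf : specialLinear (Fin n) F ≤ ⁅specialLinear (Fin n) F, specialLinear (Fin n) F⁆ := by
    intro g hg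
    let g' : SpecialLinearGroup (Fin n) F :=
      ⟨(g : Matrix (Fin n) (Fin n) F), congrArg Units.val (MonoidHom.mem_ker.1 hg)⟩
    have h1 : g' ∈ commutator (SpecialLinearGroup (Fin n) F) := by
      rw [CfsgLib.Classical.commutator_SL_eq_top (by omega)]; exact Subgroup.mem_top _
    have h2' := Subgroup.mem_map_of_mem
      (SpecialLinearGroup.toGL : SpecialLinearGroup (Fin n) F →* GL (Fin n) F) h1
    rw [commutator_def, Subgroup.map_commutator] at h2'
    rw [show g = SpecialLinearGroup.toGL g' from Units.ext rfl]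
    refine Subgroup.commutator_mono ?_ ?_ h2' <;>
      (rintro _ ⟨s, -, rfl⟩; exact MonoidHom.mem_ker.2 (Units.ext s.2))
  refine hperf.trans ((Subgroup.commutator_mono hSM hSM).trans (Subgroup.commutator_le.2 fun a ha b hb => ?_))
  obtain ⟨a', ha', c, hc, rfl⟩ := Subgroup.mem_sup_of_normal_right.1 ha
  obtain ⟨b', hb', d, hd, rfl⟩ := Subgroup.mem_sup_of_normal_right.1 hb
  have e : ⁅a' * c, b' * d⁆ = ⁅a', b'⁆ := by
    simp only [commutatorElement_def, _root_.mul_inv_rev]
    rw [show a' * c * (b' * d) * (c⁻¹ * a'⁻¹) * (d⁻¹ * b'⁻¹) =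
      a' * (c * (b' * d) * c⁻¹) * a'⁻¹ * (d⁻¹ * b'⁻¹) by group, (commute_scalar hc _).eq, mul_inv_cancel_right,
      show a' * (b' * d) * a'⁻¹ * (d⁻¹ * b'⁻¹) = a' * b' * (d * a'⁻¹ * d⁻¹) * b'⁻¹ by group,
      (commute_scalar hd _).eq, mul_inv_cancel_right]
  rw [e, commutatorElement_def]
  exact mul_mem (mul_mem (mul_mem ha' hb') (inv_mem ha')) (inv_mem hb')

end CfsgLib.Geo.SympNorm
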