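import Cfsg.Agent.Lib.Geo.SympNorm.SpForm

/-!
# Extraspecial two-groups of minus type in symplectic groups: counting, transitivity, coordinates
-/

set_option autoImplicit false
set_option linter.unusedSectionVars false

namespace CfsgLib.Geo.SympNorm

open Matrix Cfsg.Geo

variable {ι κ : Type} [Fintype ι] [DecidableEq ι] [Fintype κ] [DecidableEq κ] {F : Type*} [Field F]

/-- An extraspecial two-group of minus type and order `2 ^ (1 + 2 * k)` of isometries. -/
structure IsSp (Γ : Matrix ι ι F) (k : ℕ) (R : Subgroup (GL ι F)) : Prop where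
  two : (2 : F) ≠ 0
  gram : IsAltGram Γ
  le : R ≤ isoGL Γ
  neg_one_mem : (-1 : GL ι F) ∈ R
  sign : ∀ x ∈ R, ∀ y ∈ R, PC x y
  sq : ∀ x ∈ R, x * x = 1 ∨ x * x = -1
  span : Submodule.span F (matrixSet R) = ⊤
  dim : Fintype.card ι = 2 ^ k
  card : Nat.card R = 2 ^ (1 + 2 * k)
  minus : ∀ A : Subgroup (GL ι F), A ≤ R → (∀ x ∈ A, ∀ y ∈ A, Commute x y) → (∀ x ∈ A, x * x = 1) →
    Nat.card A < 2 ^ (k + 1)

/-- The centraliser inside a subgroup. -/
def cenIn (D : Subgroup (GL ι F)) (x : GL ι F) : Subgroup (GL ι F) := D ⊓ Subgroup.centralizer {x}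

theorem mem_cenIn {D : Subgroup (GL ι F)} {x t : GL ι F} : t ∈ cenIn D x ↔ t ∈ D ∧ Commute t x :=
  Iff.and Iff.rfl Subgroup.mem_centralizer_singleton_iff

theorem cenIn_le (D : Subgroup (GL ι F)) (x : GL ι F) : cenIn D x ≤ D := inf_le_left

theorem Ac.sq_mul {x y : GL ι F} (h : Ac x y) : x * y * (x * y) = -(x * x * (y * y)) := by
  rw [show x * y * (x * y) = x * (y * x) * y by group, show y * x = -(x * y) from h.symm, mul_neg, neg_mul]
  group

theorem commute_sq_mul {x y : GL ι F} (h : Commute x y) : x * y * (x * y) = x * x * (y * y) := by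
  rw [show x * y * (x * y) = x * (y * x) * y by group, ← h.eq]; group

namespace IsSp

variable {Γ : Matrix ι ι F} {k : ℕ} {R : Subgroup (GL ι F)} (h : IsSp Γ k R)

include h

theorem pre : IsPre R where
  two := h.two
  card_ne := by rw [h.dim, Nat.cast_pow, Nat.cast_two]; exact pow_ne_zero _ h.two
  neg_one_mem := h.neg_one_mem
  sign := h.sign
  sq_mem := fun {x} hx => by
    rcases h.sq x hx with e | e <;> rw [e]
    exacts [one_mem _, neg_mem_scalars (one_mem _)]
  span := h.span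

theorem finite : Finite R := Nat.finite_of_card_ne_zero (by rw [h.card]; positivity)

theorem neg_one_ne : (-1 : GL ι F) ≠ 1 := fun e => by
  haveI := h.pre.nonempty
  obtain ⟨i⟩ := ‹Nonempty ι›
  have := congrArg (fun g : GL ι F => (g : Matrix ι ι F) i i) e
  simp at this
  exact h.two (by linear_combination -this)

theorem neg_mem {x : GL ι F} (hx : x ∈ R) : -x ∈ R := h.pre.neg_mem hx

theorem eq_or_neg {c : GL ι F} (hc : c ∈ scalars ι F) (hi : c ∈ isoGL Γ) : c = 1 ∨ c = -1 := by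
  haveI := h.pre.nonempty
  obtain ⟨d, hd⟩ := (mem_scalars_iff c).1 hc
  have e := mem_isoGL.1 hi
  rw [hd, transpose_smul, transpose_one, Matrix.smul_mul, Matrix.one_mul, Matrix.mul_smul, Matrix.mul_one,
    smul_smul] at e
  have hΓ0 : Γ ≠ 0 := fun e0 => h.gram.unit.ne_zero (by rw [e0, det_zero])
  have e1 : (d : F) * d = 1 := smul_left_injective F hΓ0 (e.trans (one_smul F Γ).symm)
  rcases mul_self_eq_one_iff.1 e1 with e2 | e2
  · exact Or.inl (Units.ext (by rw [hd, e2, one_smul, Units.val_one]))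
  · exact Or.inr (Units.ext (by rw [hd, e2, neg_smul, one_smul, Units.val_neg, Units.val_one]))

theorem mem_of_scalar {c x : GL ι F} (hc : c ∈ scalars ι F) (hx : x ∈ R) (hi : c * x ∈ isoGL Γ) : c * x ∈ R := by
  have : c ∈ isoGL Γ := by
    have := mul_mem hi (inv_mem (h.le hx)); rwa [mul_inv_cancel_right] at this
  rcases h.eq_or_neg hc this with e | e <;> rw [e]
  · rwa [one_mul]
  · rw [neg_one_mul]; exact h.neg_mem hx

theorem eq_or_neg_of_scalar {x y : GL ι F} (hx : x ∈ R) (hy : y ∈ R) (e : x * y⁻¹ ∈ scalars ι F) : x = y ∨ x = -y := by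
  rcases h.eq_or_neg e (h.le (mul_mem hx (inv_mem hy))) with e' | e'
  · exact Or.inl (mul_inv_eq_one.1 e')
  · exact Or.inr (by rw [mul_inv_eq_iff_eq_mul.1 e', neg_one_mul])

theorem sq_eq_of_scalar {x y : GL ι F} (hx : x ∈ R) (hy : y ∈ R) (e : x * y⁻¹ ∈ scalars ι F) : x * x = y * y := by
  rcases h.eq_or_neg_of_scalar hx hy e with rfl | rfl
  · rfl
  · rw [neg_mul_neg]

theorem not_scalar_of_nons {x : GL ι F} (hx : x ∈ R) (e : x * x = -1) : x ∉ scalars ι F := fun hs => by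
  rcases h.eq_or_neg hs (h.le hx) with rfl | rfl <;> simp at e <;> exact h.neg_one_ne e.symm

/-- Halving. -/
theorem card_le_cenIn {D : Subgroup (GL ι F)} (hD : D ≤ R) {x : GL ι F} (hx : x ∈ R) :
    Nat.card D ≤ 2 * Nat.card (cenIn D x) := by
  classical
  haveI := h.finite
  haveI : Finite D := Finite.of_injective (Subgroup.inclusion hD) (Subgroup.inclusion_injective hD)
  haveI : Finite (cenIn D x) :=
    Finite.of_injective (Subgroup.inclusion (cenIn_le D x)) (Subgroup.inclusion_injective _)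
  by_cases hall : ∀ t ∈ D, Commute t x
  · rw [show cenIn D x = D from le_antisymm (cenIn_le D x) fun t ht => mem_cenIn.2 ⟨ht, hall t ht⟩]
    omega
  push Not at hall
  obtain ⟨t₀, ht₀, hne⟩ := hall
  have hac : Ac t₀ x := (h.sign t₀ (hD ht₀) x hx).resolve_left hne
  let f : D → Bool × cenIn D x := fun t =>
    if hc : Commute (t : GL ι F) x then (true, ⟨t, mem_cenIn.2 ⟨t.2, hc⟩⟩)
    else (false, ⟨t₀ * t, mem_cenIn.2 ⟨mul_mem ht₀ t.2,
      (commute_of_ac_ac hac.symm ((h.sign _ (hD t.2) x hx).resolve_left hc).symm).symm⟩⟩)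
  have hf : Function.Injective f := by
    intro s t e
    by_cases hs : Commute (s : GL ι F) x <;> by_cases ht : Commute (t : GL ι F) x <;> simp [f, hs, ht] at e
    · exact e
    · exact e
  have := Nat.card_le_card_of_injective f hf
  simpa [Nat.card_prod] using this

theorem card_cen₁ {x : GL ι F} (hx : x ∈ R) : 2 ^ (2 * k) ≤ Nat.card (cenIn R x) := by
  have := h.card_le_cenIn le_rfl hx
  rw [h.card, show 1 + 2 * k = 2 * k + 1 by omega, pow_succ] at this
  omega

theorem card_cen₂ {x y : GL ι F} (hx : x ∈ R) (hy : y ∈ R) :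
    2 ^ (2 * k) ≤ 2 * Nat.card (cenIn (cenIn R x) y) :=
  (h.card_cen₁ hx).trans (h.card_le_cenIn (cenIn_le R x) hy)

theorem card_cen₃ {x y z : GL ι F} (hx : x ∈ R) (hy : y ∈ R) (hz : z ∈ R) :
    2 ^ (2 * k) ≤ 4 * Nat.card (cenIn (cenIn (cenIn R x) y) z) := by
  have h1 := h.card_cen₂ hx hy
  have h2 := h.card_le_cenIn ((cenIn_le (cenIn R x) y).trans (cenIn_le R x)) hz
  omega

/-- A large subgroup contains an element of square minus one. -/
theorem exists_nons {D : Subgroup (GL ι F)} (hD : D ≤ R) (hc : 2 ^ (k + 1) ≤ Nat.card D) :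
    ∃ t ∈ D, t * t = -1 := by
  by_contra! hall
  have hsq : ∀ t ∈ D, t * t = 1 := fun t ht => (h.sq t (hD ht)).resolve_right (hall t ht)
  refine (h.minus D hD (fun x hx y hy => (h.sign x (hD hx) y (hD hy)).resolve_right fun hac => ?_) hsq).not_ge hc
  have e := hsq _ (mul_mem hx hy)
  rw [hac.sq_mul, hsq x hx, hsq y hy, mul_one] at e
  exact h.neg_one_ne e

theorem exists_nons₁ (hk : 1 ≤ k) {x : GL ι F} (hx : x ∈ R) : ∃ t ∈ R, t * t = -1 ∧ Commute t x := by
  obtain ⟨t, ht, e⟩ := h.exists_nons (cenIn_le R x)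
    ((Nat.pow_le_pow_right two_pos (by omega)).trans (h.card_cen₁ hx))
  exact ⟨t, (mem_cenIn.1 ht).1, e, (mem_cenIn.1 ht).2⟩

theorem exists_nons₂ (hk : 2 ≤ k) {x y : GL ι F} (hx : x ∈ R) (hy : y ∈ R) :
    ∃ t ∈ R, t * t = -1 ∧ Commute t x ∧ Commute t y := by
  obtain ⟨t, ht, e⟩ := h.exists_nons ((cenIn_le (cenIn R x) y).trans (cenIn_le R x)) (by
    have h1 := h.card_cen₂ hx hy
    have h2 : 2 ^ (k + 1 + 1) ≤ 2 ^ (2 * k) := Nat.pow_le_pow_right two_pos (by omega)
    rw [pow_succ] at h2; omega)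
  obtain ⟨h1, h2⟩ := mem_cenIn.1 ht
  exact ⟨t, (mem_cenIn.1 h1).1, e, (mem_cenIn.1 h1).2, h2⟩

theorem exists_nons₃ (hk : 3 ≤ k) {x y z : GL ι F} (hx : x ∈ R) (hy : y ∈ R) (hz : z ∈ R) :
    ∃ t ∈ R, t * t = -1 ∧ Commute t x ∧ Commute t y ∧ Commute t z := by
  obtain ⟨t, ht, e⟩ := h.exists_nons
    (((cenIn_le _ z).trans (cenIn_le (cenIn R x) y)).trans (cenIn_le R x)) (by
    have h1 := h.card_cen₃ hx hy hz
    have h2 : 2 ^ (k + 1 + 2) ≤ 2 ^ (2 * k) := Nat.pow_le_pow_right two_pos (by omega)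
    rw [pow_succ, pow_succ] at h2; omega)
  obtain ⟨h1, h3⟩ := mem_cenIn.1 ht
  obtain ⟨h1, h2⟩ := mem_cenIn.1 h1
  exact ⟨t, (mem_cenIn.1 h1).1, e, (mem_cenIn.1 h1).2, h2, h3⟩

/-- More than two elements include a non-scalar. -/
theorem exists_not_scalar {D : Subgroup (GL ι F)} (hD : D ≤ R) (hc : 2 < Nat.card D) :
    ∃ t ∈ D, t ∉ scalars ι F := by
  classical
  by_contra! hall
  have hsub : (D : Set (GL ι F)) ⊆ (({1, -1} : Finset (GL ι F)) : Set (GL ι F)) := fun t ht => by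
    simpa using h.eq_or_neg (hall t ht) (h.le (hD ht))
  have h1 := Set.ncard_le_ncard hsub (Finset.finite_toSet _)
  rw [← Nat.card_coe_set_eq, Set.ncard_coe_finset] at h1
  have h2 : ({1, -1} : Finset (GL ι F)).card ≤ 2 := Finset.card_le_two
  exact absurd (h1.trans h2) (by simpa using hc)

/-- More than four elements leave `⟨-1, x⟩`. -/
theorem exists_not_pair {D : Subgroup (GL ι F)} (hD : D ≤ R) (hc : 4 < Nat.card D) {x : GL ι F} (hx : x ∈ R) :
    ∃ t ∈ D, t ∉ scalars ι F ∧ t * x⁻¹ ∉ scalars ι F := by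
  classical
  by_contra! hall
  have hsub : (D : Set (GL ι F)) ⊆ (({1, -1, x, -x} : Finset (GL ι F)) : Set (GL ι F)) := fun t ht => by
    by_cases hts : t ∈ scalars ι F
    · rcases h.eq_or_neg hts (h.le (hD ht)) with e | e <;> simp [e]
    · rcases h.eq_or_neg_of_scalar (hD ht) hx (hall t ht hts) with e | e <;> simp [e]
  have h1 := Set.ncard_le_ncard hsub (Finset.finite_toSet _)
  rw [← Nat.card_coe_set_eq, Set.ncard_coe_finset] at h1
  have h2 : ({1, -1, x, -x} : Finset (GL ι F)).card ≤ 4 := Finset.card_le_four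
  exact absurd (h1.trans h2) (by simpa using hc)

/-- A non-scalar involution commuting with a given element. -/
theorem exists_sing (hk : 2 ≤ k) {x : GL ι F} (hx : x ∈ R) :
    ∃ a ∈ R, a * a = 1 ∧ a ∉ scalars ι F ∧ Commute a x := by
  have h4 : 4 < 2 ^ (2 * k) :=
    lt_of_lt_of_le (show 4 < 2 ^ 4 by norm_num) (Nat.pow_le_pow_right two_pos (by omega))
  rcases h.sq x hx with e | e
  · by_cases hx1 : x ∈ scalars ι F
    · obtain ⟨r, hr, er⟩ := h.exists_nons le_rfl (by rw [h.card]; exact Nat.pow_le_pow_right two_pos (by omega))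
      obtain ⟨d, hd, hd1, hdr⟩ := h.exists_not_pair (cenIn_le R r) (h4.trans_le (h.card_cen₁ hr)) hr
      obtain ⟨hdR, hdc⟩ := mem_cenIn.1 hd
      rcases h.sq d hdR with ed | ed
      · exact ⟨d, hdR, ed, hd1, (commute_scalar hx1 d).symm⟩
      refine ⟨d * r, mul_mem hdR hr, by rw [commute_sq_mul hdc, ed, er]; simp, fun hs => hdr ?_,
        (commute_scalar hx1 _).symm⟩
      exact (h.pre.mul_inv_iff hr).2 hs
    · exact ⟨x, hx, e, hx1, Commute.refl x⟩
  · obtain ⟨d, hd, hd1, hdx⟩ := h.exists_not_pair (cenIn_le R x) (h4.trans_le (h.card_cen₁ hx)) hx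
    obtain ⟨hdR, hdc⟩ := mem_cenIn.1 hd
    rcases h.sq d hdR with ed | ed
    · exact ⟨d, hdR, ed, hd1, hdc⟩
    refine ⟨d * x, mul_mem hdR hx, by rw [commute_sq_mul hdc, ed, e]; simp, fun hs => hdx ?_,
      hdc.mul_left (Commute.refl x)⟩
    exact (h.pre.mul_inv_iff hx).2 hs

end IsSp

/-- The normalised product `(1 + y) (1 + z) / 2`. -/
def pr (h2 : (2 : F) ≠ 0) (y z : GL ι F) (hy : y * y = -1) (hz : z * z = -1) : GL ι F :=
  sc (2 : F)⁻¹ (inv_ne_zero h2) * (tv h2 y hy * tv h2 z hz)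

section Pair

variable (h2 : (2 : F) ≠ 0) {y z : GL ι F} (hy : y * y = -1) (hz : z * z = -1)

theorem pr_commute {g : GL ι F} (h1 : Commute g y) (h3 : Commute g z) : Commute (pr h2 y z hy hz) g :=
  (commute_scalar (sc_mem _ _) g).mul_left ((tv_commute h2 hy h1).mul_left (tv_commute h2 hz h3))

theorem pr_ac {g : GL ι F} (h1 : Ac g y) (h3 : Commute g z) :
    pr h2 y z hy hz * g * (pr h2 y z hy hz)⁻¹ = -(g * y) := by
  rw [pr, show sc (2 : F)⁻¹ (inv_ne_zero h2) * (tv h2 y hy * tv h2 z hz) * g *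
      (sc (2 : F)⁻¹ (inv_ne_zero h2) * (tv h2 y hy * tv h2 z hz))⁻¹ =
    sc (2 : F)⁻¹ (inv_ne_zero h2) * (tv h2 y hy * (tv h2 z hz * g * (tv h2 z hz)⁻¹) * (tv h2 y hy)⁻¹) *
      (sc (2 : F)⁻¹ (inv_ne_zero h2))⁻¹ by group, (tv_commute h2 hz h3).eq, mul_inv_cancel_right, tv_ac h2 hy h1,
    (commute_scalar (sc_mem _ _) _).eq, mul_inv_cancel_right]

theorem pr_conj (g : GL ι F) {y' z' : GL ι F} (hy' : y' * y' = -1) (hz' : z' * z' = -1) (ey : g * y * g⁻¹ = y')
    (ez : g * z * g⁻¹ = z') : g * pr h2 y z hy hz * g⁻¹ = pr h2 y' z' hy' hz' := by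
  rw [pr, pr, ← tv_conj h2 hy hy' ey, ← tv_conj h2 hz hz' ez]
  conv_rhs => rw [show g * tv h2 y hy * g⁻¹ * (g * tv h2 z hz * g⁻¹) = g * (tv h2 y hy * tv h2 z hz) * g⁻¹ by group]
  rw [← mul_assoc g, ← (commute_scalar (sc_mem _ _) g).eq]
  group

theorem tv_iso {Γ : Matrix ι ι F} (hi : y ∈ isoGL Γ) :
    ((tv h2 y hy : GL ι F) : Matrix ι ι F)ᵀ * Γ * (tv h2 y hy : GL ι F) = (2 : F) • Γ := by
  have e : ((y : GL ι F) : Matrix ι ι F)ᵀ * Γ = -(Γ * (y : Matrix ι ι F)) := by
    have e1 := congrArg (fun X => X * (y : Matrix ι ι F)) (mem_isoGL.1 hi)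
    simp only [Matrix.mul_assoc] at e1
    rw [← Units.val_mul, hy] at e1
    simp only [Units.val_neg, Units.val_one, Matrix.mul_neg, Matrix.mul_one] at e1
    rw [← e1, neg_neg]
  show (1 + (y : Matrix ι ι F))ᵀ * Γ * (1 + (y : Matrix ι ι F)) = _
  rw [transpose_add, transpose_one, Matrix.add_mul, Matrix.one_mul, e, Matrix.add_mul, Matrix.mul_add, Matrix.mul_add,
    Matrix.mul_one, Matrix.mul_one, Matrix.neg_mul, Matrix.mul_assoc, ← Units.val_mul, hy, two_smul]
  simp

theorem pr_mem_iso {Γ : Matrix ι ι F} (h1 : y ∈ isoGL Γ) (h3 : z ∈ isoGL Γ) : pr h2 y z hy hz ∈ isoGL Γ := by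
  rw [mem_isoGL, pr, Units.val_mul, Units.val_mul,
    show ((sc (2 : F)⁻¹ (inv_ne_zero h2) : GL ι F) : Matrix ι ι F) = (2 : F)⁻¹ • 1 from rfl, Matrix.smul_mul,
    Matrix.one_mul, transpose_smul, Matrix.smul_mul, Matrix.smul_mul, Matrix.mul_smul, smul_smul, transpose_mul]
  set T := ((tv h2 y hy : GL ι F) : Matrix ι ι F)
  set S := ((tv h2 z hz : GL ι F) : Matrix ι ι F)
  rw [show Sᵀ * Tᵀ * Γ * (T * S) = Sᵀ * (Tᵀ * Γ * T) * S by simp only [Matrix.mul_assoc], tv_iso h2 hy h1,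
    Matrix.mul_smul, Matrix.smul_mul, tv_iso h2 hz h3, smul_smul, smul_smul]
  rw [show (2 : F)⁻¹ * (2 : F)⁻¹ * 2 * 2 = 1 by field_simp, one_smul]

theorem pr_mem_normalizer {R : Subgroup (GL ι F)} (h : IsPre R) (h1 : y ∈ R) (h3 : z ∈ R) :
    pr h2 y z hy hz ∈ subgroupNormalizer R := by
  refine mul_mem ?_ (mul_mem (tv_mem_normalizer hy h h1) (tv_mem_normalizer hz h h3))
  refine Subgroup.mem_normalizer_iff.2 fun g => ?_
  rw [(commute_scalar (sc_mem _ _) g).eq, mul_inv_cancel_right]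

end Pair

namespace IsSp

variable {Γ : Matrix ι ι F} {k : ℕ} {R : Subgroup (GL ι F)} (h : IsSp Γ k R)

include h

theorem pr_mem {y z : GL ι F} (hy : y ∈ R) (hz : z ∈ R) (ey : y * y = -1) (ez : z * z = -1) :
    pr h.two y z ey ez ∈ subgroupNormalizer R ⊓ isoGL Γ :=
  ⟨pr_mem_normalizer h.two ey ez h.pre hy hz, pr_mem_iso h.two ey ez (h.le hy) (h.le hz)⟩

/-- One step inside a class. -/
theorem step_ac (hk : 2 ≤ k) {a b : GL ι F} (ha : a ∈ R) (hb : b ∈ R) (hab : Ac a b) (hsq : a * a = b * b) :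
    ∃ n ∈ subgroupNormalizer R ⊓ isoGL Γ, n * a * n⁻¹ * b⁻¹ ∈ scalars ι F := by
  have hx : a * b * (a * b) = -1 := by
    rw [hab.sq_mul, ← hsq]
    rcases h.sq a ha with e | e <;> simp [e]
  obtain ⟨t, ht, et, hta, htb⟩ := h.exists_nons₂ hk ha hb
  refine ⟨_, h.pr_mem (mul_mem ha hb) ht hx et, ?_⟩
  rw [pr_ac h.two hx et (Ac.mul_right' (Commute.refl a) hab) hta.symm, ← mul_assoc, neg_mul, mul_inv_cancel_right]
  exact neg_mem_scalars (h.pre.sq_mem ha)

/-- Transitivity inside a class. -/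
theorem transitive (hk : 3 ≤ k) {a b : GL ι F} (ha : a ∈ R) (hb : b ∈ R) (ha1 : a ∉ scalars ι F)
    (hb1 : b ∉ scalars ι F) (hsq : a * a = b * b) :
    ∃ n ∈ subgroupNormalizer R ⊓ isoGL Γ, n * a * n⁻¹ * b⁻¹ ∈ scalars ι F := by
  rcases h.sign a ha b hb with hab | hab
  swap
  · exact h.step_ac (by omega) ha hb hab hsq
  obtain ⟨d, hd, had, hbd⟩ : ∃ d ∈ R, Ac a d ∧ Ac b d := by
    obtain ⟨d₁, hd₁, had₁⟩ := h.pre.exists_ac ha ha1
    obtain ⟨d₂, hd₂, hbd₂⟩ := h.pre.exists_ac hb hb1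
    rcases h.sign b hb d₁ hd₁ with e | e
    · rcases h.sign a ha d₂ hd₂ with e' | e'
      · exact ⟨d₁ * d₂, mul_mem hd₁ hd₂, had₁.mul_right e', Ac.mul_right' e hbd₂⟩
      · exact ⟨d₂, hd₂, e', hbd₂⟩
    · exact ⟨d₁, hd₁, had₁, e⟩
  obtain ⟨d', hd', had', hbd', hd'a⟩ : ∃ d ∈ R, Ac a d ∧ Ac b d ∧ d * d = a * a := by
    by_cases e : d * d = a * a
    · exact ⟨d, hd, had, hbd, e⟩
    obtain ⟨t, ht, et, hta, htb, htd⟩ := h.exists_nons₃ hk ha hb hd
    refine ⟨d * t, mul_mem hd ht, had.mul_right hta.symm, hbd.mul_right htb.symm, ?_⟩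
    rw [commute_sq_mul htd.symm, et]
    rcases h.sq d hd with ed | ed <;> rcases h.sq a ha with ea | ea <;> simp [ed, ea] at e ⊢
  obtain ⟨n₁, hn₁, e₁⟩ := h.step_ac (by omega) ha hd' had' hd'a.symm
  obtain ⟨n₂, hn₂, e₂⟩ := h.step_ac (by omega) hd' hb hbd'.symm (hd'a.trans hsq)
  refine ⟨n₂ * n₁, mul_mem hn₂ hn₁, ?_⟩
  rw [show n₂ * n₁ * a * (n₂ * n₁)⁻¹ * b⁻¹ =
    n₂ * (n₁ * a * n₁⁻¹ * d'⁻¹) * n₂⁻¹ * (n₂ * d' * n₂⁻¹ * b⁻¹) by group, scalar_conj e₁]
  exact mul_mem e₁ e₂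

/-- An involution has an anticommuting involution. -/
theorem exists_partner {a : GL ι F} (ha : a ∈ R) (haa : a * a = 1) (ha1 : a ∉ scalars ι F) :
    ∃ b ∈ R, b * b = 1 ∧ Ac a b := by
  obtain ⟨b, hb, hab⟩ := h.pre.exists_ac ha ha1
  rcases h.sq b hb with e | e
  · exact ⟨b, hb, e, hab⟩
  · exact ⟨a * b, mul_mem ha hb, by rw [hab.sq_mul, haa, e]; simp, Ac.mul_right' (Commute.refl a) hab⟩

end IsSp

/-! ### Coordinates -/

theorem coord_mem_normalizer {ι' : Type} [Fintype ι'] [DecidableEq ι'] (L : (ι' → F) ≃ₗ[F] (ι → F))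
    {R : Subgroup (GL ι F)} {g : GL ι F} :
    coordGL L g ∈ subgroupNormalizer (R.map (coordGL L).toMonoidHom) ↔ g ∈ subgroupNormalizer R := by
  have key : ∀ x, coordGL L x ∈ R.map (coordGL L).toMonoidHom ↔ x ∈ R := fun x =>
    ⟨fun ⟨y, hy, e⟩ => (coordGL L).injective e ▸ hy, fun hx => ⟨x, hx, rfl⟩⟩
  refine ⟨fun hg => Subgroup.mem_normalizer_iff.2 fun x => ?_, fun hg => Subgroup.mem_normalizer_iff.2 fun x => ?_⟩
  · rw [← key, ← key (g * x * g⁻¹), map_mul, map_mul, map_inv]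
    exact Subgroup.mem_normalizer_iff.1 hg _
  · obtain ⟨x, rfl⟩ := (coordGL L).surjective x
    rw [← map_inv, ← map_mul, ← map_mul, key, key]
    exact Subgroup.mem_normalizer_iff.1 hg _

theorem IsSp.map {ι' : Type} [Fintype ι'] [DecidableEq ι'] {Γ : Matrix ι ι F} {k : ℕ} {R : Subgroup (GL ι F)}
    (h : IsSp Γ k R) (L : (ι' → F) ≃ₗ[F] (ι → F)) {Γ' : Matrix ι' ι' F} (hΓ' : IsAltGram Γ')
    (hmem : ∀ g : GL ι F, coordGL L g ∈ isoGL Γ' ↔ g ∈ isoGL Γ) :
    IsSp Γ' k (R.map (coordGL L).toMonoidHom) where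
  two := h.two
  gram := hΓ'
  le := by rintro _ ⟨x, hx, rfl⟩; exact (hmem x).2 (h.le hx)
  neg_one_mem := ⟨-1, h.neg_one_mem, coordGL_neg_one L⟩
  sign := by
    rintro _ ⟨x, hx, rfl⟩ _ ⟨y, hy, rfl⟩
    exact (h.sign x hx y hy).imp (fun e => e.map (coordGL L)) (coord_ac L)
  sq := by
    rintro _ ⟨x, hx, rfl⟩
    show coordGL L x * coordGL L x = 1 ∨ coordGL L x * coordGL L x = -1
    rcases h.sq x hx with e | e <;> rw [← map_mul, e]
    · exact Or.inl (map_one _)
    · exact Or.inr (coordGL_neg_one L)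
  span := by
    refine top_unique fun X _ => ?_
    have hX : (coordAlg L).symm X ∈ Submodule.span F (matrixSet R) := h.span ▸ Submodule.mem_top
    have h1 := Submodule.mem_map_of_mem (f := (coordAlg L).toLinearMap) hX
    rw [Submodule.map_span] at h1
    rw [show X = (coordAlg L).toLinearMap ((coordAlg L).symm X) by simp]
    refine Submodule.span_mono ?_ h1
    rintro _ ⟨_, ⟨x, hx, rfl⟩, rfl⟩
    exact ⟨coordGL L x, ⟨x, hx, rfl⟩, rfl⟩
  dim := by
    have := L.finrank_eq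
    rw [Module.finrank_pi, Module.finrank_pi] at this
    rw [this, h.dim]
  card := by rw [Subgroup.card_map_of_injective (f := (coordGL L).toMonoidHom) (coordGL L).injective, h.card]
  minus := fun A hA hcomm hsq => by
    have e : A = (A.comap (coordGL L).toMonoidHom).map (coordGL L).toMonoidHom :=
      (Subgroup.map_comap_eq_self_of_surjective (coordGL L).surjective A).symm
    rw [e, Subgroup.card_map_of_injective (f := (coordGL L).toMonoidHom) (coordGL L).injective]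
    refine h.minus _ (fun x hx => ?_) (fun x hx y hy => ?_) fun x hx => ?_
    · obtain ⟨y, hy, e⟩ := hA hx
      exact (coordGL L).injective e ▸ hy
    · exact Commute.of_map (coordGL L).injective (hcomm _ hx _ hy)
    · exact (coordGL L).injective (by rw [map_mul, map_one]; exact hsq _ hx)

section Halves

variable {Γ : Matrix (κ ⊕ κ) (κ ⊕ κ) F} {k : ℕ} {R : Subgroup (GL (κ ⊕ κ) F)}

theorem dg_mem_iso_iff {G : Matrix κ κ F} {y z : GL κ F} :
    dg (y, z) ∈ isoGL (fromBlocks G 0 0 G) ↔ y ∈ isoGL G ∧ z ∈ isoGL G := by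
  simp [mem_isoGL, dg_val, fromBlocks_transpose, fromBlocks_multiply, fromBlocks_inj]

theorem bM_mem_iso (G : Matrix κ κ F) : bM ∈ isoGL (fromBlocks G 0 0 G) := by
  simp [mem_isoGL, bM, fromBlocks_transpose, fromBlocks_multiply]

theorem gram_halves (h2 : (2 : F) ≠ 0) (hΓ : IsAltGram Γ) (ha : aM ∈ isoGL Γ) (hb : bM ∈ isoGL Γ) :
    ∃ G : Matrix κ κ F, IsAltGram G ∧ Γ = fromBlocks G 0 0 G := by
  have h1 := mem_isoGL.1 ha
  have h2' := mem_isoGL.1 hb
  rw [aM_val, ← fromBlocks_toBlocks Γ] at h1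
  rw [show ((bM : GL (κ ⊕ κ) F) : Matrix (κ ⊕ κ) (κ ⊕ κ) F) = fromBlocks 0 1 1 0 from rfl,
    ← fromBlocks_toBlocks Γ] at h2'
  simp only [fromBlocks_transpose, transpose_zero, transpose_one,
    transpose_neg, fromBlocks_multiply, fromBlocks_inj, Matrix.one_mul, Matrix.zero_mul, Matrix.mul_one, Matrix.mul_zero, add_zero, zero_add,
    Matrix.neg_mul, Matrix.mul_neg, neg_neg] at h1 h2'
  obtain ⟨-, e12, e21, -⟩ := h1
  obtain ⟨e11, -, -, -⟩ := h2'
  have z12 : Γ.toBlocks₁₂ = 0 := (smul_eq_zero.1 (show (2 : F) • Γ.toBlocks₁₂ = 0 by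
    rw [two_smul]; nth_rewrite 1 [← e12]; exact neg_add_cancel _)).resolve_left h2
  have z21 : Γ.toBlocks₂₁ = 0 := (smul_eq_zero.1 (show (2 : F) • Γ.toBlocks₂₁ = 0 by
    rw [two_smul]; nth_rewrite 1 [← e21]; exact neg_add_cancel _)).resolve_left h2
  have hG : Γ = fromBlocks Γ.toBlocks₁₁ 0 0 Γ.toBlocks₁₁ := by
    conv_lhs => rw [← fromBlocks_toBlocks Γ, z12, z21, e11]
  refine ⟨Γ.toBlocks₁₁, ⟨?_, ?_⟩, hG⟩
  · have := hΓ.skew
    rw [hG, fromBlocks_transpose, fromBlocks_neg, fromBlocks_inj] at this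
    exact this.1
  · have := hΓ.unit
    rw [hG, det_fromBlocks_zero₂₁] at this
    exact isUnit_of_mul_isUnit_left this

variable {G : Matrix κ κ F}

theorem IsSp.half (hG : IsAltGram G) (h : IsSp (fromBlocks G 0 0 G) (k + 1) R) (ha : aM ∈ R) (hb : bM ∈ R) :
    IsSp G k (SympNorm.half R) := by
  classical
  have hp := h.pre
  have hh := hp.half ha hb
  haveI : Nonempty κ := hh.nonempty
  obtain ⟨i⟩ := ‹Nonempty κ›
  refine ⟨h.two, hG, fun y hy => (dg_mem_iso_iff.1 (h.le (mem_half.1 hy))).1, hh.neg_one_mem, hh.sign,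
    fun x hx => (h.sq _ hx).imp (fun e => di_injective (by rw [map_mul, map_one]; exact e))
      fun e => di_injective (by rw [map_mul, di_neg, map_one]; exact e), hh.span, ?_, ?_, ?_⟩
  · have := h.dim
    rw [Fintype.card_sum, pow_succ] at this
    omega
  · let f : Bool × Bool × SympNorm.half R → R := fun p =>
      ⟨di (p.2.2 : GL κ F) * (bif p.1 then aM else 1) * (bif p.2.1 then bM else 1), by
        refine mul_mem (mul_mem p.2.2.2 ?_) ?_ <;> cases p.1 <;> cases p.2.1 <;>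
          first
            | exact ha
            | exact hb
            | exact one_mem R⟩
    have hf : Function.Bijective f := by
      refine ⟨?_, ?_⟩
      · rintro ⟨a, b, r⟩ ⟨a', b', r'⟩ e
        have e' := congrArg (fun g : R => ((g : GL (κ ⊕ κ) F) : Matrix (κ ⊕ κ) (κ ⊕ κ) F)) e
        have hne : ((r : GL κ F) : Matrix κ κ F) ≠ 0 := fun e0 => by
          have := Units.mul_inv (r : GL κ F)
          rw [e0, zero_mul] at this
          exact zero_ne_one this
        have hne' : ((r : GL κ F) : Matrix κ κ F) ≠ -((r : GL κ F) : Matrix κ κ F) := fun e0 => hne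
          ((smul_eq_zero.1 (show (2 : F) • ((r : GL κ F) : Matrix κ κ F) = 0 by
            rw [two_smul]; nth_rewrite 2 [e0]; exact add_neg_cancel _)).resolve_left h.two)
        have hext : ∀ {p q : GL κ F}, (p : Matrix κ κ F) = q → p = q := fun e => Units.ext e
        cases a <;> cases b <;> cases a' <;> cases b' <;>
          simp [f, di_apply, dg_val, bM, aM_val, fromBlocks_multiply, fromBlocks_inj] at e' ⊢ <;>
          first
            | exact Subtype.ext (Units.ext e')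
            | exact Subtype.ext (Units.ext e'.1)
            | exact hne e'.1
            | exact hne e'.2.1
            | exact hne' (e'.1.trans e'.2.symm)
            | exact hne' (e'.2.trans (by rw [e'.1]))
      · rintro ⟨x, hx⟩
        have diag : ∀ y ∈ R, Commute y aM → ∃ a : Bool, ∃ r : SympNorm.half R, di (r : GL κ F) * (bif a then aM else 1) = y := by
          intro y hy hya
          obtain ⟨r, hr, e | e⟩ := hp.exists_half ha hb hy hya
          · exact ⟨false, ⟨r, hr⟩, by simp [e, di_apply]⟩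
          · exact ⟨true, ⟨r, hr⟩, by simp [e, di_apply, aM, ← map_mul]⟩
        rcases h.sign x hx aM ha with hc | hc
        · obtain ⟨a, r, e⟩ := diag x hx hc
          exact ⟨(a, false, r), Subtype.ext (by simpa [f] using e)⟩
        · have hba : Ac bM (aM : GL (κ ⊕ κ) F) := Units.ext (by
            simp [bM, aM_val, fromBlocks_multiply, fromBlocks_neg])
          obtain ⟨a, r, e⟩ := diag (x * bM) (mul_mem hx hb) (commute_of_ac_ac hc.symm hba.symm).symm
          refine ⟨(a, true, r), Subtype.ext ?_⟩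
          show di (r : GL κ F) * (bif a then aM else 1) * bM = x
          rw [e, mul_assoc, bM_sq, mul_one]
    have := Nat.card_eq_of_bijective f hf
    rw [h.card, Nat.card_prod, Nat.card_prod, Nat.card_eq_fintype_card, Fintype.card_bool,
      show 1 + 2 * (k + 1) = (1 + 2 * k) + 2 by omega, pow_add] at this
    omega
  · intro A hA hcomm hsq
    let T : Subgroup (GL κ F × GL κ F) :=
      { carrier := {p | p.1 ∈ A ∧ (p.2 = p.1 ∨ p.2 = -p.1)}
        mul_mem' := fun {p q} hp hq => ⟨mul_mem hp.1 hq.1, by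
          rcases hp.2 with e | e <;> rcases hq.2 with e' | e' <;> simp [e, e']⟩
        one_mem' := ⟨one_mem A, Or.inl rfl⟩
        inv_mem' := fun {p} hp => ⟨inv_mem hp.1, by
          rcases hp.2 with e | e <;> simp [e, inv_neg]⟩ }
    have hTR : T.map dg ≤ R := by
      rintro _ ⟨⟨y, z⟩, ⟨hy, e⟩, rfl⟩
      dsimp at hy e
      rcases e with rfl | rfl
      · exact hA hy
      · rw [show dg (y, -y) = di y * aM by rw [di_apply, aM, ← map_mul]; simp]
        exact mul_mem (hA hy) ha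
    have hlt := h.minus (T.map dg) hTR (by
        rintro _ ⟨⟨y, z⟩, ⟨hy, e⟩, rfl⟩ _ ⟨⟨y', z'⟩, ⟨hy', e'⟩, rfl⟩
        dsimp at hy e hy' e'
        refine Commute.map ?_ dg
        have hc := hcomm y hy y' hy'
        rcases e with e | e <;> rcases e' with e' | e' <;> rw [e, e'] <;>
          exact Commute.prod hc (by simp [hc]))
      (by
        rintro _ ⟨⟨y, z⟩, ⟨hy, e⟩, rfl⟩
        dsimp at hy e
        rw [← map_mul, ← map_one dg]
        rcases e with e | e <;> simp [e, hsq y hy] <;> exact map_one dg)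
    have hinj : Function.Injective (dg : GL κ F × GL κ F →* GL (κ ⊕ κ) F) := fun p q e => by
      have e' := congrArg (fun g : GL (κ ⊕ κ) F => (g : Matrix (κ ⊕ κ) (κ ⊕ κ) F)) e
      rw [show p = (p.1, p.2) from rfl, show q = (q.1, q.2) from rfl] at e'
      simp only [dg_val, fromBlocks_inj] at e'
      exact Prod.ext (Units.ext e'.1) (Units.ext e'.2.2.2)
    rw [Subgroup.card_map_of_injective hinj] at hlt
    haveI := h.finite
    haveI : Finite A := Finite.of_injective (fun y : A => (⟨di (y : GL κ F), hA y.2⟩ : R)) fun y y' e =>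
      Subtype.ext (di_injective (congrArg Subtype.val e))
    let g : Bool × A ≃ T :=
      Equiv.ofBijective (fun p => ⟨((p.2 : GL κ F), bif p.1 then -(p.2 : GL κ F) else (p.2 : GL κ F)), p.2.2, by
        cases p.1 <;> simp⟩) ⟨by
          rintro ⟨a, y⟩ ⟨a', y'⟩ e
          have e1 := congrArg (fun t : T => (t : GL κ F × GL κ F).1) e
          have e2 := congrArg (fun t : T => (t : GL κ F × GL κ F).2) e
          dsimp at e1 e2
          obtain rfl : y = y' := Subtype.ext e1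
          have hne : (y : GL κ F) ≠ -(y : GL κ F) := fun e0 => by
            have := congrArg (fun u : GL κ F => ((u * (y : GL κ F)⁻¹ : GL κ F) : Matrix κ κ F) i i) e0
            simp at this
            exact h.two (by linear_combination this)
          cases a <;> cases a' <;> simp [hne, Ne.symm hne] at e2 ⊢,
        by
          rintro ⟨⟨y, z⟩, hy, e⟩
          rcases e with e | e
          · exact ⟨(false, ⟨y, hy⟩), Subtype.ext (Prod.ext rfl e.symm)⟩
          · exact ⟨(true, ⟨y, hy⟩), Subtype.ext (Prod.ext rfl e.symm)⟩⟩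
    rw [← Nat.card_congr g, Nat.card_prod, Nat.card_eq_fintype_card, Fintype.card_bool, pow_succ] at hlt
    omega

end Halves

end CfsgLib.Geo.SympNorm
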