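import Cfsg.Agent.Lib.Geo.SympNorm.Coord
import Cfsg.Agent.Lib.Classical.Symplectic.Structure
import Cfsg.Agent.Lib.Classical.Symplectic.Geometry

/-!
# Isometry groups of alternating Gram matrices
-/

set_option autoImplicit false
set_option linter.unusedSectionVars false

namespace CfsgLib.Geo.SympNorm

open Matrix Cfsg.Geo
open CfsgLib.Classical.Symp (Sp tr tr_apply trGroup)
open LinearMap (BilinForm)
open scoped commutatorElement

variable {ι ι' : Type} [Fintype ι] [DecidableEq ι] [Fintype ι'] [DecidableEq ι'] {F : Type*} [Field F]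

/-- An invertible alternating matrix. -/
structure IsAltGram (Γ : Matrix ι ι F) : Prop where
  skew : Γᵀ = -Γ
  unit : IsUnit Γ.det

/-- The isometries of a Gram matrix. -/
def isoGL (Γ : Matrix ι ι F) : Subgroup (GL ι F) where
  carrier := {g | (g : Matrix ι ι F)ᵀ * Γ * (g : Matrix ι ι F) = Γ}
  mul_mem' {a b} ha hb := by
    simp only [Set.mem_setOf_eq, Units.val_mul, transpose_mul] at *
    rw [show (b : Matrix ι ι F)ᵀ * (a : Matrix ι ι F)ᵀ * Γ * ((a : Matrix ι ι F) * b) =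
      (b : Matrix ι ι F)ᵀ * ((a : Matrix ι ι F)ᵀ * Γ * a) * b by simp only [mul_assoc], ha, hb]
  one_mem' := by simp
  inv_mem' {a} ha := by
    simp only [Set.mem_setOf_eq] at *
    calc ((a⁻¹ : GL ι F) : Matrix ι ι F)ᵀ * Γ * ((a⁻¹ : GL ι F) : Matrix ι ι F)
        = ((a⁻¹ : GL ι F) : Matrix ι ι F)ᵀ * ((a : Matrix ι ι F)ᵀ * Γ * a) * ((a⁻¹ : GL ι F) : Matrix ι ι F) := by
          rw [ha]
      _ = ((a : Matrix ι ι F) * ((a⁻¹ : GL ι F) : Matrix ι ι F))ᵀ * Γ *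
            ((a : Matrix ι ι F) * ((a⁻¹ : GL ι F) : Matrix ι ι F)) := by
          simp only [transpose_mul, mul_assoc]
      _ = Γ := by simp

theorem mem_isoGL {Γ : Matrix ι ι F} {g : GL ι F} :
    g ∈ isoGL Γ ↔ (g : Matrix ι ι F)ᵀ * Γ * (g : Matrix ι ι F) = Γ := Iff.rfl

theorem neg_one_mem_isoGL (Γ : Matrix ι ι F) : (-1 : GL ι F) ∈ isoGL Γ := by simp [mem_isoGL]

namespace IsAltGram

variable {Γ : Matrix ι ι F} (hΓ : IsAltGram Γ) (h2 : (2 : F) ≠ 0)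

/-- The bilinear form. -/
noncomputable def bf (_ : IsAltGram Γ) : BilinForm F (ι → F) := Matrix.toBilin' Γ

include hΓ in
theorem bf_apply (u v : ι → F) : hΓ.bf u v = u ⬝ᵥ Γ *ᵥ v := Matrix.toBilin'_apply' Γ u v

include hΓ h2 in
theorem isAlt : hΓ.bf.IsAlt := fun v => by
  rw [hΓ.bf_apply]
  have e : v ⬝ᵥ Γ *ᵥ v = -(v ⬝ᵥ Γ *ᵥ v) := by
    conv_lhs => rw [dotProduct_mulVec, ← mulVec_transpose, hΓ.skew, neg_mulVec, neg_dotProduct, dotProduct_comm]
  exact (mul_eq_zero.1 (show (2 : F) * (v ⬝ᵥ Γ *ᵥ v) = 0 by linear_combination e)).resolve_left h2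

include hΓ in
theorem nondeg : hΓ.bf.Nondegenerate :=
  LinearMap.BilinForm.nondegenerate_toBilin'_of_det_ne_zero' Γ hΓ.unit.ne_zero

/-- Isometries as linear automorphisms. -/
noncomputable def toSp : isoGL Γ ≃* Sp hΓ.bf where
  toFun g := ⟨(LinearMap.GeneralLinearGroup.generalLinearEquiv F (ι → F))
    (Matrix.GeneralLinearGroup.toLin (g : GL ι F)), fun u v => by
      show hΓ.bf (((g : GL ι F) : Matrix ι ι F) *ᵥ u) (((g : GL ι F) : Matrix ι ι F) *ᵥ v) = hΓ.bf u v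
      rw [hΓ.bf_apply, hΓ.bf_apply, ← Matrix.vecMul_transpose, ← dotProduct_mulVec, mulVec_mulVec, mulVec_mulVec,
        mem_isoGL.1 g.2]⟩
  invFun g := ⟨Matrix.GeneralLinearGroup.toLin.symm
    ((LinearMap.GeneralLinearGroup.generalLinearEquiv F (ι → F)).symm (g : (ι → F) ≃ₗ[F] (ι → F))), by
      rw [mem_isoGL]
      refine Matrix.toBilin'.injective (LinearMap.ext fun u => LinearMap.ext fun v => ?_)
      have h : hΓ.bf ((g : (ι → F) ≃ₗ[F] (ι → F)) u) ((g : (ι → F) ≃ₗ[F] (ι → F)) v) = hΓ.bf u v := g.2 u v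
      show Matrix.toBilin' _ u v = hΓ.bf u v
      rw [← h, hΓ.bf_apply, Matrix.toBilin'_apply', ← mulVec_mulVec, ← mulVec_mulVec, dotProduct_mulVec u,
        Matrix.vecMul_transpose]
      have e : ∀ w, LinearMap.toMatrix' ((g : (ι → F) ≃ₗ[F] (ι → F)) : (ι → F) →ₗ[F] (ι → F)) *ᵥ w =
          (g : (ι → F) ≃ₗ[F] (ι → F)) w := fun w => LinearMap.toMatrix'_mulVec _ w
      exact congrArg₂ (fun a b => a ⬝ᵥ Γ *ᵥ b) (e u) (e v)⟩
  left_inv g := Subtype.ext (by simp)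
  right_inv g := Subtype.ext (by simp)
  map_mul' g g' := Subtype.ext (by simp)

theorem toSp_mulVec (g : isoGL Γ) (x : ι → F) :
    (hΓ.toSp g : (ι → F) ≃ₗ[F] (ι → F)) x = ((g : GL ι F) : Matrix ι ι F) *ᵥ x := rfl

include hΓ h2 in
/-- Transitivity on non-zero vectors. -/
theorem exists_move {u w : ι → F} (hu : u ≠ 0) (hw : w ≠ 0) :
    ∃ g ∈ isoGL Γ, (g : Matrix ι ι F) *ᵥ u = w := by
  obtain ⟨t, -, ht⟩ := CfsgLib.Classical.Symp.sp_transitive_ne_zero (hΓ.isAlt h2) hΓ.nondeg hu hw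
  refine ⟨_, (hΓ.toSp.symm t).2, ?_⟩
  rw [← hΓ.toSp_mulVec, MulEquiv.apply_symm_apply]
  exact ht

include hΓ h2 in
/-- The isometry group is perfect in dimension at least four. -/
theorem le_commutator (h4 : 4 ≤ Fintype.card ι) : isoGL Γ ≤ ⁅isoGL Γ, isoGL Γ⁆ := by
  intro g hg
  have hperf := CfsgLib.Classical.Symp.commutator_eq_top (hΓ.isAlt h2) hΓ.nondeg
    (Or.inl ⟨by rw [Module.finrank_fintype_fun_eq_card]; exact h4, h2⟩)
  have h1 : hΓ.toSp ⟨g, hg⟩ ∈ commutator (Sp hΓ.bf) := hperf ▸ Subgroup.mem_top _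
  have h3 := Subgroup.mem_map_of_mem ((isoGL Γ).subtype.comp hΓ.toSp.symm.toMonoidHom) h1
  rw [commutator_def, Subgroup.map_commutator, MonoidHom.comp_apply, MulEquiv.coe_toMonoidHom,
    MulEquiv.symm_apply_apply] at h3
  refine Subgroup.commutator_mono ?_ ?_ h3 <;>
    (rintro _ ⟨s, -, rfl⟩; exact (hΓ.toSp.symm s).2)

include hΓ h2 in
theorem det_eq_one (h4 : 4 ≤ Fintype.card ι) {g : GL ι F} (hg : g ∈ isoGL Γ) : (g : Matrix ι ι F).det = 1 := by
  have h : (Subgroup.map (Matrix.GeneralLinearGroup.det (n := ι) (R := F)) ⁅isoGL Γ, isoGL Γ⁆) ≤ ⊥ := by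
    rw [Subgroup.map_commutator, Subgroup.commutator_le]
    intro a _ b _
    rw [Subgroup.mem_bot, commutatorElement_def, mul_inv_cancel_comm, mul_inv_cancel]
  have := h (Subgroup.mem_map_of_mem _ (hΓ.le_commutator h2 h4 hg))
  rw [Subgroup.mem_bot] at this
  exact congrArg Units.val this

include hΓ h2 in
/-- A group normalised by the isometries with a non-scalar isometry contains all of them. -/
theorem le_of_normalized (h4 : 4 ≤ Fintype.card ι) {K : Subgroup (GL ι F)}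
    (hn : ∀ g ∈ isoGL Γ, ∀ y ∈ K, y ∈ isoGL Γ → g * y * g⁻¹ ∈ K) {r : GL ι F} (hr : r ∈ K) (hri : r ∈ isoGL Γ)
    (hr1 : r ∉ scalars ι F) : isoGL Γ ≤ K := by
  haveI : Nonempty ι := Fintype.card_pos_iff.1 (by omega)
  haveI : Nontrivial (ι → F) := inferInstance
  have hA := hΓ.isAlt h2
  have hperf := CfsgLib.Classical.Symp.commutator_eq_top hA hΓ.nondeg
    (Or.inl ⟨by rw [Module.finrank_fintype_fun_eq_card]; exact h4, h2⟩)
  have hs := CfsgLib.Classical.Symp.isSimpleGroup_PSp hA hΓ.nondeg hperf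
  let A : Subgroup (Sp hΓ.bf) := (K.subgroupOf (isoGL Γ)).map hΓ.toSp.toMonoidHom
  have hAn : A.Normal := ⟨by
    rintro _ ⟨y, hy, rfl⟩ g
    obtain ⟨g', rfl⟩ := hΓ.toSp.surjective g
    exact ⟨g' * y * g'⁻¹, hn _ g'.2 _ hy y.2, by simp⟩⟩
  set r' := hΓ.toSp ⟨r, hri⟩
  have hrA : r' ∈ A := ⟨⟨r, hri⟩, hr, rfl⟩
  have hrc : r' ∉ Subgroup.center (Sp hΓ.bf) := by
    rw [CfsgLib.Classical.Symp.mem_center_iff_smul hA hΓ.nondeg]
    rintro ⟨a, ha⟩
    have e : (r : Matrix ι ι F) = a • (1 : Matrix ι ι F) := Matrix.toLin'.injective (LinearMap.ext fun x => by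
      rw [Matrix.toLin'_apply, Matrix.toLin'_apply, smul_mulVec, one_mulVec, ← ha x]
      exact (hΓ.toSp_mulVec ⟨r, hri⟩ x).symm)
    have ha0 : a ≠ 0 := by
      rintro rfl
      have := Units.mul_inv r
      rw [e, zero_smul, zero_mul] at this
      exact zero_ne_one this
    exact hr1 ((mem_scalars_iff r).2 ⟨Units.mk0 a ha0, e⟩)
  set π := QuotientGroup.mk' (Subgroup.center (Sp hΓ.bf))
  have htop : A = ⊤ := by
    rcases hs.eq_bot_or_eq_top_of_normal _ (hAn.map π (QuotientGroup.mk'_surjective _)) with h | h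
    · exact absurd ((QuotientGroup.eq_one_iff r').1 (Subgroup.mem_bot.1 (h ▸ Subgroup.mem_map_of_mem π hrA))) hrc
    · refine top_unique ?_
      rw [← hperf, commutator_def, Subgroup.commutator_le]
      intro u _ v _
      obtain ⟨a, ha, hea⟩ := (h ▸ Subgroup.mem_top _ : π u ∈ A.map π)
      obtain ⟨z, hz, rfl⟩ : ∃ z ∈ Subgroup.center (Sp hΓ.bf), u = a * z :=
        ⟨a⁻¹ * u, QuotientGroup.eq.1 hea, (mul_inv_cancel_left a u).symm⟩
      have e : ⁅a * z, v⁆ = ⁅a, v⁆ := by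
        have hzv := Subgroup.mem_center_iff.1 hz
        rw [commutatorElement_def, commutatorElement_def, _root_.mul_inv_rev, mul_assoc a z v, ← hzv v]
        group
      rw [e, commutatorElement_def, mul_assoc a v, mul_assoc a]
      exact mul_mem ha (hAn.conj_mem _ (inv_mem ha) v)
  intro g hg
  obtain ⟨y, hy, e⟩ := (htop ▸ Subgroup.mem_top _ : hΓ.toSp ⟨g, hg⟩ ∈ A)
  rw [MulEquiv.coe_toMonoidHom] at e
  rw [hΓ.toSp.injective e] at hy
  exact hy

/-- The group contains all transvections at `v`. -/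
def HasTr (_ : IsAltGram Γ) (M : Subgroup (GL ι F)) (v : ι → F) : Prop :=
  ∀ c : F, ∃ g ∈ M, ∀ x, (g : Matrix ι ι F) *ᵥ x = x + (c * (x ⬝ᵥ Γ *ᵥ v)) • v

include hΓ h2 in
/-- Transvections generate. -/
theorem isoGL_le_of_hasTr {M : Subgroup (GL ι F)} (h : ∀ v, hΓ.HasTr M v) : isoGL Γ ≤ M := by
  have hgen := CfsgLib.Classical.Symp.trGroup_eq_top (hΓ.isAlt h2) hΓ.nondeg
  have key : ∀ s : Sp hΓ.bf, ((hΓ.toSp.symm s : isoGL Γ) : GL ι F) ∈ M := by
    intro s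
    have hs : s ∈ trGroup (hΓ.isAlt h2) (⊤ : Submodule F (ι → F)) := hgen ▸ Subgroup.mem_top s
    have hle : trGroup (hΓ.isAlt h2) (⊤ : Submodule F (ι → F)) ≤
        M.comap ((isoGL Γ).subtype.comp hΓ.toSp.symm.toMonoidHom) := by
      rw [trGroup, Subgroup.closure_le]
      rintro _ ⟨v, -, c, rfl⟩
      obtain ⟨g, hg, e⟩ := h v c
      show ((hΓ.toSp.symm (tr (hΓ.isAlt h2) v c) : isoGL Γ) : GL ι F) ∈ M
      convert hg using 1
      refine Units.ext (Matrix.toLin'.injective (LinearMap.ext fun x => ?_))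
      rw [Matrix.toLin'_apply, Matrix.toLin'_apply, e, ← hΓ.toSp_mulVec, MulEquiv.apply_symm_apply, tr_apply,
        hΓ.bf_apply]
    exact hle hs
  intro g hg
  have := key (hΓ.toSp ⟨g, hg⟩)
  rwa [MulEquiv.symm_apply_apply] at this

include hΓ in
/-- Transvections follow isometries. -/
theorem HasTr.move {M : Subgroup (GL ι F)} {v : ι → F} (h : hΓ.HasTr M v) {g : GL ι F} (hg : g ∈ M)
    (hgi : g ∈ isoGL Γ) : hΓ.HasTr M ((g : Matrix ι ι F) *ᵥ v) := by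
  intro c
  obtain ⟨t, ht, e⟩ := h c
  refine ⟨g * t * g⁻¹, mul_mem (mul_mem hg ht) (inv_mem hg), fun x => ?_⟩
  rw [Units.val_mul, Units.val_mul, ← mulVec_mulVec, ← mulVec_mulVec, e, mulVec_add, mulVec_smul, mulVec_mulVec,
    Units.mul_inv, one_mulVec]
  congr 2
  have hi := mem_isoGL.1 hgi
  set y := ((g⁻¹ : GL ι F) : Matrix ι ι F) *ᵥ x with hy
  have hx : x = (g : Matrix ι ι F) *ᵥ y := by rw [hy, mulVec_mulVec, Units.mul_inv, one_mulVec]
  rw [hx, ← Matrix.vecMul_transpose (g : Matrix ι ι F), ← dotProduct_mulVec, mulVec_mulVec, mulVec_mulVec,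
    hi]

end IsAltGram

/-- The Gram matrix in new coordinates. -/
theorem exists_altGram {Γ : Matrix ι ι F} (hΓ : IsAltGram Γ) (L : (ι' → F) ≃ₗ[F] (ι → F)) :
    ∃ Γ' : Matrix ι' ι' F, IsAltGram Γ' ∧ (∀ g : GL ι F, coordGL L g ∈ isoGL Γ' ↔ g ∈ isoGL Γ) ∧
      ∀ x y, x ⬝ᵥ Γ' *ᵥ y = L x ⬝ᵥ Γ *ᵥ L y := by
  classical
  set P : Matrix ι ι' F := LinearMap.toMatrix' (L : (ι' → F) →ₗ[F] (ι → F))
  have hP : ∀ x, P *ᵥ x = L x := LinearMap.toMatrix'_mulVec _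
  set Q : Matrix ι' ι F := LinearMap.toMatrix' (L.symm : (ι → F) →ₗ[F] (ι' → F))
  have hQ : ∀ x, Q *ᵥ x = L.symm x := LinearMap.toMatrix'_mulVec _
  have hPQ : P * Q = 1 := Matrix.toLin'.injective (LinearMap.ext fun x => by simp [hP, hQ])
  have hQP : Q * P = 1 := Matrix.toLin'.injective (LinearMap.ext fun x => by simp [hP, hQ])
  have hval : ∀ g : GL ι F, ((coordGL L g : GL ι' F) : Matrix ι' ι' F) = Q * (g : Matrix ι ι F) * P := fun g =>
    Matrix.toLin'.injective (LinearMap.ext fun x => by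
      simp [coordGL_val, coordAlg_mulVec, ← mulVec_mulVec, hP, hQ])
  refine ⟨Pᵀ * Γ * P, ⟨?_, ?_⟩, fun g => ?_, fun x y => ?_⟩
  · simp [transpose_mul, hΓ.skew, Matrix.mul_assoc]
  · refine (Matrix.isUnit_iff_isUnit_det _).1 ⟨⟨Pᵀ * Γ * P, Q * Γ⁻¹ * Qᵀ, ?_, ?_⟩, rfl⟩
    · rw [show Pᵀ * Γ * P * (Q * Γ⁻¹ * Qᵀ) = Pᵀ * Γ * (P * Q) * Γ⁻¹ * Qᵀ by simp only [Matrix.mul_assoc], hPQ,
        Matrix.mul_one, Matrix.mul_assoc Pᵀ, Matrix.mul_nonsing_inv _ hΓ.unit, Matrix.mul_one, ← transpose_mul, hQP,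
        transpose_one]
    · rw [show Q * Γ⁻¹ * Qᵀ * (Pᵀ * Γ * P) = Q * Γ⁻¹ * (Qᵀ * Pᵀ) * Γ * P by simp only [Matrix.mul_assoc],
        ← transpose_mul, hPQ, transpose_one, Matrix.mul_one, Matrix.mul_assoc Q, Matrix.nonsing_inv_mul _ hΓ.unit,
        Matrix.mul_one, hQP]
  · rw [mem_isoGL, mem_isoGL, hval]
    set G := (g : Matrix ι ι F)
    have e : (Q * G * P)ᵀ * (Pᵀ * Γ * P) * (Q * G * P) = Pᵀ * (Gᵀ * Γ * G) * P := by
      calc (Q * G * P)ᵀ * (Pᵀ * Γ * P) * (Q * G * P) = Pᵀ * (Gᵀ * (Qᵀ * Pᵀ) * Γ * (P * Q) * G) * P := by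
            simp only [transpose_mul, Matrix.mul_assoc]
        _ = _ := by rw [← transpose_mul, hPQ, transpose_one, Matrix.mul_one, Matrix.mul_one]
    rw [e]
    refine ⟨fun h => ?_, fun h => by rw [h]⟩
    have := congrArg (fun X => Qᵀ * X * Q) h
    simp only [← Matrix.mul_assoc, ← transpose_mul, hPQ, transpose_one, Matrix.one_mul] at this
    simpa [Matrix.mul_assoc, hPQ] using this
  · rw [← hP, ← hP, ← mulVec_mulVec, ← mulVec_mulVec, dotProduct_mulVec, Matrix.vecMul_transpose]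

/-- A form of the same dimension is the same up to coordinates. -/
theorem exists_coord_gram (h2 : (2 : F) ≠ 0) {Γ : Matrix ι ι F} (hΓ : IsAltGram Γ) {Γ' : Matrix ι' ι' F}
    (hΓ' : IsAltGram Γ') (hd : Fintype.card ι' = Fintype.card ι) :
    ∃ L : (ι' → F) ≃ₗ[F] (ι → F), ∀ g : GL ι F, coordGL L g ∈ isoGL Γ' ↔ g ∈ isoGL Γ := by
  obtain ⟨e, he⟩ := CfsgLib.Classical.Symp.exists_isometry (hΓ'.isAlt h2) hΓ'.nondeg (hΓ.isAlt h2) hΓ.nondeg
    (by rw [Module.finrank_fintype_fun_eq_card, Module.finrank_fintype_fun_eq_card]; exact hd)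
  obtain ⟨Γ'', -, hmem, hip⟩ := exists_altGram hΓ e
  have : Γ'' = Γ' := Matrix.toBilin'.injective (LinearMap.ext fun u => LinearMap.ext fun v => by
    show Matrix.toBilin' Γ'' u v = hΓ'.bf u v
    rw [← he, hΓ.bf_apply, Matrix.toBilin'_apply', hip])
  exact ⟨e, this ▸ hmem⟩

end CfsgLib.Geo.SympNorm
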