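import Cfsg.Agent.Lib.Geo.SympNorm.SpCent
import Cfsg.Agent.Lib.Geo.SympNorm.Fusion

/-!
# Conjugates of elements of `R` commuting with elements of `R`
-/

set_option autoImplicit false
set_option linter.unusedSectionVars false
set_option maxHeartbeats 1000000

namespace CfsgLib.Geo.SympNorm

open Matrix Cfsg.Geo

variable {ι : Type} [Fintype ι] [DecidableEq ι] {F : Type*} [Field F]

/-- An overgroup with small centralisers. -/
structure SpFus (Γ : Matrix ι ι F) (k : ℕ) (R M : Subgroup (GL ι F)) : Prop extends SpCtx Γ k R M where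
  three : 3 ≤ k
  cent : ∀ g ∈ M, ∀ a ∈ R, a ∉ scalars ι F → PC g a → g ∈ subgroupNormalizer R

/-- Two cosets. -/
theorem card_le_two_mul {G : Type*} [Group G] {D K : Subgroup G} [Finite D] (hKD : K ≤ D)
    (h : ∀ s ∈ D, ∀ t ∈ D, s ∉ K → t ∉ K → s * t ∈ K) : Nat.card D ≤ 2 * Nat.card K := by
  classical
  haveI : Finite K := Finite.of_injective (Subgroup.inclusion hKD) (Subgroup.inclusion_injective hKD)
  by_cases hall : D ≤ K
  · rw [le_antisymm hall hKD]; omega
  obtain ⟨t₀, ht₀, hne⟩ := SetLike.not_le_iff_exists.1 hall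
  let f : D → Bool × K := fun t =>
    if hc : (t : G) ∈ K then (true, ⟨t, hc⟩) else (false, ⟨t₀ * t, h t₀ ht₀ t t.2 hne hc⟩)
  have hf : Function.Injective f := by
    intro s t e
    by_cases hs : (s : G) ∈ K <;> by_cases ht : (t : G) ∈ K <;> simp [f, hs, ht] at e
    · exact e
    · exact e
  have := Nat.card_le_card_of_injective f hf
  simpa [Nat.card_prod] using this

namespace SpFus

variable {Γ : Matrix ι ι F} {k : ℕ} {R M : Subgroup (GL ι F)} (C : SpFus Γ k R M)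

include C

theorem pre : IsPre R := C.sp.pre

theorem big : 3 ≤ Fintype.card ι := by
  rw [C.sp.dim]
  calc 3 ≤ 2 ^ 2 := by norm_num
    _ ≤ _ := Nat.pow_le_pow_right two_pos (le_trans (by norm_num) C.three)

theorem conj_le {g r : GL ι F} (hg : g ∈ M) (hr : r ∈ R) : g * r * g⁻¹ ∈ M :=
  mul_mem (mul_mem hg (C.le hr)) (inv_mem hg)

theorem sq_conj (g : GL ι F) {r : GL ι F} (hr : r ∈ R) : g * r * g⁻¹ * (g * r * g⁻¹) ∈ scalars ι F := by
  rw [show g * r * g⁻¹ * (g * r * g⁻¹) = g * (r * r) * g⁻¹ by group, scalar_conj (C.pre.sq_mem hr)]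
  exact C.pre.sq_mem hr

theorem mem_of_pc {x : GL ι F} (hx : x ∈ isoGL Γ) (h : ∀ t ∈ R, PC x t) : x ∈ R := by
  obtain ⟨c, hc, e⟩ := C.pre.exists_smul_mem_of_pc h
  have := C.sp.mem_of_scalar (inv_mem hc) e (by rwa [inv_mul_cancel_left])
  rwa [inv_mul_cancel_left] at this

/-- An element moving a non-scalar element of `R` into `R` normalises `R`. -/
theorem mem_of_conj_mem {g r : GL ι F} (hg : g ∈ M) (hr : r ∈ R) (hr1 : r ∉ scalars ι F) (e : g * r * g⁻¹ ∈ R) :
    g ∈ subgroupNormalizer R := by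
  have hsq : g * r * g⁻¹ * (g * r * g⁻¹) = r * r := by
    rw [show g * r * g⁻¹ * (g * r * g⁻¹) = g * (r * r) * g⁻¹ by group, scalar_conj (C.pre.sq_mem hr)]
  obtain ⟨n, hn, hn'⟩ := C.sp.transitive C.three e hr (fun h => hr1 ((conj_mem_scalars g).1 h)) hr1 hsq
  have hnN : n ∈ subgroupNormalizer R := hn.1
  have hng : n * g ∈ subgroupNormalizer R := C.cent _ (mul_mem (C.above hn) hg) r hr hr1
    (pc_of_scalar (C.pre.sq_mem hr) (by rwa [show n * g * r * (n * g)⁻¹ = n * (g * r * g⁻¹) * n⁻¹ by group]))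
  have := mul_mem (inv_mem hnN) hng
  rwa [inv_mul_cancel_left] at this

/-- Fixed elements of two commuting conjugates agree. -/
theorem fixed_transfer {g r r' a s : GL ι F} (hg : g ∈ M) (hgn : g ∉ subgroupNormalizer R) (hr : r ∈ R)
    (hr1 : r ∉ scalars ι F) (hr' : r' ∈ R) (ha : a ∈ R) (ha1 : a ∉ scalars ι F) (hs : s ∈ R)
    (hra : PC (g * r' * g⁻¹) a) (hrs : PC (g * r * g⁻¹) s) : PC (g * r' * g⁻¹) s := by
  set y := g * r' * g⁻¹ with hy
  have hyN : y ∈ subgroupNormalizer R := C.cent y (C.conj_le hg hr') a ha ha1 hra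
  have hsN : g⁻¹ * s * g ∈ subgroupNormalizer R := by
    refine C.cent _ (mul_mem (mul_mem (inv_mem hg) (C.le hs)) hg) r hr hr1 ?_
    have := (hrs.symm).conj g⁻¹
    rwa [inv_inv, show g⁻¹ * (g * r * g⁻¹) * g = r by group] at this
  set c := y * s * y⁻¹ * s⁻¹ with hc
  have hc1 : c ∈ R := mul_mem ((Subgroup.mem_normalizer_iff.1 hyN s).1 hs) (inv_mem hs)
  have hc2 : g⁻¹ * c * g ∈ R := by
    rw [hc, hy, show g⁻¹ * (g * r' * g⁻¹ * s * (g * r' * g⁻¹)⁻¹ * s⁻¹) * g =
      r' * ((g⁻¹ * s * g) * r'⁻¹ * (g⁻¹ * s * g)⁻¹) by group]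
    exact mul_mem hr' ((Subgroup.mem_normalizer_iff.1 hsN _).1 (inv_mem hr'))
  refine pc_of_scalar (C.pre.sq_mem hs) ?_
  by_contra hcs
  refine hgn ?_
  have hgi : g⁻¹ ∈ subgroupNormalizer R := C.mem_of_conj_mem (inv_mem hg) hc1 hcs (by rwa [inv_inv])
  have := inv_mem hgi
  rwa [inv_inv] at this

/-- The data at a conjugate commuting with an element of `R`. -/
theorem data [Finite F] {g r a : GL ι F} (hg : g ∈ M) (hgn : g ∉ subgroupNormalizer R) (hr : r ∈ R)
    (hr1 : r ∉ scalars ι F) (ha : a ∈ R) (ha1 : a ∉ scalars ι F) (hra : PC (g * r * g⁻¹) a) :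
    (imageBar R (g * r * g⁻¹) = ((fixedBy R (g * r * g⁻¹)).map (bar : GL ι F →* _) : Set _)) ∧
      (∀ s ∈ fixedBy R (g * r * g⁻¹), ∀ t ∈ fixedBy R (g * r * g⁻¹), Commute s t) ∧
      2 ^ (k + 1) ≤ Nat.card (fixedBy R (g * r * g⁻¹)) := by
  classical
  have hgin : g⁻¹ ∉ subgroupNormalizer R := fun h => hgn (by have := inv_mem h; rwa [inv_inv] at this)
  have flip : ∀ {r' s : GL ι F}, PC (g * r' * g⁻¹) s → PC (g⁻¹ * s * g⁻¹⁻¹) r' := fun {r' s} h => by
    have := h.symm.conj g⁻¹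
    rw [inv_inv] at this ⊢
    rwa [show g⁻¹ * (g * r' * g⁻¹) * g = r' by group] at this
  -- the bound
  have bound : ∀ g ∈ M, g ∉ subgroupNormalizer R → ∀ r ∈ R, r ∉ scalars ι F → ∀ a ∈ R, a ∉ scalars ι F →
      PC (g * r * g⁻¹) a → (∃ t ∈ R, ¬ PC (g * r * g⁻¹) t) ∧ imageBar R (g * r * g⁻¹) ⊆ perpBar R (g * r * g⁻¹) ∧
      Nat.card ((fixedBy R (g⁻¹ * a * g)).map (bar : GL ι F →* _)) ≤ Nat.card (perpBar R (g * r * g⁻¹)) := by
    intro g hg hgn r hr hr1 a ha ha1 hra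
    set x := g * r * g⁻¹ with hx
    have hxN : x ∈ subgroupNormalizer R := C.cent x (C.conj_le hg hr) a ha ha1 hra
    have hxR : x ∉ R := fun h => hgn (C.mem_of_conj_mem hg hr hr1 h)
    have hperp : ∀ r' ∈ R, PC (g * r' * g⁻¹) a → r' ∉ scalars ι F → ∀ t ∈ R,
        bar (g * r' * g⁻¹ * t * (g * r' * g⁻¹)⁻¹ * t⁻¹) ∈ perpBar R x := by
      intro r' hr' hra' hr'1 t ht
      set y := g * r' * g⁻¹ with hy
      have hyN : y ∈ subgroupNormalizer R := C.cent y (C.conj_le hg hr') a ha ha1 hra'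
      set c := y * t * y⁻¹ * t⁻¹ with hc
      have hcR : c ∈ R := mul_mem ((Subgroup.mem_normalizer_iff.1 hyN t).1 ht) (inv_mem ht)
      have hyc : PC y c := by
        refine (C.pre.pc_iff hcR).2 ?_
        have e3 : bar y * bar y = 1 := by rw [← map_mul, bar_eq_one]; exact C.sq_conj g hr'
        have e5 := C.pre.bar_sq hcR
        simp only [hc, map_mul, map_inv] at e5 ⊢
        have e4 := C.pre.bar_comm ((Subgroup.mem_normalizer_iff.1 hyN t).1 ht) (inv_mem ht)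
        simp only [map_mul, map_inv] at e4
        rw [inv_eq_of_mul_eq_one_right e3] at e4 e5 ⊢
        have e6 : (bar t)⁻¹ = bar t := inv_eq_of_mul_eq_one_right (C.pre.bar_sq ht)
        rw [e6] at e4 e5 ⊢
        rw [show bar y * (bar y * bar t * bar y * bar t) * bar y = bar t * (bar y * bar t * bar y) by
          rw [← mul_assoc, ← mul_assoc, ← mul_assoc, e3, one_mul]; group, ← e4, inv_eq_of_mul_eq_one_right e5, e5]
      refine ⟨c, ⟨hcR, C.fixed_transfer hg hgn hr' hr'1 hr ha ha1 hcR hra hyc⟩, fun s hs => ?_, rfl⟩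
      have hys : PC y s := C.fixed_transfer hg hgn hr hr1 hr' ha ha1 hs.1 hra' hs.2
      rcases C.pre.sign t ht s hs.1 with e | e
      · have e' := commute_conj e y
        rcases hys.conj_mem with e1 | e1 <;> rw [e1] at e'
        · exact e'.mul_left e.inv_left
        · exact (Commute.neg_right_iff.1 e').mul_left e.inv_left
      · have e' := e.conj y
        rcases hys.conj_mem with e1 | e1 <;> rw [e1] at e'
        · exact (commute_of_ac_ac e'.symm e.inv_left.symm).symm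
        · have e'' : Ac (y * t * y⁻¹) s := by
            unfold Ac at e' ⊢
            rw [mul_neg, neg_mul, neg_neg] at e'
            exact neg_eq_iff_eq_neg.1 e'
          exact (commute_of_ac_ac e''.symm e.inv_left.symm).symm
    obtain ⟨t₀, ht₀, hxt⟩ : ∃ t ∈ R, ¬ PC x t := by
      by_contra! hc
      exact hxR (C.mem_of_pc (mul_mem (mul_mem (C.sub hg) (C.sp.le hr)) (inv_mem (C.sub hg))) hc)
    refine ⟨⟨t₀, ht₀, hxt⟩, ?_, ?_⟩
    · rintro _ ⟨⟨t, ht⟩, rfl⟩
      exact hperp r hr hra hr1 t ht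
    -- commutators with a fixed element
    have hB : ∀ q ∈ ((fixedBy R (g⁻¹ * a * g)).map (bar : GL ι F →* _)), ∃ r' ∈ R, PC (g * r' * g⁻¹) a ∧ bar r' = q := by
      rintro _ ⟨r', ⟨hr', hpc⟩, rfl⟩
      refine ⟨r', hr', ?_, rfl⟩
      have := hpc.symm.conj g
      rwa [show g * (g⁻¹ * a * g) * g⁻¹ = a by group] at this
    choose r' hr'R hr'a hr'q using fun q : ((fixedBy R (g⁻¹ * a * g)).map (bar : GL ι F →* _)) => hB q.1 q.2
    let ψ : ((fixedBy R (g⁻¹ * a * g)).map (bar : GL ι F →* _)) → perpBar R x := fun q =>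
      ⟨bar (g * r' q * g⁻¹ * t₀ * (g * r' q * g⁻¹)⁻¹ * t₀⁻¹), by
        by_cases h1 : r' q ∈ scalars ι F
        · refine ⟨1, ⟨one_mem R, Or.inl (Commute.one_right x)⟩, fun s _ => Commute.one_left s, ?_⟩
          rw [scalar_conj h1 g, (commute_scalar h1 t₀).eq, mul_inv_cancel_right, mul_inv_cancel, map_one]
        · exact hperp _ (hr'R q) (hr'a q) h1 t₀ ht₀⟩
    refine Nat.card_le_card_of_injective ψ fun q q' e => ?_
    have e1 : bar (g * r' q * g⁻¹ * t₀ * (g * r' q * g⁻¹)⁻¹ * t₀⁻¹) =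
        bar (g * r' q' * g⁻¹ * t₀ * (g * r' q' * g⁻¹)⁻¹ * t₀⁻¹) := congrArg Subtype.val e
    have hd : (r' q')⁻¹ * r' q ∈ R := mul_mem (inv_mem (hr'R q')) (hr'R q)
    have hsc : (r' q')⁻¹ * r' q ∈ scalars ι F := by
      by_contra hns
      refine hxt (C.fixed_transfer hg hgn hd hns hr ha ha1 ht₀ hra ((C.pre.pc_iff ht₀).2 ?_))
      simp only [map_mul, map_inv, _root_.mul_inv_rev, inv_inv] at e1 ⊢
      calc bar g * ((bar (r' q'))⁻¹ * bar (r' q)) * (bar g)⁻¹ * bar t₀ *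
            (bar g * ((bar (r' q))⁻¹ * bar (r' q') * (bar g)⁻¹)) * (bar t₀)⁻¹
          = (bar g * bar (r' q') * (bar g)⁻¹)⁻¹ *
              (bar g * bar (r' q) * (bar g)⁻¹ * bar t₀ * (bar g * ((bar (r' q))⁻¹ * (bar g)⁻¹)) * (bar t₀)⁻¹) *
              (bar t₀ * (bar g * bar (r' q') * (bar g)⁻¹) * (bar t₀)⁻¹) := by group
        _ = 1 := by rw [e1]; group
    refine Subtype.ext ?_
    rw [← hr'q q, ← hr'q q']
    have := bar_eq_one.2 hsc
    rw [map_mul, map_inv, inv_mul_eq_one] at this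
    exact this.symm
  obtain ⟨-, hsub, hb⟩ := bound g hg hgn r hr hr1 a ha ha1 hra
  set x := g * r * g⁻¹ with hx
  have hxN : x ∈ subgroupNormalizer R := C.cent x (C.conj_le hg hr) a ha ha1 hra
  obtain ⟨-, -, hb'⟩ := bound g⁻¹ (inv_mem hg) hgin a ha ha1 r hr hr1 (flip hra)
  rw [inv_inv] at hb'
  have hperp_le : ∀ z : GL ι F, perpBar R z ⊆ ((fixedBy R z).map (bar : GL ι F →* _) : Set _) := by
    rintro z _ ⟨c, hc, -, rfl⟩
    exact ⟨c, hc, rfl⟩
  have h1 := C.pre.card_perp_le hxN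
  have e1 : imageBar R x = perpBar R x := Set.eq_of_subset_of_ncard_le hsub
    (by rw [← Nat.card_coe_set_eq, ← Nat.card_coe_set_eq]; exact h1) (Set.toFinite _)
  have e2 : perpBar R x = ((fixedBy R x).map (bar : GL ι F →* _) : Set _) := by
    have h3 := Nat.card_mono (Set.toFinite _) (hperp_le (g⁻¹ * a * g))
    refine Set.eq_of_subset_of_ncard_le (hperp_le x) ?_ (Set.toFinite _)
    rw [← Nat.card_coe_set_eq, ← Nat.card_coe_set_eq]
    exact hb'.trans (h3.trans hb)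
  have hcomm : ∀ s ∈ fixedBy R x, ∀ t ∈ fixedBy R x, Commute s t := by
    intro s hs t ht
    obtain ⟨c, hc, hall, hbar⟩ : bar s ∈ perpBar R x := by rw [e2]; exact ⟨s, hs, rfl⟩
    have := (commute_scalar (bar_eq_iff.1 hbar.symm) t).mul_left (hall t ht)
    rwa [inv_mul_cancel_right] at this
  refine ⟨e1.trans e2, hcomm, ?_⟩
  haveI := C.sp.finite
  set Fx := fixedBy R x
  have hFR : Fx ≤ R := fun t ht => ht.1
  haveI : Finite Fx := Finite.of_injective (Subgroup.inclusion hFR) (Subgroup.inclusion_injective hFR)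
  -- the sign doubles
  have hA : 2 * Nat.card (Fx.map (bar : GL ι F →* _)) ≤ Nat.card Fx := by
    have hn1 : (-1 : GL ι F) ∈ Fx :=
      ⟨C.pre.neg_one_mem, (pc_scalar (neg_mem_scalars (one_mem _)) x).symm⟩
    have hσ : ∀ q : Fx.map (bar : GL ι F →* _), ∃ t ∈ Fx, bar t = (q : GL ι F ⧸ scalars ι F) := fun q => q.2
    choose σ hσ1 hσ2 using hσ
    let f : Bool × Fx.map (bar : GL ι F →* _) → Fx := fun p =>
      ⟨(bif p.1 then -1 else 1) * σ p.2, mul_mem (by cases p.1 <;> [exact one_mem Fx; exact hn1]) (hσ1 _)⟩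
    have hf : Function.Injective f := by
      rintro ⟨a, q⟩ ⟨a', q'⟩ e
      have e' := congrArg Subtype.val e
      have hb : bar (σ q) = bar (σ q') := by
        have e3 := congrArg (bar : GL ι F →* _) e'
        have hbn : ∀ b : Bool, bar ((bif b then -1 else 1 : GL ι F)) = 1 := fun b => bar_eq_one.2 (by
          cases b <;> [exact one_mem _; exact neg_mem_scalars (one_mem _)])
        simpa only [f, map_mul, hbn, one_mul] using e3
      obtain rfl : q = q' := Subtype.ext (by rw [← hσ2 q, ← hσ2 q', hb])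
      have e3 := mul_right_cancel (show (bif a then -1 else 1) * σ q = (bif a' then -1 else 1) * σ q from e')
      cases a <;> cases a' <;> simp [C.sp.neg_one_ne, Ne.symm C.sp.neg_one_ne] at e3 ⊢
    have := Nat.card_le_card_of_injective f hf
    simpa [Nat.card_prod] using this
  have hB : Nat.card R ≤ Nat.card (imageBar R x) * Nat.card Fx := by
    have hcR : ∀ t ∈ R, x * t * x⁻¹ ∈ R := fun t ht => (Subgroup.mem_normalizer_iff.1 hxN t).1 ht
    have hρ : ∀ q : imageBar R x, ∃ t : R, bar (x * (t : GL ι F) * x⁻¹ * (t : GL ι F)⁻¹) = (q : GL ι F ⧸ scalars ι F) :=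
      fun q => q.2
    choose σ hσ using hρ
    let ρ : R → imageBar R x := fun t => ⟨_, t, rfl⟩
    have hmem : ∀ t : R, (σ (ρ t) : GL ι F)⁻¹ * (t : GL ι F) ∈ Fx := by
      intro t
      set t' := σ (ρ t)
      refine ⟨mul_mem (inv_mem t'.2) t.2, (C.pre.pc_iff (mul_mem (inv_mem t'.2) t.2)).2 ?_⟩
      have e1 : bar (x * (t' : GL ι F) * x⁻¹ * (t' : GL ι F)⁻¹) = bar (x * (t : GL ι F) * x⁻¹ * (t : GL ι F)⁻¹) :=
        hσ (ρ t)
      have c1 := C.pre.bar_comm (hcR t t.2) (inv_mem t'.2)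
      simp only [map_mul, map_inv, _root_.mul_inv_rev, inv_inv] at e1 c1 ⊢
      calc bar x * ((bar (t' : GL ι F))⁻¹ * bar (t : GL ι F)) * (bar x)⁻¹ * ((bar (t : GL ι F))⁻¹ * bar (t' : GL ι F))
          = (bar x * bar (t' : GL ι F) * (bar x)⁻¹)⁻¹ * (bar x * bar (t : GL ι F) * (bar x)⁻¹ * (bar (t : GL ι F))⁻¹) *
              bar (t' : GL ι F) := by group
        _ = _ := by rw [← e1]; group
    let f : R → imageBar R x × Fx := fun t => (ρ t, ⟨_, hmem t⟩)
    have hf : Function.Injective f := by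
      intro s t e
      have e0 := congrArg Prod.fst e
      have e1 := congrArg (fun p => ((p.2 : Fx) : GL ι F)) e
      simp only [f] at e0 e1
      rw [e0] at e1
      exact Subtype.ext (mul_left_cancel e1)
    have := Nat.card_le_card_of_injective f hf
    simpa [Nat.card_prod] using this
  rw [e1.trans e2, C.sp.card] at hB
  have h3 : 2 ^ (k + 1) * 2 ^ (k + 1) ≤ Nat.card Fx * Nat.card Fx := by
    calc 2 ^ (k + 1) * 2 ^ (k + 1) = 2 * 2 ^ (1 + 2 * k) := by rw [← pow_add, ← pow_succ']; congr 1; omega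
      _ ≤ 2 * (Nat.card (Fx.map (bar : GL ι F →* _)) * Nat.card Fx) := Nat.mul_le_mul le_rfl hB
      _ ≤ Nat.card Fx * Nat.card Fx := by rw [← mul_assoc]; exact Nat.mul_le_mul hA le_rfl
  exact Nat.mul_self_le_mul_self_iff.1 h3

/-- The conjugates commute exactly with the fixed involutions. -/
theorem spread [Finite F] {g r a : GL ι F} (hg : g ∈ M) (hgn : g ∉ subgroupNormalizer R) (hr : r ∈ R)
    (hr1 : r ∉ scalars ι F) (ha : a ∈ R) (ha1 : a ∉ scalars ι F) (hra : PC (g * r * g⁻¹) a) :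
    ∀ r' ∈ fixedBy R (g⁻¹ * a * g), ∀ s ∈ fixedBy R (g * r * g⁻¹), s * s = 1 → Commute (g * r' * g⁻¹) s := by
  classical
  obtain ⟨-, hcomm, hcard⟩ := C.data hg hgn hr hr1 ha ha1 hra
  have hgin : g⁻¹ ∉ subgroupNormalizer R := fun h => hgn (by have := inv_mem h; rwa [inv_inv] at this)
  have flip : PC (g⁻¹ * a * g⁻¹⁻¹) r := by
    have := hra.symm.conj g⁻¹
    rw [inv_inv] at this ⊢
    rwa [show g⁻¹ * (g * r * g⁻¹) * g = r by group] at this
  obtain ⟨-, -, hcard'⟩ := C.data (inv_mem hg) hgin ha ha1 hr hr1 flip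
  rw [inv_inv] at hcard'
  set R' := fixedBy R (g⁻¹ * a * g) with hR'
  have hya : ∀ r' ∈ R', PC (g * r' * g⁻¹) a := fun r' hr' => by
    have := hr'.2.symm.conj g
    rwa [show g * (g⁻¹ * a * g) * g⁻¹ = a by group] at this
  set Fx := fixedBy R (g * r * g⁻¹)
  have hFR : Fx ≤ R := fun t ht => ht.1
  have hys : ∀ r' ∈ R', ∀ s ∈ Fx, PC (g * r' * g⁻¹) s := fun r' hr' s hs =>
    C.fixed_transfer hg hgn hr hr1 hr'.1 ha ha1 hs.1 (hya r' hr') hs.2
  haveI := C.sp.finite
  have step : ∀ u ∈ Fx, u * u = -1 → ∀ u' ∈ Fx, u' * u' = -1 → ∀ r₃ ∈ R',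
      Commute (g * r₃ * g⁻¹) u' → Commute (g * r₃ * g⁻¹) u := by
    intro u hu eu u' hu' eu' r₃ hr₃ h3
    let K : Subgroup (GL ι F) := R' ⊓ Subgroup.centralizer {g⁻¹ * u' * g}
    have hK : ∀ t, t ∈ K ↔ t ∈ R' ∧ Commute (g * t * g⁻¹) u' := by
      intro t
      refine Iff.and Iff.rfl (Subgroup.mem_centralizer_singleton_iff.trans ⟨fun h => ?_, fun h => ?_⟩)
      · have := commute_conj (show Commute t (g⁻¹ * u' * g) from h) g
        rwa [show g * (g⁻¹ * u' * g) * g⁻¹ = u' by group] at this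
      · have := commute_conj h g⁻¹
        rw [inv_inv, show g⁻¹ * (g * t * g⁻¹) * g = t by group] at this
        exact this
    have hR'R : R' ≤ R := fun t ht => ht.1
    haveI : Finite R' := Finite.of_injective (Subgroup.inclusion hR'R) (Subgroup.inclusion_injective hR'R)
    have hK2 : Nat.card R' ≤ 2 * Nat.card K := by
      refine card_le_two_mul inf_le_left fun s hs t ht hns hnt => (hK _).2 ⟨mul_mem hs ht, ?_⟩
      have a1 := (hys s hs u' hu').resolve_left fun e => hns ((hK s).2 ⟨hs, e⟩)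
      have a2 := (hys t ht u' hu').resolve_left fun e => hnt ((hK t).2 ⟨ht, e⟩)
      rw [show g * (s * t) * g⁻¹ = g * s * g⁻¹ * (g * t * g⁻¹) by group]
      exact (commute_of_ac_ac a1.symm a2.symm).symm
    have h16 : 2 ^ 4 ≤ 2 ^ (k + 1) := Nat.pow_le_pow_right two_pos (by have := C.three; omega)
    have hK8 : 4 < Nat.card K := by omega
    have hKR : K ≤ R := (inf_le_left : K ≤ R').trans hR'R
    obtain ⟨r₁, hr₁, hr₁1, hr₁u⟩ : ∃ r₁ ∈ K, r₁ ∉ scalars ι F ∧ Commute (g * r₁ * g⁻¹) u := by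
      obtain ⟨d₁, hd₁, hd₁1⟩ := C.sp.exists_not_scalar hKR (by omega)
      obtain ⟨d₂, hd₂, hd₂1, hd₂2⟩ := C.sp.exists_not_pair hKR hK8 (hKR hd₁)
      rcases hys d₁ ((hK d₁).1 hd₁).1 u hu with e | e
      · exact ⟨d₁, hd₁, hd₁1, e⟩
      rcases hys d₂ ((hK d₂).1 hd₂).1 u hu with e' | e'
      · exact ⟨d₂, hd₂, hd₂1, e'⟩
      refine ⟨d₂ * d₁, mul_mem hd₂ hd₁, fun h => hd₂2 ((C.pre.mul_inv_iff (hKR hd₁)).2 h), ?_⟩
      rw [show g * (d₂ * d₁) * g⁻¹ = g * d₂ * g⁻¹ * (g * d₁ * g⁻¹) by group]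
      exact (commute_of_ac_ac e'.symm e.symm).symm
    refine (hys r₃ hr₃ u hu).resolve_right fun hac => hgin ?_
    set n := pr C.sp.two u u' eu eu'
    have hn := C.above (C.sp.pr_mem hu.1 hu'.1 eu eu')
    have hny : Commute n (g * r₁ * g⁻¹) :=
      pr_commute C.sp.two eu eu' hr₁u ((hK r₁).1 hr₁).2
    have hm : g⁻¹ * n * g ∈ subgroupNormalizer R := by
      refine C.cent _ (mul_mem (mul_mem (inv_mem hg) hn) hg) r₁ (hKR hr₁) hr₁1 (Or.inl ?_)
      have := commute_conj hny g⁻¹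
      rwa [inv_inv, show g⁻¹ * (g * r₁ * g⁻¹) * g = r₁ by group] at this
    have h1 := (Subgroup.mem_normalizer_iff.1 hm r₃).1 hr₃.1
    have h2 : n * (g * r₃ * g⁻¹) * n⁻¹ = -(g * r₃ * g⁻¹ * u) := pr_ac C.sp.two eu eu' hac h3
    rw [show g⁻¹ * n * g * r₃ * (g⁻¹ * n * g)⁻¹ = g⁻¹ * (n * (g * r₃ * g⁻¹) * n⁻¹) * g by group, h2] at h1
    have h4 := mul_mem (inv_mem hr₃.1) (C.pre.neg_mem h1)
    simp only [mul_neg, neg_mul, neg_neg] at h4
    rw [show r₃⁻¹ * (g⁻¹ * (g * r₃ * g⁻¹ * u) * g) = g⁻¹ * u * g by group] at h4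
    exact C.mem_of_conj_mem (inv_mem hg) hu.1 (C.sp.not_scalar_of_nons hu.1 eu) (by rwa [inv_inv])
  obtain ⟨u, hu, eu⟩ := C.sp.exists_nons hFR hcard
  intro r' hr' s hs es
  have hsu : s * u ∈ Fx := mul_mem hs hu
  have esu : s * u * (s * u) = -1 := by rw [commute_sq_mul (hcomm s hs u hu), es, eu, one_mul]
  rcases hys r' hr' u hu with e | e
  · have := (step (s * u) hsu esu u hu eu r' hr' e).mul_right e.inv_right
    rwa [mul_inv_cancel_right] at this
  · have e' : Ac (g * r' * g⁻¹) (s * u) := (hys r' hr' (s * u) hsu).resolve_left fun h =>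
      C.pre.not_both (step u hu eu (s * u) hsu esu r' hr' h) e
    have := commute_of_ac_ac e' e.symm.inv_left.symm
    rwa [mul_inv_cancel_right] at this

/-- Weak closure. -/
theorem weak [Finite F] {g r a : GL ι F} (hg : g ∈ M) (hr : r ∈ R) (hr1 : r ∉ scalars ι F) (ha : a ∈ R)
    (ha1 : a ∉ scalars ι F) (hra : PC (g * r * g⁻¹) a) : g ∈ subgroupNormalizer R := by
  classical
  by_contra hgn
  have hgin : g⁻¹ ∉ subgroupNormalizer R := fun h => hgn (by have := inv_mem h; rwa [inv_inv] at this)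
  have flip : PC (g⁻¹ * a * g⁻¹⁻¹) r := by
    have := hra.symm.conj g⁻¹
    rw [inv_inv] at this ⊢
    rwa [show g⁻¹ * (g * r * g⁻¹) * g = r by group] at this
  obtain ⟨-, hcomm', hcard'⟩ := C.data (inv_mem hg) hgin ha ha1 hr hr1 flip
  rw [inv_inv] at hcomm' hcard'
  set R' := fixedBy R (g⁻¹ * a * g)
  have hR'R : R' ≤ R := fun t ht => ht.1
  obtain ⟨r₀, hr₀', hr₀1, er₀⟩ : ∃ r₀ ∈ R', r₀ ∉ scalars ι F ∧ r₀ * r₀ = 1 := by
    have h16 : 2 ^ 4 ≤ 2 ^ (k + 1) := Nat.pow_le_pow_right two_pos (by have := C.three; omega)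
    obtain ⟨d₁, hd₁, hd₁1⟩ := C.sp.exists_not_scalar hR'R (by omega)
    rcases C.sp.sq d₁ (hR'R hd₁) with e | e
    · exact ⟨d₁, hd₁, hd₁1, e⟩
    obtain ⟨d₂, hd₂, hd₂1, hd₂2⟩ := C.sp.exists_not_pair hR'R (by omega) (hR'R hd₁)
    rcases C.sp.sq d₂ (hR'R hd₂) with e' | e'
    · exact ⟨d₂, hd₂, hd₂1, e'⟩
    exact ⟨d₂ * d₁, mul_mem hd₂ hd₁, fun h => hd₂2 ((C.pre.mul_inv_iff (hR'R hd₁)).2 h),
      by rw [commute_sq_mul (hcomm' d₂ hd₂ d₁ hd₁), e', e, neg_mul_neg, one_mul]⟩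
  have hr₀ : r₀ ∈ R := hR'R hr₀'
  have hr₀a : PC (g * r₀ * g⁻¹) a := by
    have := hr₀'.2.symm.conj g
    rwa [show g * (g⁻¹ * a * g) * g⁻¹ = a by group] at this
  obtain ⟨hI, -, -⟩ := C.data hg hgn hr₀ hr₀1 ha ha1 hr₀a
  set x := g * r₀ * g⁻¹ with hx
  have hxN : x ∈ subgroupNormalizer R := C.cent x (C.conj_le hg hr₀) a ha ha1 hr₀a
  have hcomA : ∀ u ∈ R, PC x u → Commute x u := by
    intro u hu hxu
    have hru : PC (g * r * g⁻¹) u := C.fixed_transfer hg hgn hr₀ hr₀1 hr ha ha1 hu hra hxu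
    have hm := C.spread (inv_mem hg) hgin ha ha1 hr hr1 flip u (by
      show u ∈ fixedBy R (g⁻¹⁻¹ * r * g⁻¹)
      rw [inv_inv]; exact ⟨hu, hru⟩) r₀ (by rw [inv_inv]; exact hr₀') er₀
    have := commute_conj hm g
    rw [show g * (g⁻¹ * u * g⁻¹⁻¹) * g⁻¹ = u by group] at this
    exact this.symm
  -- the trace
  have hzero : (x : Matrix ι ι F) = 0 := by
    refine C.pre.eq_zero_of_trace fun s hs => ?_
    by_cases hxs : PC x s
    · have hq : bar s ∈ imageBar R x := by rw [hI]; exact ⟨s, ⟨hs, hxs⟩, rfl⟩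
      obtain ⟨⟨t, ht⟩, e⟩ := hq
      obtain ⟨d, hd⟩ := (mem_scalars_iff _).1 (bar_eq_iff.1 e.symm)
      obtain ⟨d', hd'⟩ := (mem_scalars_iff _).1 (C.sq_conj g hr₀)
      obtain ⟨d'', hd''⟩ := (mem_scalars_iff _).1 (inv_mem (C.sq_conj g hr₀))
      have e2 : x * s = (s * (x * t * x⁻¹ * t⁻¹)⁻¹) * (x * x) * (t * x⁻¹ * t⁻¹) := by
        have hc := commute_scalar (bar_eq_iff.1 e.symm) x
        calc x * s = x * (s * (x * t * x⁻¹ * t⁻¹)⁻¹) * (x * t * x⁻¹ * t⁻¹) := by group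
          _ = _ := by rw [← hc.eq]; group
      have e3 : (x⁻¹ : GL ι F) = (x * x)⁻¹ * x := by group
      show (((x : GL ι F) : Matrix ι ι F) * (s : Matrix ι ι F)).trace = 0
      rw [← Units.val_mul, e2, Units.val_mul, Units.val_mul, hd, hd', Units.val_mul, Units.val_mul]
      simp only [smul_mul_assoc, one_mul, trace_smul]
      rw [trace_mul_cycle, Units.inv_mul, one_mul, e3, Units.val_mul, hd'', smul_mul_assoc, one_mul, trace_smul, hx,
        Units.val_mul, Units.val_mul, trace_mul_cycle, Units.inv_mul, one_mul, C.pre.trace_zero hr₀ hr₀1]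
      simp
    · obtain ⟨u, hu, hxu, hsu⟩ : ∃ u ∈ R, PC x u ∧ Ac s u := by
        by_contra! hc
        refine hxs ?_
        have hxs' : x * s * x⁻¹ * s⁻¹ ∈ scalars ι F := by
          refine C.pre.scalar_of_commute fun t ht => ?_
          have hcR : x⁻¹ * t * x * t⁻¹ ∈ R := by
            have := (Subgroup.mem_normalizer_iff.1 (inv_mem hxN) t).1 ht
            rw [inv_inv] at this
            exact mul_mem this (inv_mem ht)
          obtain ⟨c, ⟨hcf, hxc⟩, hc'⟩ : bar (x⁻¹ * t * x * t⁻¹) ∈ ((fixedBy R x).map (bar : GL ι F →* _) : Set _) := by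
            rw [← hI]
            refine ⟨⟨t, ht⟩, ?_⟩
            have e3 : bar x * bar x = 1 := by rw [← map_mul, bar_eq_one]; exact C.sq_conj g hr₀
            simp only [map_mul, map_inv, inv_eq_of_mul_eq_one_right e3]
          have hsc : Commute s c := (C.pre.sign s hs c hcf).resolve_right (hc c hcf hxc)
          have hscc : Commute s (x⁻¹ * t * x * t⁻¹) := by
            have := bar_eq_iff.1 hc'.symm
            have h5 := (commute_scalar this s).symm.mul_right hsc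
            rwa [show x⁻¹ * t * x * t⁻¹ * c⁻¹ * c = x⁻¹ * t * x * t⁻¹ by group] at h5
          rcases C.pre.sign s hs t ht with e | e
          · have := commute_conj (hscc.mul_right e) x
            rw [show x * (x⁻¹ * t * x * t⁻¹ * t) * x⁻¹ = t by group] at this
            exact this.mul_left e.inv_left
          · have := (Ac.mul_right' hscc e).conj x
            rw [show x * (x⁻¹ * t * x * t⁻¹ * t) * x⁻¹ = t by group] at this
            exact (commute_of_ac_ac this.symm e.inv_left.symm).symm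
        exact pc_of_scalar (C.pre.sq_mem hs) hxs'
      have hac : Ac (x * s) u := Ac.mul_left' (hcomA u hu hxu) hsu
      have e := congrArg (fun Z : GL ι F => (Z : Matrix ι ι F).trace) hac.symm.conj_eq
      simp only [Units.val_mul, Units.val_neg, trace_neg] at e
      rw [trace_mul_cycle, Units.inv_mul, one_mul] at e
      exact (mul_eq_zero.1 (show (2 : F) * ((x : Matrix ι ι F) * (s : Matrix ι ι F)).trace = 0 by
        linear_combination e)).resolve_left C.pre.two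
  haveI := C.pre.nonempty
  have := Units.mul_inv x
  rw [hzero, zero_mul] at this
  exact zero_ne_one this

/-- A conjugate of an element of `R` lying in the normaliser lies in `R`. -/
theorem extended [Finite F] {g r : GL ι F} (hg : g ∈ M) (hr : r ∈ R) (hr1 : r ∉ scalars ι F)
    (hN : g * r * g⁻¹ ∈ subgroupNormalizer R) : g ∈ subgroupNormalizer R := by
  obtain ⟨t, ht, ht1, -, hpc⟩ := C.pre.exists_fixed C.big hN (C.sq_conj g hr) hr hr1
  exact C.weak hg hr hr1 ht ht1 hpc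

/-- The overgroup normalises. -/
theorem le_normalizer [Finite F] : M ≤ subgroupNormalizer R := by
  intro g hg
  by_contra hgn
  obtain ⟨u, hu, eu⟩ := C.sp.exists_nons le_rfl (by
    rw [C.sp.card]; exact Nat.pow_le_pow_right two_pos (by have := C.three; omega))
  have hu1 := C.sp.not_scalar_of_nons hu eu
  obtain ⟨a, ha, haa, ha1, -⟩ := C.sp.exists_sing (le_trans (by norm_num) C.three) hu
  set f := g * u * g⁻¹ with hf
  have hff : f * f = -1 := by
    rw [hf, show g * u * g⁻¹ * (g * u * g⁻¹) = g * (u * u) * g⁻¹ by group, eu,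
      scalar_conj (neg_mem_scalars (one_mem _))]
  have hfM : f ∈ M := C.conj_le hg hu
  have hsc : scalars ι F ⊓ isoGL Γ ≤ R := fun c hc => C.mem_of_scalar hc.1 hc.2
  have hcl : Subgroup.closure ({a, f} : Set (GL ι F)) ≤ M := (Subgroup.closure_le _).2 (by
    rintro y (rfl | rfl)
    exacts [C.le ha, hfM])
  rcases dihedral_mod (C.pre.sq_mem ha) (hff ▸ neg_mem_scalars (one_mem _)) with
    ⟨h, hh, e⟩ | ⟨w, hw, hw1, -, hwa, hwf, h, hh, e⟩
  · have hhM := hcl hh
    rcases C.sp.eq_or_neg e (C.sub (mul_mem (C.conj_le hhM ha) (inv_mem hfM))) with e' | e'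
    · have := mul_inv_eq_one.1 e'
      have h1 : h * a * h⁻¹ * (h * a * h⁻¹) = 1 := by
        rw [show h * a * h⁻¹ * (h * a * h⁻¹) = h * (a * a) * h⁻¹ by group, haa, mul_one, mul_inv_cancel]
      rw [this, hff] at h1
      exact C.sp.neg_one_ne h1
    · have := mul_inv_eq_iff_eq_mul.1 e'
      have h1 : h * a * h⁻¹ * (h * a * h⁻¹) = 1 := by
        rw [show h * a * h⁻¹ * (h * a * h⁻¹) = h * (a * a) * h⁻¹ by group, haa, mul_one, mul_inv_cancel]
      rw [this, neg_one_mul, neg_mul_neg, hff] at h1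
      exact C.sp.neg_one_ne h1
  have hwM : w ∈ M := hcl hw
  have hwN : w ∈ subgroupNormalizer R := C.cent w hwM a ha ha1 hwa
  have hwaN : w * a ∈ subgroupNormalizer R := mul_mem hwN (Subgroup.le_normalizer ha)
  have key : ∀ b ∈ R, b ∉ scalars ι F → ∀ m ∈ M, w * a * (m * b * m⁻¹)⁻¹ ∈ scalars ι F → w ∈ R := by
    intro b hb hb1 m hm e
    have hcR : w * a * (m * b * m⁻¹)⁻¹ ∈ R :=
      hsc ⟨e, C.sub (mul_mem (mul_mem hwM (C.le ha)) (inv_mem (C.conj_le hm hb)))⟩
    have hmbN : m * b * m⁻¹ ∈ subgroupNormalizer R := by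
      rw [show m * b * m⁻¹ = (w * a * (m * b * m⁻¹)⁻¹)⁻¹ * (w * a) by group]
      exact mul_mem (inv_mem (show _ ∈ subgroupNormalizer R from Subgroup.le_normalizer hcR)) hwaN
    have hmbR := (Subgroup.mem_normalizer_iff.1 (C.extended hm hb hb1 hmbN) b).1 hb
    have := mul_mem (mul_mem hcR hmbR) (inv_mem ha)
    rwa [inv_mul_cancel_right, mul_inv_cancel_right] at this
  have hwR : w ∈ R := by
    rcases e with e | e
    · exact key a ha ha1 h (hcl hh) e
    · refine key u hu hu1 (h * g) (mul_mem (hcl hh) hg) ?_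
      rwa [show h * g * u * (h * g)⁻¹ = h * f * h⁻¹ by rw [hf]; group]
  exact hgn (C.weak hg hu hu1 hwR hw1 hwf.symm)

end SpFus

end CfsgLib.Geo.SympNorm
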