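import Cfsg.Agent.Lib.Geo.SympNorm.SpFusion
import Cfsg.Agent.Lib.Geo.KleinSp.SympType
import Cfsg.Agent.Lib.Geo.Asch.UnitNine

/-!
# Overgroups of the normaliser in the symplectic group
-/

set_option autoImplicit false
set_option linter.unusedSectionVars false

namespace CfsgLib.Geo.SympNorm

open Matrix Cfsg.Geo

variable {ι : Type} [Fintype ι] [DecidableEq ι] {F : Type*} [Field F]

/-- The isometries of the standard form. -/
theorem isoGL_J (m : ℕ) : isoGL (Matrix.J (Fin m) F) = Cfsg.spGL m F := by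
  ext g
  rw [mem_isoGL, ← SymplecticGroup.mem_iff', CfsgLib.Classical.Symp.mem_symplecticGroup_iff_form]
  rfl

theorem isAltGram_J (m : ℕ) : IsAltGram (Matrix.J (Fin m) F) :=
  ⟨Matrix.J_transpose _ _, Matrix.isUnit_det_J _ _⟩

namespace IsSp

variable {Γ : Matrix ι ι F} {k : ℕ} {R : Subgroup (GL ι F)} (h : IsSp Γ k R)

include h

theorem mem_center_iff {x : GL ι F} (hx : x ∈ R) :
    (⟨x, hx⟩ : R) ∈ Subgroup.center R ↔ x = 1 ∨ x = -1 := by
  rw [Subgroup.mem_center_iff]
  refine ⟨fun hc => ?_, ?_⟩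
  · have hs : x ∈ scalars ι F := h.pre.scalar_of_commute fun t ht => (congrArg Subtype.val (hc ⟨t, ht⟩)).symm
    exact h.eq_or_neg hs (h.le hx)
  · rintro (rfl | rfl) t <;> exact Subtype.ext (by simp)

theorem card_center : Nat.card (Subgroup.center R) = 2 := by
  classical
  haveI := h.finite
  let u : R := ⟨-1, h.neg_one_mem⟩
  have e : (Subgroup.center R : Set R) = {1, u} := by
    ext ⟨x, hx⟩
    rw [SetLike.mem_coe, h.mem_center_iff hx]
    simp [u, Subtype.ext_iff]
  have hne : (1 : R) ≠ u := fun e => h.neg_one_ne (congrArg Subtype.val e).symm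
  rw [← SetLike.coe_sort_coe, e, Nat.card_coe_set_eq, Set.ncard_pair hne]

theorem card_quot : Nat.card (↥R ⧸ Subgroup.center R) = 2 ^ (2 * k) := by
  have := Subgroup.card_eq_card_quotient_mul_card_subgroup (Subgroup.center R)
  rw [h.card, h.card_center, pow_add, pow_one] at this
  omega

theorem isOfMinusType : IsOfMinusType k R := fun A hA hsq => by
  rw [← Subgroup.card_map_of_injective (f := R.subtype) R.subtype_injective]
  refine h.minus _ (by rintro _ ⟨x, -, rfl⟩; exact x.2) ?_ ?_
  · rintro _ ⟨x, hx, rfl⟩ _ ⟨y, hy, rfl⟩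
    exact (congrArg Subtype.val (congrArg Subtype.val (hA.is_comm.comm ⟨x, hx⟩ ⟨y, hy⟩)) :)
  · rintro _ ⟨x, hx, rfl⟩
    exact (congrArg Subtype.val (hsq x hx) :)

end IsSp

/-- Four dimensions. -/
theorem sp_dich_two [Fintype F] (hp : (Fintype.card F).Prime) : Dich F 2 := by
  intro κ _ _ Γ R M C
  classical
  have h2 := C.sp.two
  have hodd : Odd (Fintype.card F) := hp.odd_of_ne_two fun e => h2 (by
    have := FiniteField.cast_card_eq_zero F
    rw [e] at this; exact_mod_cast this)
  have hd : Fintype.card (Fin 2 ⊕ Fin 2) = Fintype.card κ := by rw [C.sp.dim]; rfl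
  obtain ⟨L, hmem⟩ := exists_coord_gram h2 C.sp.gram (isAltGram_J 2) hd
  have C' := C.map L (isAltGram_J 2) hmem
  set Φ := (coordGL L).toMonoidHom
  set R' := R.map Φ
  have hS := C'.sp
  have hP : Pauli.IsPauli R' :=
    { card4 := rfl
      two := h2
      abs := CfsgLib.Geo.Asch.absIrred_of_span_top hS.span
      fin := hS.finite
      sign := hS.sign
      sq := hS.sq
      index := hS.card_quot }
  obtain ⟨f⟩ := hP.exists_frame_minus hS.isOfMinusType fun c hc hs => hS.eq_or_neg hs (hS.le hc)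
  obtain ⟨-, hmax⟩ := KleinSp.isMaximalIn_of_frame hp hodd (hS.le.trans (isoGL_J 2).le) f hS.sign
  rw [← isoGL_J] at hmax
  rcases hmax _ C'.above C'.sub with e | e
  · exact Or.inl fun g hg => (coord_mem_normalizer L).1 (e.le ⟨g, hg, rfl⟩).1
  · refine Or.inr fun g hg => ?_
    obtain ⟨g', hg', e'⟩ := e.ge ((hmem g).2 hg)
    exact (coordGL L).injective e' ▸ hg'

/-- The normaliser or everything. -/
theorem sp_dichotomy [Fintype F] (hp : (Fintype.card F).Prime) {k : ℕ} (hk : 2 ≤ k) : Dich F k := by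
  induction k, hk using Nat.le_induction with
  | base => exact sp_dich_two hp
  | succ k hk ih =>
    intro κ _ _ Γ R M C
    by_cases hS : isoGL Γ ≤ M
    · exact Or.inr hS
    · have C' : SpFus Γ (k + 1) R M := { C with three := by omega, cent := C.cent hp hk ih hS }
      exact Or.inl C'.le_normalizer

end CfsgLib.Geo.SympNorm
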