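import Cfsg.Agent.Lib.Geo.SympNorm.Core
import Cfsg.Agent.Lib.Geo.Roots
import Cfsg.Agent.Lib.Geo.PGLTwoMaximal

/-!
# Dimension two, from the finite subgroups of the Möbius group
-/

set_option autoImplicit false

namespace CfsgLib.Geo.SympNorm

open Matrix Cfsg.Geo
open CfsgLib.Classical.Dickson

variable {F : Type*} [Field F] [Fintype F]

set_option maxRecDepth 100000 in
set_option maxHeartbeats 2000000 in
theorem perm_four_squares : ∀ r s : Equiv.Perm (Fin 4), r ^ 4 = 1 → s ^ 4 = 1 →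
    r ^ 2 * s ^ 2 = s ^ 2 * r ^ 2 := by decide

set_option maxRecDepth 100000 in
theorem alt_four_sq : ∀ g : alternatingGroup (Fin 4), g ^ 4 = 1 → g ^ 2 = 1 := by decide

set_option maxRecDepth 100000 in
theorem alt_five_sq : ∀ g : alternatingGroup (Fin 5), g ^ 4 = 1 → g ^ 2 = 1 := by decide

/-- A projective image of at least half the order, or the normaliser. -/
theorem two_cases (p : ℕ) [Fact p.Prime] [CharP F p] {R M : Subgroup (GL (Fin 2) F)} (h : IsSymp R) (hle : R ≤ M)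
    (hT : h.HasTv M) :
    M ≤ subgroupNormalizer R ∨
      (p * (p ^ 2 - 1) ≤ 2 * Nat.card (M.map (ProjGenLinGroup.mk (n := Fin 2) (R := F))) ∧
        p ∣ Nat.card (M.map (ProjGenLinGroup.mk (n := Fin 2) (R := F)))) := by
  classical
  let L := AlgebraicClosure F
  haveI : CharP L p := charP_of_injective_algebraMap (algebraMap F L).injective p
  have hp : p.Prime := Fact.out
  have hp2 : p ≠ 2 := fun e => h.two (by
    subst e
    exact_mod_cast CharP.cast_eq_zero F 2)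
  set π := ((ProjGenLinGroup.map (n := Fin 2) (algebraMap F L)).comp
    (ProjGenLinGroup.mk (n := Fin 2) (R := F))) with hπ
  have hinj := pglMap_injective (algebraMap F L)
  set G : Subgroup (Mob L) := (M.map (ProjGenLinGroup.mk (n := Fin 2) (R := F))).map
    (ProjGenLinGroup.map (algebraMap F L)) with hG
  haveI : Finite G := Finite.of_equiv _
    ((M.map (ProjGenLinGroup.mk (n := Fin 2) (R := F))).equivMapOfInjective _ hinj).toEquiv
  let ψ : M →* G := (π.comp M.subtype).codRestrict G fun m => ⟨_, ⟨m, m.2, rfl⟩, rfl⟩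
  have hker : ∀ m : M, ψ m = 1 ↔ (m : GL (Fin 2) F) ∈ scalars (Fin 2) F := by
    intro m
    rw [Subtype.ext_iff]
    show ProjGenLinGroup.map (algebraMap F L) (ProjGenLinGroup.mk (m : GL (Fin 2) F)) = 1 ↔ _
    rw [map_eq_one_iff _ hinj, ProjGenLinGroup.mk_eq_one, Matrix.GeneralLinearGroup.center_eq_range_scalar]
    rfl
  have hcomm : ∀ x y : M, Commute (ψ x) (ψ y) →
      (x : GL (Fin 2) F) * y * (x : GL (Fin 2) F)⁻¹ * (y : GL (Fin 2) F)⁻¹ ∈ scalars (Fin 2) F := by
    intro x y e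
    have := (hker (x * y * x⁻¹ * y⁻¹)).1 (by
      rw [map_mul, map_mul, map_mul, map_inv, map_inv, e.eq, mul_inv_cancel_right, mul_inv_cancel])
    simpa using this
  -- the rotation of an element of square minus one
  have rot : ∀ x : GL (Fin 2) F, x ∈ R → (hx : x * x = -1) →
      ∃ (X T : M), (X : GL (Fin 2) F) = x ∧ (T : GL (Fin 2) F) = tv h.two x hx ∧ ψ T ^ 2 = ψ X ∧ ψ T ^ 4 = 1 := by
    intro x hx hxx
    refine ⟨⟨x, hle hx⟩, ⟨_, hT x hx hxx⟩, rfl, rfl, ?_⟩
    have e2 : ψ ⟨_, hT x hx hxx⟩ ^ 2 = ψ ⟨x, hle hx⟩ := by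
      rw [pow_two, ← mul_inv_eq_one, ← map_mul, ← map_inv, ← map_mul, hker]
      show tv h.two x hxx * tv h.two x hxx * x⁻¹ ∈ scalars (Fin 2) F
      rw [tv_mul_self, mul_inv_cancel_right]
      exact sc_mem _ _
    refine ⟨e2, ?_⟩
    rw [show 4 = 2 * 2 from rfl, pow_mul, e2, pow_two, ← map_mul, hker]
    show x * x ∈ scalars (Fin 2) F
    exact h.sq_mem hx
  -- the commutation property gives the normaliser
  have fin : (∀ g : M, ∀ x : GL (Fin 2) F, ∀ hx : x ∈ R, x * x = -1 → x ∉ scalars (Fin 2) F →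
      ∀ t : GL (Fin 2) F, ∀ ht : t ∈ R, t * t = -1 → t ∉ scalars (Fin 2) F →
        Commute (ψ g * ψ ⟨x, hle hx⟩ * (ψ g)⁻¹) (ψ ⟨t, hle ht⟩)) → M ≤ subgroupNormalizer R := by
    intro hP
    have one : ∀ g ∈ M, ∀ x ∈ R, g * x * g⁻¹ ∈ R := by
      intro g hg x hx
      obtain ⟨c, hc, hcx, hxx, -, -⟩ := h.normed_props hx
      suffices H : g * (c * x) * g⁻¹ ∈ R by
        rw [show g * (c * x) * g⁻¹ = g * c * g⁻¹ * (g * x * g⁻¹) by group, scalar_conj hc] at H
        have := mul_mem (h.scal (inv_mem hc)) H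
        rwa [inv_mul_cancel_left] at this
      by_cases hy1 : c * x ∈ scalars (Fin 2) F
      · rw [scalar_conj hy1]; exact h.scal hy1
      refine h.mem_of_pc fun t ht => ?_
      obtain ⟨d, hd, hdt, htt, -, -⟩ := h.normed_props ht
      suffices H : PC (g * (c * x) * g⁻¹) (d * t) by
        have := (pc_scalar (inv_mem hd) _).symm.mul_right H
        rwa [inv_mul_cancel_left] at this
      by_cases ht1 : d * t ∈ scalars (Fin 2) F
      · exact (pc_scalar ht1 _).symm
      refine pc_of_scalar (h.sq_mem hdt) ?_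
      exact hcomm (⟨g, hg⟩ * ⟨c * x, hle hcx⟩ * ⟨g, hg⟩⁻¹) ⟨d * t, hle hdt⟩ (by
        rw [map_mul, map_mul, map_inv]; exact hP ⟨g, hg⟩ _ hcx hxx hy1 _ hdt htt ht1)
    intro g hg
    refine Subgroup.mem_normalizer_iff.2 fun x => ⟨one g hg x, fun hx => ?_⟩
    have := one g⁻¹ (inv_mem hg) _ hx
    rwa [show g⁻¹ * (g * x * g⁻¹) * g⁻¹⁻¹ = x by group] at this
  have nonone : ∀ x : GL (Fin 2) F, ∀ hx : x ∈ R, x ∉ scalars (Fin 2) F → ψ ⟨x, hle hx⟩ ≠ 1 :=
    fun x hx hx1 e => hx1 ((hker _).1 e)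
  rcases structure_cases (p := p) (G := G) with hC | hC | hC | hC | hC | hC | hC
  · left
    refine fin fun g x hx hxx hx1 t ht htt ht1 => ?_
    obtain ⟨gen, hgen⟩ := hC.1.exists_generator
    obtain ⟨m, hm⟩ := hgen (ψ g * ψ ⟨x, hle hx⟩ * (ψ g)⁻¹)
    obtain ⟨n, hn⟩ := hgen (ψ ⟨t, hle ht⟩)
    rw [← hm, ← hn]
    exact Commute.zpow_zpow_self gen m n
  · left
    refine fin fun g x hx hxx hx1 t ht htt ht1 => ?_
    exfalso
    obtain ⟨-, pt, hpt⟩ := hC
    obtain ⟨μ, hμ, -, -⟩ := exists_stab_hom (p := p) (G := G) pt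
    obtain ⟨y, hy, hxy⟩ := h.exists_ac hx hx1
    obtain ⟨X, T, hX, hTv, -, -⟩ := rot x hx hxx
    obtain rfl : X = ⟨x, hle hx⟩ := Subtype.ext hX
    set Y : M := ⟨y, hle hy⟩
    let T' : MulAction.stabilizer G pt := ⟨ψ T, hpt _⟩
    let Y' : MulAction.stabilizer G pt := ⟨ψ Y, hpt _⟩
    have h1 : ((T' * Y' * T'⁻¹ * Y'⁻¹ : MulAction.stabilizer G pt) : G) ^ p = 1 :=
      (hμ _).1 (by rw [map_mul, map_mul, map_mul, map_inv, map_inv, mul_inv_cancel_comm, mul_inv_cancel])
    have e : ((T' * Y' * T'⁻¹ * Y'⁻¹ : MulAction.stabilizer G pt) : G) = ψ ⟨x, hle hx⟩ := by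
      show ψ T * ψ Y * (ψ T)⁻¹ * (ψ Y)⁻¹ = _
      rw [← map_inv, ← map_inv, ← map_mul, ← map_mul, ← map_mul, ← mul_inv_eq_one, ← map_inv, ← map_mul, hker]
      show (T : GL (Fin 2) F) * y * (T : GL (Fin 2) F)⁻¹ * y⁻¹ * x⁻¹ ∈ scalars (Fin 2) F
      rw [hTv, tv_ac h.two hxx hxy.symm, neg_mul, neg_mul, show y * x = -(x * y) from hxy.symm, neg_mul, neg_mul,
        neg_neg, mul_inv_cancel_right, mul_inv_cancel]
      exact one_mem _
    rw [e] at h1
    have hq : ψ ⟨x, hle hx⟩ ^ 2 = 1 := by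
      rw [pow_two, ← map_mul, hker]; exact h.sq_mem hx
    have hd := Nat.dvd_gcd (orderOf_dvd_of_pow_eq_one hq) (orderOf_dvd_of_pow_eq_one h1)
    rw [(Nat.coprime_primes Nat.prime_two hp).2 (Ne.symm hp2), Nat.dvd_one, orderOf_eq_one_iff] at hd
    exact nonone x hx hx1 hd
  · left
    obtain ⟨n, -, -, -, ⟨e⟩⟩ := hC
    refine fin fun g x hx hxx hx1 t ht htt ht1 => ?_
    obtain ⟨X, T, hX, -, h2', h4⟩ := rot x hx hxx
    obtain rfl : X = ⟨x, hle hx⟩ := Subtype.ext hX
    have hcen : ∀ u : G, Commute u (ψ ⟨x, hle hx⟩) := fun u => by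
      have hr4 : e (ψ T) ^ 4 = 1 := by rw [← map_pow, h4, map_one]
      have hr2 : e (ψ T) ^ 2 ≠ 1 := fun hh => nonone x hx hx1 (by
        rw [← h2']; exact e.injective (by rw [map_pow, hh, map_one]))
      have key : e u * e (ψ T) ^ 2 * (e u)⁻¹ = e (ψ T) ^ 2 := dihedral_central _ hr4 hr2 (e u)
      rw [← map_pow, ← map_inv, ← map_mul, ← map_mul, e.injective.eq_iff, h2'] at key
      exact mul_inv_eq_iff_eq_mul.1 key
    rw [(hcen (ψ g)).eq, mul_inv_cancel_right]
    exact (hcen _).symm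
  · left
    obtain ⟨e⟩ := hC
    refine fin fun g x hx hxx hx1 t ht htt ht1 => ?_
    obtain ⟨X, T, hX, -, h2', h4⟩ := rot x hx hxx
    obtain rfl : X = ⟨x, hle hx⟩ := Subtype.ext hX
    refine absurd ?_ (nonone x hx hx1)
    rw [← h2']
    exact e.injective (by rw [map_pow, map_one]; exact alt_four_sq _ (by rw [← map_pow, h4, map_one]))
  · left
    obtain ⟨e⟩ := hC
    refine fin fun g x hx hxx hx1 t ht htt ht1 => ?_
    obtain ⟨X, T, hX, -, h2', h4⟩ := rot x hx hxx
    obtain rfl : X = ⟨x, hle hx⟩ := Subtype.ext hX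
    obtain ⟨X', T', hX', -, h2t, h4t⟩ := rot t ht htt
    obtain rfl : X' = ⟨t, hle ht⟩ := Subtype.ext hX'
    have key := perm_four_squares (e (ψ g * ψ T * (ψ g)⁻¹)) (e (ψ T'))
      (by rw [← map_pow, conj_pow, h4, mul_one, mul_inv_cancel, map_one]) (by rw [← map_pow, h4t, map_one])
    have key' : (ψ g * ψ T * (ψ g)⁻¹) ^ 2 * ψ T' ^ 2 = ψ T' ^ 2 * (ψ g * ψ T * (ψ g)⁻¹) ^ 2 :=
      e.injective (by simpa only [map_mul, map_pow, map_inv] using key)
    rwa [conj_pow, h2', h2t] at key'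
  · left
    obtain ⟨e⟩ := hC
    refine fin fun g x hx hxx hx1 t ht htt ht1 => ?_
    obtain ⟨X, T, hX, -, h2', h4⟩ := rot x hx hxx
    obtain rfl : X = ⟨x, hle hx⟩ := Subtype.ext hX
    refine absurd ?_ (nonone x hx hx1)
    rw [← h2']
    exact e.injective (by rw [map_pow, map_one]; exact alt_five_sq _ (by rw [← map_pow, h4, map_one]))
  · right
    obtain ⟨_, _, a, e, _, hq3, -, -, -, hcard, he, -⟩ := hC
    have hc : Nat.card (M.map (ProjGenLinGroup.mk (n := Fin 2) (R := F))) = Nat.card G :=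
      Nat.card_congr ((M.map (ProjGenLinGroup.mk (n := Fin 2) (R := F))).equivMapOfInjective _ hinj).toEquiv
    rw [hc, hcard]
    have ha : a ≠ 0 := by rintro rfl; simp at hq3
    refine ⟨?_, ((dvd_pow_self p ha).mul_right _).mul_left _⟩
    have hpq : p ≤ p ^ a := Nat.le_self_pow ha p
    have he' : p ^ a - 1 ≤ 2 * e := by rcases he with he | he <;> omega
    calc p * (p ^ 2 - 1) = (p + 1) * (p * (p - 1)) := by
          rw [show p ^ 2 - 1 = (p + 1) * (p - 1) by simpa using Nat.sq_sub_sq p 1]; ring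
      _ ≤ (p ^ a + 1) * (p ^ a * (p ^ a - 1)) :=
          Nat.mul_le_mul (by omega) (Nat.mul_le_mul hpq (by omega))
      _ ≤ (p ^ a + 1) * (p ^ a * (2 * e)) := Nat.mul_le_mul_left _ (Nat.mul_le_mul_left _ he')
      _ = _ := by ring
where
  dihedral_central {n : ℕ} (r : DihedralGroup n) (h4 : r ^ 4 = 1) (h2 : r ^ 2 ≠ 1) (g : DihedralGroup n) :
      g * r ^ 2 * g⁻¹ = r ^ 2 := by
    cases r with
    | sr i => exact absurd (by rw [pow_two, DihedralGroup.sr_mul_self]) h2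
    | r i =>
      have h' : i + i + (i + i) = 0 := by
        rw [pow_succ, pow_succ, pow_succ, pow_one, DihedralGroup.r_mul_r, DihedralGroup.r_mul_r,
          DihedralGroup.r_mul_r, DihedralGroup.one_def] at h4
        have := DihedralGroup.r.inj h4
        rw [← this]; ring
      rw [pow_two, DihedralGroup.r_mul_r]
      cases g with
      | r k => rw [DihedralGroup.r_mul_r, DihedralGroup.inv_r, DihedralGroup.r_mul_r]; congr 1; ring
      | sr k =>
        rw [DihedralGroup.sr_mul_r, DihedralGroup.inv_sr, DihedralGroup.sr_mul_sr]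
        congr 1
        linear_combination -h'

/-- The linear case over a prime field. -/
theorem two_dichotomy (hp : (Fintype.card F).Prime) {R M : Subgroup (GL (Fin 2) F)} (h : IsSymp R) (hle : R ≤ M)
    (hT : h.HasTv M) : M ≤ subgroupNormalizer R ∨ specialLinear (Fin 2) F ≤ M := by
  classical
  obtain ⟨p, hpF⟩ : ∃ p, Fintype.card F = p := ⟨_, rfl⟩
  haveI : Fact p.Prime := ⟨hpF ▸ hp⟩
  haveI : CharP F p := charP_of_card_eq_prime hpF
  refine (two_cases p h hle hT).imp id fun ⟨hbig, _⟩ => ?_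
  set N := M.map (ProjGenLinGroup.mk (n := Fin 2) (R := F))
  have hidx : N.index ≤ 2 := by
    have h1 := N.card_mul_index
    rw [PGLTwo.card_pgl, hpF] at h1
    have hpos : 0 < p * (p ^ 2 - 1) := Nat.mul_pos (Fact.out : p.Prime).pos (by
      have := Nat.pow_le_pow_left (Fact.out : p.Prime).two_le 2; omega)
    refine Nat.le_of_mul_le_mul_left ?_ hpos
    calc p * (p ^ 2 - 1) * N.index ≤ 2 * Nat.card N * N.index := Nat.mul_le_mul_right _ hbig
      _ = _ := by rw [mul_assoc, h1, mul_comm]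
  have hsq : ∀ g : ProjGenLinGroup (Fin 2) F, g ^ 2 ∈ N := by
    intro g
    have := Subgroup.index_ne_zero_of_finite (H := N)
    rcases (show N.index = 1 ∨ N.index = 2 by omega) with e | e
    · rw [Subgroup.index_eq_one.1 e]; exact Subgroup.mem_top _
    · exact Subgroup.sq_mem_of_index_two e g
  have hsc : scalars (Fin 2) F ≤ M := h.scal.trans hle
  refine specialLinear_le_of_centres M fun u φ hφ => ?_
  have hφ' : ((2 : F)⁻¹ • φ) ⬝ᵥ u = 0 := by rw [smul_dotProduct, hφ, smul_zero]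
  set t := transvectionGL ((2 : F)⁻¹ • φ) u hφ'
  have ht : transvectionGL φ u hφ = t * t := Roots.ext_mulVec fun x => by
    rw [Units.val_mul, ← mulVec_mulVec, transvectionGL_mulVec, transvectionGL_mulVec, transvectionGL_mulVec,
      dotProduct_add, dotProduct_smul, hφ', smul_zero, add_zero, smul_dotProduct, add_assoc, ← add_smul,
      smul_eq_mul, ← two_mul, mul_inv_cancel_left₀ h.two]
  obtain ⟨m, hm, e⟩ := hsq (ProjGenLinGroup.mk t)
  rw [← map_pow, pow_two, ← mul_inv_eq_one, ← map_inv, ← map_mul, ProjGenLinGroup.mk_eq_one,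
    Matrix.GeneralLinearGroup.center_eq_range_scalar] at e
  have : m * (t * t)⁻¹ ∈ scalars (Fin 2) F := e
  rw [ht]
  have := mul_mem (inv_mem (hsc this)) hm
  rwa [_root_.mul_inv_rev, inv_inv, mul_assoc, inv_mul_cancel, mul_one] at this

end CfsgLib.Geo.SympNorm
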