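import Cfsg.Agent.Lib.Geo.SympNorm.UnitKernel

/-!
# From the special unitary group on one half to the whole space
-/

set_option autoImplicit false
set_option linter.unusedSectionVars false

namespace CfsgLib.Geo.SympNorm

open Matrix Cfsg.Geo
open CfsgLib.Classical.Herm (IsInvol IsHerm fixedSub mem_fixedSub)
open CfsgLib.Geo.UnitWreath (IsGram ip phi adj sqr Sim IsIso bil)

variable {F : Type*} [Field F] {σ : F →+* F}
variable {κ : Type} [Fintype κ] [DecidableEq κ] {G₀ : Matrix κ κ F}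

theorem phi_elim (u v : κ → F) :
    phi σ (fromBlocks G₀ 0 0 G₀) (Sum.elim u v) = Sum.elim (phi σ G₀ u) (phi σ G₀ v) := by
  rw [phi, show σ ∘ Sum.elim u v = Sum.elim (σ ∘ u) (σ ∘ v) from Sum.comp_elim _ _ _, vecMul_fromBlocks]
  simp only [Sum.elim_comp_inl, Sum.elim_comp_inr, vecMul_zero, add_zero, zero_add]
  rfl

theorem ip_elim (u v u' v' : κ → F) :
    ip σ (fromBlocks G₀ 0 0 G₀) (Sum.elim u v) (Sum.elim u' v') = ip σ G₀ u u' + ip σ G₀ v v' := by
  rw [ip, phi_elim, sumElim_dotProduct_sumElim]; rfl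

theorem sqr_elim (u : κ → F) :
    sqr σ (fromBlocks G₀ 0 0 G₀) (Sum.elim u 0) = fromBlocks (sqr σ G₀ u) 0 0 0 := by
  rw [sqr, phi_elim, UnitWreath.phi_zero]
  ext (p | p) (q | q) <;> simp [sqr, Matrix.vecMulVec_apply]

theorem isGram_blocks (hG : IsGram σ G₀) : IsGram σ (fromBlocks G₀ 0 0 G₀) where
  invol := hG.invol
  symm := by
    rw [fromBlocks_map, fromBlocks_transpose, hG.symm, Matrix.map_zero σ (map_zero σ), transpose_zero]
  unit := by rw [det_fromBlocks_zero₂₁]; exact hG.unit.mul hG.unit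

/-- From one half to the whole space. -/
theorem big_block [Finite F] (hσ : Fld σ) (hG : IsGram σ G₀) (hk : 2 ≤ Fintype.card κ) {i : F} (hi : i * i = -1)
    {M : Subgroup (GL (κ ⊕ κ) F)}
    (hsim : ∀ g ∈ M, Sim σ (fromBlocks G₀ 0 0 G₀) (g : Matrix (κ ⊕ κ) (κ ⊕ κ) F)) (hb : bM ∈ M)
    (hn : tv hσ.two_ne (jx 1 (-1) (one_mul _)) (jx_sq _ _ _) ∈ M)
    (hn2 : tv hσ.two_ne (jx i i hi) (jx_sq _ _ _) ∈ M)
    (hK : Big σ G₀ (M.comap (dg.comp (MonoidHom.inl _ _)))) : Big σ (fromBlocks G₀ 0 0 G₀) M := by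
  set Γ := fromBlocks G₀ 0 0 G₀ with hΓdef
  have hΓ : IsGram σ Γ := isGram_blocks hG
  haveI : Nonempty κ := Fintype.card_pos_iff.1 (by omega)
  have h2 := hσ.two_ne
  have hσi := hσ.root_skew hi
  have hi0 : i ≠ 0 := by rintro rfl; simp at hi
  let C : (κ → F) → (κ → F) → Prop := fun u v => UnitWreath.HasTv σ Γ M (Sum.elim u v)
  have mv : ∀ {g : GL (κ ⊕ κ) F}, g ∈ M → ∀ {u v u' v' : κ → F},
      (g : Matrix (κ ⊕ κ) (κ ⊕ κ) F) *ᵥ Sum.elim u v = Sum.elim u' v' → C u v → C u' v' := fun {g} hg {u v u' v'} e h => by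
    show UnitWreath.HasTv σ Γ M _
    rw [← e]
    exact move_sim' hΓ hg (hsim g hg) h
  have mvi : ∀ {g : GL (κ ⊕ κ) F}, g ∈ M → ∀ {u v u' v' : κ → F},
      (g : Matrix (κ ⊕ κ) (κ ⊕ κ) F) *ᵥ Sum.elim u v = Sum.elim u' v' → C u' v' → C u v := fun {g} hg {u v u' v'} e h =>
    mv (inv_mem hg) (by rw [← e, mulVec_mulVec, Units.inv_mul, one_mulVec]) h
  have iso_ne : ∀ {g : GL (κ ⊕ κ) F}, g ∈ M → ∀ {u v u' v' : κ → F},
      (g : Matrix (κ ⊕ κ) (κ ⊕ κ) F) *ᵥ Sum.elim u v = Sum.elim u' v' → ip σ G₀ u u + ip σ G₀ v v = 0 →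
        ip σ G₀ u' u' + ip σ G₀ v' v' = 0 := fun {g} hg {u v u' v'} e h => by
    obtain ⟨ν, -, hν⟩ := hsim g hg
    rw [← ip_elim, ← e, UnitWreath.ip_mulVec_left hΓ, mulVec_mulVec, hν, smul_mulVec, one_mulVec,
      UnitWreath.ip_smul_right, hΓdef, ip_elim, h, mul_zero]
  have hL : ∀ g : GL κ F, IsIso σ G₀ (g : Matrix κ κ F) → (g : Matrix κ κ F).det = 1 → dg (g, 1) ∈ M :=
    fun g h1 h2 => mem_of_big hσ hG hk hK h1 h2
  have hR : ∀ g : GL κ F, IsIso σ G₀ (g : Matrix κ κ F) → (g : Matrix κ κ F).det = 1 → dg (1, g) ∈ M :=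
    fun g h1 h2 => by
      have e : dg (1, g) = bM * dg (g, 1) * bM := by rw [bM_dg, mul_assoc, bM_sq, mul_one]
      rw [e]; exact mul_mem (mul_mem hb (hL g h1 h2)) hb
  have hdg : ∀ (g g' : GL κ F) (u v : κ → F), ((dg (g, g') : GL (κ ⊕ κ) F) : Matrix (κ ⊕ κ) (κ ⊕ κ) F) *ᵥ
      Sum.elim u v = Sum.elim ((g : Matrix κ κ F) *ᵥ u) ((g' : Matrix κ κ F) *ᵥ v) := dg_mulVec
  have moveL : ∀ g : GL κ F, IsIso σ G₀ (g : Matrix κ κ F) → (g : Matrix κ κ F).det = 1 → ∀ {u v : κ → F},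
      C u v → C ((g : Matrix κ κ F) *ᵥ u) v := fun g h1 h2 {u v} h =>
    mv (hL g h1 h2) (by rw [hdg]; simp) h
  have moveR : ∀ g : GL κ F, IsIso σ G₀ (g : Matrix κ κ F) → (g : Matrix κ κ F).det = 1 → ∀ {u v : κ → F},
      C u v → C u ((g : Matrix κ κ F) *ᵥ v) := fun g h1 h2 {u v} h =>
    mv (hR g h1 h2) (by rw [hdg]; simp) h
  -- isotropic vectors of the halves
  have base : ∀ u : κ → F, ip σ G₀ u u = 0 → C u 0 := fun u hu c hc => by
    obtain ⟨g, hg, eg⟩ := hK u hu c hc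
    refine ⟨dg (g, 1), hg, ?_⟩
    rw [dg_val, eg, hΓdef, sqr_elim, Units.val_one, fromBlocks_smul, smul_zero, ← fromBlocks_one, fromBlocks_add,
      add_zero, add_zero]
  have baseR : ∀ u : κ → F, ip σ G₀ u u = 0 → C 0 u := fun u hu =>
    mv hb (by show fromBlocks 0 1 1 0 *ᵥ _ = _; rw [fromBlocks_mulVec]; simp) (base u hu)
  have H := herm_of hσ.inv hG
  obtain ⟨u₀, hu0, huu⟩ := H.exists_isotropic (by rw [Module.finrank_fintype_fun_eq_card]; exact hk)
  rw [UnitWreath.bil_apply] at huu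
  obtain ⟨f, huf, hff⟩ := H.exists_isotropic_partner hu0 huu
  rw [UnitWreath.bil_apply] at huf hff
  have hfu : ip σ G₀ f u₀ = 1 := by rw [← hG.ip_symm, huf, map_one]
  -- halves of non-zero norm
  have stepB : ∀ u v : κ → F, ip σ G₀ u u ≠ 0 → ip σ G₀ u u + ip σ G₀ v v = 0 → C u v := by
    intro u v hu huv
    set c := ip σ G₀ u u
    have hσc : σ c = c := hG.ip_symm u u
    set e := c / (2 * i) with he
    have hes : e + σ e = 0 := by
      rw [he, map_div₀, map_mul, map_ofNat, hσc, hσi, mul_neg, div_neg, add_neg_cancel]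
    have hec : 2 * i * e = c := by rw [he, mul_div_cancel₀]; exact mul_ne_zero h2 hi0
    set t := trvGL σ G₀ hff e
    have h1 : C u₀ (-u₀) := mv hn (by rw [tv_jx_mulVec]; simp) (base u₀ huu)
    have h2' := moveL t (trvGL_iso hG hff hes) (trvGL_det hff e) h1
    rw [trvGL_mulVec, hfu, mul_one] at h2'
    have h3 : C (u₀ + e • f + i • -u₀) (i • (u₀ + e • f) + -u₀) := mv hn2 (by rw [tv_jx_mulVec]) h2'
    have n1 : ip σ G₀ (u₀ + e • f + i • -u₀) (u₀ + e • f + i • -u₀) = c := by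
      simp only [smul_neg, ← neg_smul, UnitWreath.ip_add_left, UnitWreath.ip_add_right, UnitWreath.ip_smul_left,
        UnitWreath.ip_smul_right, huu, hff, huf, hfu, map_neg, hσi, eq_neg_of_add_eq_zero_right hes]
      linear_combination hec
    have n2 : ip σ G₀ (i • (u₀ + e • f) + -u₀) (i • (u₀ + e • f) + -u₀) = ip σ G₀ v v := by
      rw [← neg_one_smul F u₀]
      simp only [smul_add, smul_smul, mul_neg, mul_one, UnitWreath.ip_add_left, UnitWreath.ip_add_right,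
        UnitWreath.ip_smul_left, UnitWreath.ip_smul_right, huu, hff, huf, hfu, map_neg, map_one, map_mul, hσi,
        eq_neg_of_add_eq_zero_right hes]
      linear_combination -hec - huv
    obtain ⟨g, g1, g2, g3⟩ := move_norm hσ hG hk (x := u₀ + e • f + i • -u₀) (y := u) (by rw [n1]; exact hu)
      (by rw [n1])
    obtain ⟨g', g1', g2', g3'⟩ := move_norm hσ hG hk (x := i • (u₀ + e • f) + -u₀) (y := v)
      (by rw [n2]; exact fun e => hu (by rwa [e, add_zero] at huv)) n2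
    have h4 := moveR g' g1' g2' (moveL g g1 g2 h3)
    rwa [g3, g3'] at h4
  -- both halves isotropic and not orthogonal
  have stepC : ∀ u v : κ → F, ip σ G₀ u u = 0 → ip σ G₀ v v = 0 → ip σ G₀ u v ≠ 0 → C u v := by
    intro u v hu hv hx
    set x := ip σ G₀ u v with hxe
    have hvu : ip σ G₀ v u = σ x := (hG.ip_symm u v).symm
    by_cases hT : x + σ x = 0
    · refine mvi hn2 (tv_jx_mulVec _ _ _ _ u v) (stepB _ _ ?_ (iso_ne hn2 (tv_jx_mulVec _ _ _ _ u v) (by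
        rw [hu, hv, add_zero])))
      intro e
      simp only [UnitWreath.ip_add_left, UnitWreath.ip_add_right, UnitWreath.ip_smul_left, UnitWreath.ip_smul_right,
        hu, hv, hvu, ← hxe, hσi] at e
      have : (2 : F) * (i * x) = 0 := by linear_combination e + i * hT
      exact mul_ne_zero h2 (mul_ne_zero hi0 hx) this
    · refine mvi hn (tv_jx_mulVec _ _ _ _ u v) (stepB _ _ ?_ (iso_ne hn (tv_jx_mulVec _ _ _ _ u v) (by
        rw [hu, hv, add_zero])))
      intro e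
      simp only [one_smul, UnitWreath.ip_add_left, UnitWreath.ip_add_right, hu, hv, hvu, ← hxe] at e
      exact hT (by linear_combination e)
  intro z hz
  rw [show z = Sum.elim (z ∘ Sum.inl) (z ∘ Sum.inr) by ext (a | a) <;> rfl] at hz ⊢
  set u := z ∘ Sum.inl
  set v := z ∘ Sum.inr
  rw [hΓdef, ip_elim] at hz
  show C u v
  by_cases hu : ip σ G₀ u u ≠ 0
  · exact stepB u v hu hz
  push Not at hu
  rw [hu, zero_add] at hz
  by_cases hu1 : u = 0
  · rw [hu1]; exact baseR v hz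
  by_cases hv1 : v = 0
  · rw [hv1]; exact base u hu
  by_cases hx : ip σ G₀ u v ≠ 0
  · exact stepC u v hu hz hx
  push Not at hx
  obtain ⟨w, hww, hwu, hwv⟩ : ∃ w, ip σ G₀ w w = 0 ∧ ip σ G₀ w u ≠ 0 ∧ ip σ G₀ w v ≠ 0 := by
    obtain ⟨a, hua, haa⟩ := H.exists_isotropic_partner hu1 hu
    obtain ⟨b, hvb, hbb⟩ := H.exists_isotropic_partner hv1 hz
    rw [UnitWreath.bil_apply] at hua haa hvb hbb
    have hau : ip σ G₀ a u = 1 := by rw [← hG.ip_symm, hua, map_one]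
    have hbv : ip σ G₀ b v = 1 := by rw [← hG.ip_symm, hvb, map_one]
    by_cases h1 : ip σ G₀ a v ≠ 0
    · exact ⟨a, haa, by rw [hau]; exact one_ne_zero, h1⟩
    by_cases h3 : ip σ G₀ b u ≠ 0
    · exact ⟨b, hbb, h3, by rw [hbv]; exact one_ne_zero⟩
    push Not at h1 h3
    obtain ⟨θ, hθ0, hθ⟩ := H.exists_skew
    obtain ⟨s, hs0, hs⟩ : ∃ s : F, s ≠ 0 ∧ s * ip σ G₀ a b + σ (s * ip σ G₀ a b) = 0 := by
      by_cases hab : ip σ G₀ a b = 0
      · exact ⟨1, one_ne_zero, by simp [hab]⟩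
      · exact ⟨θ / ip σ G₀ a b, div_ne_zero hθ0 hab, by rw [div_mul_cancel₀ _ hab]; exact hθ⟩
    refine ⟨a + s • b, ?_, ?_, ?_⟩
    · simp only [UnitWreath.ip_add_left, UnitWreath.ip_add_right, UnitWreath.ip_smul_left, UnitWreath.ip_smul_right,
        haa, hbb, ← hG.ip_symm a b]
      rw [map_mul] at hs
      linear_combination hs
    · rw [UnitWreath.ip_add_left, UnitWreath.ip_smul_left, hau, h3, mul_zero, add_zero]; exact one_ne_zero
    · rw [UnitWreath.ip_add_left, UnitWreath.ip_smul_left, hbv, h1, mul_one, zero_add]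
      exact (map_ne_zero σ).2 hs0
  obtain ⟨θ, hθ0, hθ⟩ := H.exists_skew
  set g := trvGL σ G₀ hww θ
  refine mvi (hL g (trvGL_iso hG hww hθ) (trvGL_det hww θ)) (hdg g 1 u v) ?_
  rw [Units.val_one, one_mulVec]
  have hgu := (iso_ip hG (trvGL_iso hG hww hθ) u u).trans hu
  refine stepC _ _ hgu hz ?_
  rw [trvGL_mulVec, UnitWreath.ip_add_left, UnitWreath.ip_smul_left, hx, zero_add]
  exact mul_ne_zero ((map_ne_zero σ).2 (mul_ne_zero hθ0 hwu)) hwv

end CfsgLib.Geo.SympNorm
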