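import Cfsg.Agent.Lib.Geo.SympNorm.Unit
import Cfsg.Agent.Lib.Geo.SympNorm.Apply
import Cfsg.Prelude.Def_LieClassical

/-!
# Normalisers of symplectic-type two-groups are maximal in the special unitary group
-/

set_option autoImplicit false
set_option linter.unusedSectionVars false

namespace CfsgLib.Geo.SympNorm

open Matrix Cfsg.Geo
open CfsgLib.Classical.Herm (IsInvol IsHerm fixedSub mem_fixedSub powHom powHom_apply HSU)
open CfsgLib.Geo.UnitWreath (IsGram ip phi adj sqr Sim IsIso bil)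
open scoped commutatorElement

variable {F : Type*} [Field F] [Fintype F] {σ : F →+* F}

/-- A transvection is a commutator of special isometries. -/
theorem trvGL_commutator {ι : Type} [Fintype ι] [DecidableEq ι] {Γ : Matrix ι ι F} (hσ : Fld σ)
    (hΓ : IsGram σ Γ) (h3 : 3 ≤ Fintype.card ι) {M : Subgroup (GL ι F)} (hY : Big σ Γ M) {v : ι → F}
    (hv : ip σ Γ v v = 0) {c : F} (hc : c + σ c = 0) : trvGL σ Γ hv c ∈ ⁅M, M⁆ := by
  have H := herm_of hσ.inv hΓ
  obtain ⟨g₁, hg₁, g₂, hg₂, e⟩ := H.tr_eq_commutator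
    (by rw [Module.finrank_fintype_fun_eq_card]; exact h3) hv hc
  let φ : CfsgLib.Classical.Herm.HU (bil σ Γ) →* GL ι F := (Matrix.GeneralLinearGroup.toLin.symm.toMonoidHom.comp
    (LinearMap.GeneralLinearGroup.generalLinearEquiv F (ι → F)).symm.toMonoidHom).comp
      (CfsgLib.Classical.Herm.HU (bil σ Γ)).subtype
  have hφ : ∀ g z, (φ g : Matrix ι ι F) *ᵥ z = (g : (ι → F) ≃ₗ[F] (ι → F)) z := fun g z => by
    show (LinearMap.toMatrix' ((g : (ι → F) ≃ₗ[F] (ι → F)) : (ι → F) →ₗ[F] (ι → F))) *ᵥ z = _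
    rw [LinearMap.toMatrix'_mulVec]
    rfl
  have hmem : ∀ g ∈ HSU (bil σ Γ), φ g ∈ M := fun g hg => mem_of_big hσ hΓ (by omega) hY
    (iso_of_ip hΓ fun a b => by rw [hφ, hφ]; exact CfsgLib.Classical.Herm.HU.map_eq g a b) (by
    have h := congrArg Units.val (MonoidHom.mem_ker.1 hg)
    rw [CfsgLib.Classical.Herm.HU.det, MonoidHom.comp_apply, LinearEquiv.coe_det] at h
    show (LinearMap.toMatrix' ((g : (ι → F) ≃ₗ[F] (ι → F)) : (ι → F) →ₗ[F] (ι → F))).det = 1
    rw [LinearMap.det_toMatrix']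
    exact h)
  have e' : trvGL σ Γ hv c = φ ⁅g₁, g₂⁆ := by
    rw [e]
    refine Units.ext (UnitWreath.ext_mulVec fun y => ?_)
    rw [hφ, trvGL_mulVec]
    exact (H.tr_apply hv hc y).symm
  rw [e', map_commutatorElement]
  exact Subgroup.commutator_mem_commutator (hmem _ hg₁) (hmem _ hg₂)

/-- Maximality in dimension `2^m`, `m ≥ 3`, over the field of order `p²`, `p ≡ 3` modulo four. -/
theorem isMaximalIn_unitary {n m p : ℕ} (hp : p.Prime) (h4p : p % 4 = 3) (hF : Fintype.card F = p ^ 2) (hm : 3 ≤ m)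
    (hn : n = 2 ^ m) {R : Subgroup (GL (Fin n) F)} (hs : IsSymplecticTypeGroup 2 R)
    (hi : ActsAbsolutelyIrreducibly (matrixSet R)) (hRU : R ≤ Cfsg.GU n F p)
    (hZ : Nat.card (Subgroup.center R) = 4) :
    Cfsg.Geo.IsMaximalIn (Cfsg.GU n F p ⊓ specialLinear (Fin n) F)
      (subgroupNormalizer R ⊓ (Cfsg.GU n F p ⊓ specialLinear (Fin n) F)) := by
  classical
  have hn8 : 8 ≤ n := by
    rw [hn]
    calc 8 = 2 ^ 3 := rfl
      _ ≤ _ := Nat.pow_le_pow_right two_pos hm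
  set σ := powHom hF with hσdef
  have hσ : Fld σ := ⟨CfsgLib.Classical.Herm.powHom_isInvol hF, by rw [CfsgLib.Classical.Herm.card_fixed_powHom]; exact hp,
    by rw [CfsgLib.Classical.Herm.card_fixed_powHom]; exact h4p⟩
  have h2 : (2 : F) ≠ 0 := hσ.two_ne
  set Γ : Matrix (Fin n) (Fin n) F := 1
  have hΓ : IsGram σ Γ := ⟨hσ.inv.invol, by simp [Γ, Matrix.map_one σ (map_zero σ) (map_one σ)], by simp [Γ]⟩
  have hip : ∀ x y : Fin n → F, Cfsg.hermForm n F p x y = ip σ Γ y x := fun x y => by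
    simp only [Cfsg.hermForm, ip, phi, Γ, vecMul_one, dotProduct, Function.comp_apply]
    refine Finset.sum_congr rfl fun a _ => ?_
    rw [hσdef, powHom_apply, mul_comm]
  have hGU : ∀ g : GL (Fin n) F, g ∈ Cfsg.GU n F p ↔ IsIso σ Γ (g : Matrix (Fin n) (Fin n) F) := fun g =>
    ⟨fun hg => iso_of_ip hΓ fun x y => by rw [← hip, ← hip]; exact hg y x, fun hg u v => by
      show Cfsg.hermForm n F p ((g : Matrix (Fin n) (Fin n) F) *ᵥ u) ((g : Matrix (Fin n) (Fin n) F) *ᵥ v) = _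
      rw [hip, hip, iso_ip hΓ hg]⟩
  obtain ⟨i, hii⟩ : ∃ i : F, i * i = -1 := by
    obtain ⟨i, hi⟩ : IsSquare (-1 : F) := FiniteField.isSquare_neg_one_iff.2 (by
      rw [hF, Nat.pow_mod, h4p]; decide)
    exact ⟨i, hi.symm⟩
  have hσi := hσ.root_skew hii
  have hnF : (Fintype.card (Fin n) : F) ≠ 0 := by
    rw [Fintype.card_fin, hn, Nat.cast_pow, Nat.cast_two]
    exact pow_ne_zero _ h2
  have h2c : 2 ≤ Fintype.card (Fin n) := by rw [Fintype.card_fin]; omega
  have hbig : 3 ≤ Fintype.card (Fin n) := by rw [Fintype.card_fin]; omega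
  haveI : Nonempty (Fin n) := ⟨⟨0, by omega⟩⟩
  set R' := R ⊔ scalars (Fin n) F with hR'
  have h : IsSymp R' := isSymp_of_type h2 hnF h2c ⟨i, hii⟩ hs hi
  have hN := normalizer_sup_scalars h2 h2c hs hi hZ
  -- normalised elements are isometries
  have hiso : ∀ x ∈ R', x * x = -1 → IsIso σ Γ (x : Matrix (Fin n) (Fin n) F) := by
    intro x hx hxx
    obtain ⟨a, ha, c, hc, rfl⟩ := Subgroup.mem_sup_of_normal_right.1 hx
    obtain ⟨d, hd⟩ := (mem_scalars_iff c).1 hc
    have hsq : (a * a) * (c * c) = -1 := by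
      rw [← hxx, show a * c * (a * c) = a * (c * a) * c by group, (commute_scalar hc a).eq]; group
    have hd4 : (d : F) ^ 4 = 1 := by
      have e1 : (c * c) * (c * c) = 1 := by
        have hcc : c * c = (a * a)⁻¹ * -1 := by rw [← hsq, inv_mul_cancel_left]
        rcases (type_facts h2 h2c hs hi).2.1 a ha with e | e <;> rw [hcc, e] <;> simp
      have e2 := congrArg (fun g : GL (Fin n) F => (g : Matrix (Fin n) (Fin n) F) ⟨0, by omega⟩ ⟨0, by omega⟩) e1
      simp [hd] at e2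
      linear_combination e2
    have hnd : σ (d : F) * d = 1 := by
      obtain ⟨j, hj⟩ : 4 ∣ p + 1 := by omega
      rw [hσdef, powHom_apply, ← pow_succ, hj, pow_mul, hd4, one_pow]
    rw [Units.val_mul]
    refine UnitWreath.IsIso.mul hΓ ((hGU a).1 (hRU ha)) ?_
    rw [hd, IsIso, UnitWreath.adj_smul, UnitWreath.adj_one hΓ, smul_mul_smul_comm, hnd, one_smul, one_mul]
  refine ⟨lt_of_le_of_ne inf_le_right fun e => ?_, fun M hM hMS => ?_⟩
  · refine not_normalizer_big hσ hΓ (by rw [Fintype.card_fin]; omega) h hiso fun u hu c hc => ?_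
    rw [hN]
    refine (e.ge ?_).1
    exact ⟨(hGU _).2 (trvGL_iso hΓ hu hc), MonoidHom.mem_ker.2 (Units.ext (trvGL_det hu c))⟩
  set M' := M ⊔ scalars (Fin n) F with hM'
  have hinN : ∀ {g : GL (Fin n) F}, g ∈ subgroupNormalizer R' → IsIso σ Γ (g : Matrix (Fin n) (Fin n) F) →
      g ∈ specialLinear (Fin n) F → g ∈ M := fun hg hgU hgS => hM ⟨hN ▸ hg, (hGU _).2 hgU, hgS⟩
  have hle : R' ≤ M' := by
    intro x hx
    by_cases hx1 : x ∈ scalars (Fin n) F
    · exact Subgroup.mem_sup_right hx1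
    obtain ⟨c, hc, hcx, hcc, -, -⟩ := h.normed_props hx
    have hcx1 : c * x ∉ scalars (Fin n) F := fun e => hx1 (by
      have := mul_mem (inv_mem hc) e; rwa [inv_mul_cancel_left] at this)
    have h1 : c * x ∈ M := hinN (Subgroup.le_normalizer hcx) (hiso _ hcx hcc) (h.mem_specialLinear hcx hcc hcx1)
    rw [show x = c⁻¹ * (c * x) by group]
    exact mul_mem (Subgroup.mem_sup_right (inv_mem hc)) (Subgroup.mem_sup_left h1)
  have hT : h.HasTv M' := by
    intro x hx hxx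
    by_cases hx1 : x ∈ scalars (Fin n) F
    · obtain ⟨d, hd⟩ := (mem_scalars_iff x).1 hx1
      refine Subgroup.mem_sup_right ((mem_scalars_iff _).2 ?_)
      have hd1 : (1 : F) + d ≠ 0 := fun e => by
        have := congrArg (fun g : GL (Fin n) F => (g : Matrix (Fin n) (Fin n) F) ⟨0, by omega⟩ ⟨0, by omega⟩) hxx
        simp [hd] at this
        exact h2 (by linear_combination this + (1 - (d : F)) * e)
      exact ⟨Units.mk0 _ hd1, by
        show 1 + (x : Matrix (Fin n) (Fin n) F) = _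
        rw [hd, Units.val_mk0, add_smul, one_smul]⟩
    set l : F := (1 + i) * (2 : F)⁻¹ with hl
    have hll : l * l * 2 = i := by rw [hl]; field_simp; linear_combination hii
    have hl0 : l ≠ 0 := fun e => by rw [e] at hll; simp at hll; rw [← hll] at hii; simp at hii
    have hS : sc l hl0 * tv h.two x hxx ∈ specialLinear (Fin n) F := by
      refine MonoidHom.mem_ker.2 (Units.ext ?_)
      rw [Matrix.GeneralLinearGroup.val_det_apply, Units.val_mul]
      show (l • (1 : Matrix (Fin n) (Fin n) F) * _).det = 1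
      rw [smul_mul_assoc, one_mul, det_smul, h.det_tv hbig hx hxx hx1, Fintype.card_fin]
      obtain ⟨j, hj⟩ : 8 ∣ n := hn ▸ pow_dvd_pow 2 hm
      rw [show n / 2 = 4 * j by omega, show n = 4 * j + 4 * j by omega, pow_add, mul_assoc, ← mul_pow, ← mul_pow,
        ← mul_assoc, hll, pow_mul, show i ^ 4 = 1 by linear_combination (i * i - 1) * hii, one_pow]
    have hU : IsIso σ Γ ((sc l hl0 * tv h.two x hxx : GL (Fin n) F) : Matrix (Fin n) (Fin n) F) := by
      rw [Units.val_mul, show ((sc l hl0 : GL (Fin n) F) : Matrix (Fin n) (Fin n) F) = l • 1 from rfl, smul_mul_assoc,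
        one_mul, IsIso, UnitWreath.adj_smul, smul_mul_smul_comm, tv_sim h.two hΓ hxx (hiso x hx hxx), smul_smul]
      convert one_smul F (1 : Matrix (Fin n) (Fin n) F)
      rw [hl, map_mul, map_add, map_one, map_inv₀, map_ofNat, hσi]
      field_simp
      linear_combination -hii
    have h1 : sc l hl0 * tv h.two x hxx ∈ M :=
      hinN (mul_mem (h.scalars_le (sc_mem _ _)) (tv_mem_normalizer hxx h.toIsPre hx)) hU hS
    rw [show tv h.two x hxx = (sc l hl0)⁻¹ * (sc l hl0 * tv h.two x hxx) by group]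
    exact mul_mem (Subgroup.mem_sup_right (inv_mem (sc_mem _ _))) (Subgroup.mem_sup_left h1)
  have hU : UCtx σ Γ R' M' := ⟨hΓ, fun g hg => by
    obtain ⟨a, ha, c, hc, rfl⟩ := Subgroup.mem_sup_of_normal_right.1 hg
    obtain ⟨d, hd⟩ := (mem_scalars_iff c).1 hc
    rw [Units.val_mul]
    refine UnitWreath.Sim.mul hΓ (UnitWreath.IsIso.sim ((hGU a).1 (hMS ha).1)) ⟨σ d * d, mul_ne_zero ((map_ne_zero σ).2 d.ne_zero) d.ne_zero, ?_⟩
    rw [hd, UnitWreath.adj_smul, UnitWreath.adj_one hΓ, smul_mul_smul_comm, one_mul], hiso⟩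
  rcases unit_dichotomy hσ (m := m) (by omega) hn h hU hle hT with hNM | hBig
  · exact Or.inl (le_antisymm (fun g hg => ⟨hN ▸ hNM (Subgroup.mem_sup_left hg), hMS hg⟩) hM)
  refine Or.inr (le_antisymm hMS ?_)
  have hcomm : ⁅M', M'⁆ ≤ M := Subgroup.commutator_le.2 fun a ha b hb => by
    obtain ⟨a', ha', c, hc, rfl⟩ := Subgroup.mem_sup_of_normal_right.1 ha
    obtain ⟨b', hb', d, hd, rfl⟩ := Subgroup.mem_sup_of_normal_right.1 hb
    have e : ⁅a' * c, b' * d⁆ = ⁅a', b'⁆ := by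
      simp only [commutatorElement_def, _root_.mul_inv_rev]
      rw [show a' * c * (b' * d) * (c⁻¹ * a'⁻¹) * (d⁻¹ * b'⁻¹) =
        a' * (c * (b' * d) * c⁻¹) * a'⁻¹ * (d⁻¹ * b'⁻¹) by group, (commute_scalar hc _).eq, mul_inv_cancel_right,
        show a' * (b' * d) * a'⁻¹ * (d⁻¹ * b'⁻¹) = a' * b' * (d * a'⁻¹ * d⁻¹) * b'⁻¹ by group,
        (commute_scalar hd _).eq, mul_inv_cancel_right]
    rw [e, commutatorElement_def]
    exact mul_mem (mul_mem (mul_mem ha' hb') (inv_mem ha')) (inv_mem hb')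
  rintro g ⟨hgU, hgS⟩
  exact mem_of_big hσ hΓ h2c
    (fun v hv c hc => ⟨_, hcomm (trvGL_commutator hσ hΓ hbig hBig hv hc), trvGL_val hv c⟩)
    ((hGU g).1 hgU) (congrArg Units.val (MonoidHom.mem_ker.1 hgS))

end CfsgLib.Geo.SympNorm
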