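import Cfsg.Agent.Lib.Geo.SympNorm.UnitTwo
import Cfsg.Agent.Lib.Geo.SympNorm.UnitBlock

/-!
# Dimension four, unitary case: a split element forces the special unitary group

The half of `R` is realised over the fixed field, where the symplectic result applies.
-/

set_option autoImplicit false
set_option linter.unusedSectionVars false
set_option maxHeartbeats 1000000

namespace CfsgLib.Geo.SympNorm

open Matrix Cfsg.Geo
open CfsgLib.Classical.Herm (IsInvol IsHerm fixedSub mem_fixedSub)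
open CfsgLib.Geo.UnitWreath (IsGram ip phi adj sqr Sim IsIso bil)

variable {F : Type*} [Field F] {σ : F →+* F}
variable {ι ι' : Type} [Fintype ι] [DecidableEq ι] [Fintype ι'] [DecidableEq ι']

/-- Transport of the unitary hypotheses. -/
theorem UCtx.exists_map {Γ : Matrix ι ι F} {R M : Subgroup (GL ι F)} (U : UCtx σ Γ R M)
    (L : (ι' → F) ≃ₗ[F] (ι → F)) :
    ∃ Γ' : Matrix ι' ι' F, UCtx σ Γ' (R.map (coordGL L).toMonoidHom) (M.map (coordGL L).toMonoidHom) ∧
      (Big σ Γ' (M.map (coordGL L).toMonoidHom) → Big σ Γ M) := by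
  obtain ⟨Γ', hΓ', hip, hadj, hsqr⟩ := exists_gram U.gram L
  refine ⟨Γ', ⟨hΓ', ?_, ?_⟩, fun hB v hv c hc => ?_⟩
  · rintro _ ⟨g, hg, rfl⟩
    obtain ⟨ν, hν0, hν⟩ := U.sim g hg
    refine ⟨ν, hν0, ?_⟩
    show adj σ Γ' Γ' (coordAlg L _) * coordAlg L _ = _
    rw [hadj, ← map_mul, hν, map_smul, map_one]
  · rintro _ ⟨x, hx, rfl⟩ hxx
    have hxx' : x * x = -1 := (coordGL L).injective (by rw [map_mul, coordGL_neg_one]; exact hxx)
    show adj σ Γ' Γ' (coordAlg L _) * coordAlg L _ = _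
    rw [hadj, ← map_mul, show _ * _ = (1 : Matrix ι ι F) from U.iso x hx hxx', map_one]
  · have hv' : ip σ Γ' (L.symm v) (L.symm v) = 0 := by rw [hip, L.apply_symm_apply, hv]
    obtain ⟨_, ⟨g, hg, rfl⟩, eg⟩ := hB _ hv' c hc
    refine ⟨g, hg, (coordAlg L).injective ?_⟩
    rw [map_add, map_one, map_smul, hsqr]
    exact eg

theorem iso_half {κ : Type} [Fintype κ] [DecidableEq κ] {G₀ : Matrix κ κ F} (hG : IsGram σ G₀) {y z : GL κ F}
    (h : IsIso σ (fromBlocks G₀ 0 0 G₀) ((dg (y, z) : GL (κ ⊕ κ) F) : Matrix (κ ⊕ κ) (κ ⊕ κ) F)) :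
    IsIso σ G₀ (y : Matrix κ κ F) :=
  iso_of_ip hG fun u v => by
    have e := iso_ip (isGram_blocks hG) h (Sum.elim u 0) (Sum.elim v 0)
    rw [dg_mulVec, dg_mulVec, ip_elim, ip_elim] at e
    simpa [UnitWreath.ip_zero_left] using e

theorem sim_half {κ : Type} [Fintype κ] [DecidableEq κ] {G₀ : Matrix κ κ F} (hG : IsGram σ G₀) {y z : GL κ F}
    (h : Sim σ (fromBlocks G₀ 0 0 G₀) ((dg (y, z) : GL (κ ⊕ κ) F) : Matrix (κ ⊕ κ) (κ ⊕ κ) F)) :
    Sim σ G₀ (y : Matrix κ κ F) := by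
  obtain ⟨ν, hν0, hν⟩ := h
  refine ⟨ν, hν0, UnitWreath.ext_mulVec fun v => hG.ip_ext fun u => ?_⟩
  have e := congrArg (fun Z => ip σ (fromBlocks G₀ 0 0 G₀) (Sum.elim u 0) (Z *ᵥ Sum.elim v 0)) hν
  simp only [← mulVec_mulVec, ← UnitWreath.ip_mulVec_left (isGram_blocks hG), dg_mulVec, ip_elim, mulVec_zero,
    smul_mulVec, one_mulVec, UnitWreath.ip_smul_right, UnitWreath.ip_zero_left, add_zero] at e
  rw [← mulVec_mulVec, ← UnitWreath.ip_mulVec_left hG, smul_mulVec, one_mulVec, UnitWreath.ip_smul_right]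
  exact e

local notation "KK" => (Fin 2 ⊕ Fin 2)

/-- The standard element `[[x, y], [z, w]]`. -/
def gl2 {K : Type*} [Field K] (A : Matrix (Fin 2) (Fin 2) K) (hA : A * A = -1) : GL (Fin 2) K where
  val := A
  inv := -A
  val_inv := by rw [mul_neg, hA, neg_neg]
  inv_val := by rw [neg_mul, hA, neg_neg]

variable [Fintype F]

/-- The case in which the half of `R` has entries in the fixed field. -/
theorem four_split_std (hσ : Fld σ) {Γ : Matrix KK KK F} {R M : Subgroup (GL KK F)} (U : UCtx σ Γ R M)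
    (h : IsSymp R) (ha : aM ∈ R) (hb : bM ∈ R) (hle : R ≤ M) (hT : h.HasTv M) (a b : fixedSub σ)
    (hab1 : a * a + b * b = -1) {r s : GL (Fin 2) F} (hr : r ∈ half R) (hs : s ∈ half R)
    (er : (r : Matrix (Fin 2) (Fin 2) F) = !![0, 1; -1, 0])
    (es : (s : Matrix (Fin 2) (Fin 2) F) = !![(a : F), b; b, -a])
    (hrr : r * r = -1) (hss : s * s = -1) (hrs : Ac r s)
    (hk : dg (1, (tv h.two r hrr)⁻¹ * tv h.two s hss) ∈ M) : Big σ Γ M := by
  classical
  have h2 := h.two
  haveI : Fintype (fixedSub σ) := Fintype.ofFinite _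
  have hcardK : Fintype.card (fixedSub σ) = Nat.card (fixedSub σ) := Nat.card_eq_fintype_card.symm
  have hp : (Fintype.card (fixedSub σ)).Prime := hcardK ▸ hσ.prime
  have hodd : Odd (Fintype.card (fixedSub σ)) := Nat.odd_iff.2 (by have := hσ.four; omega)
  have h2K : (2 : (fixedSub σ)) ≠ 0 := fun e => h2 (by have := congrArg (fixedSub σ).subtype e; rwa [map_zero, map_ofNat] at this)
  set e4 : GL KK (fixedSub σ) →* GL KK F := Matrix.GeneralLinearGroup.map (fixedSub σ).subtype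
  set e2 : GL (Fin 2) (fixedSub σ) →* GL (Fin 2) F := Matrix.GeneralLinearGroup.map (fixedSub σ).subtype
  have e4inj : Function.Injective e4 := fun x y e => Units.ext (Matrix.map_injective (fixedSub σ).subtype.injective
    (congrArg (fun g : GL KK F => (g : Matrix KK KK F)) e))
  have e2inj : Function.Injective e2 := fun x y e => Units.ext (Matrix.map_injective (fixedSub σ).subtype.injective
    (congrArg (fun g : GL (Fin 2) F => (g : Matrix (Fin 2) (Fin 2) F)) e))
  have e4dg : ∀ x y, e4 (dg (x, y)) = dg (e2 x, e2 y) := fun x y => Units.ext (by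
    show (fromBlocks (x : Matrix (Fin 2) (Fin 2) (fixedSub σ)) 0 0 (y : Matrix (Fin 2) (Fin 2) (fixedSub σ))).map (fixedSub σ).subtype = _
    rw [fromBlocks_map, Matrix.map_zero _ (map_zero _)]; rfl)
  have e4neg : ∀ x, e4 (-x) = -e4 x := fun x => Units.ext (by
    show (-(x : Matrix KK KK (fixedSub σ))).map (fixedSub σ).subtype = _
    rw [Matrix.map_neg _ (map_neg _)]; rfl)
  have e2neg : ∀ x, e2 (-x) = -e2 x := fun x => Units.ext (by
    show (-(x : Matrix (Fin 2) (Fin 2) (fixedSub σ))).map (fixedSub σ).subtype = _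
    rw [Matrix.map_neg _ (map_neg _)]; rfl)
  have e4a : e4 aM = aM := by rw [aM, e4dg, map_one, e2neg, map_one]; rfl
  have e4b : e4 bM = bM := Units.ext (by
    show (fromBlocks 0 1 1 0 : Matrix KK KK (fixedSub σ)).map (fixedSub σ).subtype = _
    rw [fromBlocks_map, Matrix.map_zero _ (map_zero _), Matrix.map_one _ (map_zero _) (map_one _)]; rfl)
  have e4di : ∀ x, e4 (di x) = di (e2 x) := fun x => by rw [di_apply, e4dg]; rfl
  have habF : (a : F) * a + b * b = -1 := by
    have := congrArg Subtype.val hab1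
    push_cast at this
    exact this
  set r₀ : GL (Fin 2) (fixedSub σ) := gl2 !![0, 1; -1, 0] (by
    ext i j; fin_cases i <;> fin_cases j <;> simp [Matrix.mul_apply, Fin.sum_univ_two]) with hr₀
  set s₀ : GL (Fin 2) (fixedSub σ) := gl2 !![a, b; b, -a] (by
    ext i j; fin_cases i <;> fin_cases j <;> simp [Matrix.mul_apply, Fin.sum_univ_two] <;>
      first | ring1 | linear_combination habF) with hs₀
  have er' : e2 r₀ = r := Units.ext (by
    rw [er]; ext i j; fin_cases i <;> fin_cases j <;>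
      simp [e2, hr₀, gl2, Matrix.GeneralLinearGroup.map])
  have es' : e2 s₀ = s := Units.ext (by
    rw [es]; ext i j; fin_cases i <;> fin_cases j <;>
      simp [e2, hs₀, gl2, Matrix.GeneralLinearGroup.map])
  have hrr₀ : r₀ * r₀ = -1 := e2inj (by rw [map_mul, er', hrr, e2neg, map_one])
  have hss₀ : s₀ * s₀ = -1 := e2inj (by rw [map_mul, es', hss, e2neg, map_one])
  have hrs₀ : Ac r₀ s₀ := e2inj (by rw [map_mul, e2neg, map_mul, er', es']; exact hrs)
  have e2tv : ∀ (x : GL (Fin 2) (fixedSub σ)) (hx : x * x = -1) (y : GL (Fin 2) F) (hy : y * y = -1), e2 x = y →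
      e2 (tv h2K x hx) = tv h2 y hy := fun x hx y hy e => Units.ext (by
    show ((1 : Matrix (Fin 2) (Fin 2) (fixedSub σ)) + (x : Matrix (Fin 2) (Fin 2) (fixedSub σ))).map (fixedSub σ).subtype = 1 + _
    rw [Matrix.map_add _ (map_add _), Matrix.map_one _ (map_zero _) (map_one _), ← e]; rfl)
  set Q₀ := (tv h2K r₀ hrr₀)⁻¹ * tv h2K s₀ hss₀ with hQ₀
  set Q := (tv h2 r hrr)⁻¹ * tv h2 s hss with hQ
  have eQ : e2 Q₀ = Q := by rw [hQ₀, map_mul, map_inv, e2tv _ _ _ hrr er', e2tv _ _ _ hss es']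
  have det_r : (r₀ : Matrix (Fin 2) (Fin 2) (fixedSub σ)).det = 1 := by simp [hr₀, gl2, det_fin_two]
  have det_s : (s₀ : Matrix (Fin 2) (Fin 2) (fixedSub σ)).det = 1 := by
    simp [hs₀, gl2, det_fin_two]; linear_combination -hab1
  have dTr : ((tv h2K r₀ hrr₀ : GL (Fin 2) (fixedSub σ)) : Matrix (Fin 2) (Fin 2) (fixedSub σ)).det = 2 := by
    show (1 + (r₀ : Matrix (Fin 2) (Fin 2) (fixedSub σ))).det = 2
    simp [hr₀, gl2, det_fin_two]; norm_num
  have dTs : ((tv h2K s₀ hss₀ : GL (Fin 2) (fixedSub σ)) : Matrix (Fin 2) (Fin 2) (fixedSub σ)).det = 2 := by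
    show (1 + (s₀ : Matrix (Fin 2) (Fin 2) (fixedSub σ))).det = 2
    simp [hs₀, gl2, det_fin_two]; linear_combination -hab1
  have dQ : (Q₀ : Matrix (Fin 2) (Fin 2) (fixedSub σ)).det = 1 := by
    have e : (tv h2K r₀ hrr₀) * Q₀ = tv h2K s₀ hss₀ := by rw [hQ₀, mul_inv_cancel_left]
    have e' := congrArg (fun g : GL (Fin 2) (fixedSub σ) => (g : Matrix (Fin 2) (Fin 2) (fixedSub σ)).det) e
    simp only [Units.val_mul, det_mul] at e'
    rw [dTr, dTs] at e'
    exact (mul_eq_left₀ h2K).1 e'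
  obtain ⟨hr1, hs1⟩ := (h.half ha hb).not_ac_scalar hrs
  have hab : Ac (aM : GL KK F) bM := Units.ext (by simp [aM_val, bM, fromBlocks_multiply, fromBlocks_neg])
  have hab₀ : Ac (aM : GL KK (fixedSub σ)) bM := Units.ext (by simp [aM_val, bM, fromBlocks_multiply, fromBlocks_neg])
  have hdib : ∀ x : GL (Fin 2) (fixedSub σ), di x * bM = bM * di x := fun x => by rw [di_apply, bM_dg]
  have hdia : ∀ x : GL (Fin 2) (fixedSub σ), di x * aM = aM * di x := fun x => by
    rw [di_apply, aM, ← map_mul, ← map_mul]; congr 1; simp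
  set R₀ : Subgroup (GL KK (fixedSub σ)) := Subgroup.closure {di r₀, di s₀, aM, bM} with hR₀
  have hR₀R : R₀ ≤ R.comap e4 := (Subgroup.closure_le _).2 (by
    rintro x (rfl | rfl | rfl | rfl) <;> rw [SetLike.mem_coe, Subgroup.mem_comap]
    · rw [e4di, er']; exact hr
    · rw [e4di, es']; exact hs
    · rw [e4a]; exact ha
    · rw [e4b]; exact hb)
  have hm : ∀ {x : GL KK (fixedSub σ)}, x ∈ ({di r₀, di s₀, aM, bM} : Set (GL KK (fixedSub σ))) → x ∈ R₀ := fun hx => Subgroup.subset_closure hx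
  set Sg := (coordGL (sigL (F := (fixedSub σ)))).toMonoidHom with hSg
  set R₁ := R₀.map Sg with hR₁
  have hR₁S : R₁ ≤ Cfsg.spGL 2 (fixedSub σ) := by
    rw [hR₁, hR₀, MonoidHom.map_closure, Subgroup.closure_le]
    rintro _ ⟨x, (rfl | rfl | rfl | rfl), rfl⟩
    exacts [sig_dg det_r det_r, sig_dg det_s det_s, sig_dg (by simp) (by simp [Matrix.det_neg]), sig_bM]
  let f : Pauli.Frame R₁ :=
    { a₁ := Sg (di r₀), b₁ := Sg (di s₀), a₂ := Sg aM, b₂ := Sg bM
      a₁R := ⟨_, hm (by simp), rfl⟩, b₁R := ⟨_, hm (by simp), rfl⟩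
      a₂R := ⟨_, hm (by simp), rfl⟩, b₂R := ⟨_, hm (by simp), rfl⟩
      a₁s := by rw [← map_mul, ← map_mul, hrr₀, di_neg, map_one]; exact coordGL_neg_one _
      b₁s := by rw [← map_mul, ← map_mul, hss₀, di_neg, map_one]; exact coordGL_neg_one _
      a₂s := by
        rw [← map_mul, aM, ← map_mul, show ((1 : GL (Fin 2) (fixedSub σ)), (-1 : GL (Fin 2) (fixedSub σ))) * (1, -1) = 1 by simp, map_one,
          map_one]
      b₂s := by rw [← map_mul, bM_sq, map_one]
      ab₁ := by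
        rw [← map_mul, ← map_mul, ← map_mul, ← map_mul, show r₀ * s₀ = -(s₀ * r₀) from hrs₀, di_neg]
        exact coordGL_neg _ _
      ab₂ := by rw [← map_mul, ← map_mul, show (aM : GL KK (fixedSub σ)) * bM = -(bM * aM) from hab₀]; exact coordGL_neg _ _
      aa := by rw [← map_mul, ← map_mul, hdia]
      ab := by rw [← map_mul, ← map_mul, hdib]
      ba := by rw [← map_mul, ← map_mul, hdia]
      bb := by rw [← map_mul, ← map_mul, hdib] }
  have hsign : ∀ a ∈ R₁, ∀ b ∈ R₁, a * b = b * a ∨ a * b = -(b * a) := by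
    rintro _ ⟨x, hx, rfl⟩ _ ⟨y, hy, rfl⟩
    rcases h.sign _ (hR₀R hx) _ (hR₀R hy) with e | e
    · exact Or.inl ((show Commute x y from e4inj (by rw [map_mul, map_mul]; exact e.eq)).map Sg).eq
    · exact Or.inr (coord_ac _ (show Ac x y from e4inj (by rw [map_mul, e4neg, map_mul]; exact e)))
  obtain ⟨-, hmax⟩ := KleinSp.isMaximalIn_of_frame hp hodd hR₁S f hsign
  have h' := h.half ha hb
  have hcov : ∀ x ∈ R, ∃ c ∈ scalars KK F, ∃ x₀ ∈ R₀, x = c * e4 x₀ := by
    intro x hx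
    obtain ⟨q, hq, hqa⟩ : ∃ q ∈ R₀, Commute (x * e4 q) aM := by
      rcases h.sign x hx aM ha with e | e
      · exact ⟨1, one_mem _, by rwa [map_one, mul_one]⟩
      · exact ⟨bM, hm (by simp), by rw [e4b]; exact (commute_of_ac_ac e.symm hab).symm⟩
    obtain ⟨q', hq', hqa', hqb'⟩ : ∃ q' ∈ R₀, Commute (x * e4 q') aM ∧ Commute (x * e4 q') bM := by
      rcases h.sign (x * e4 q) (mul_mem hx (hR₀R hq)) bM hb with e | e
      · exact ⟨q, hq, hqa, e⟩
      · refine ⟨q * aM, mul_mem hq (hm (by simp)), ?_, ?_⟩ <;> rw [map_mul, e4a, ← mul_assoc]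
        exacts [hqa.mul_left (Commute.refl _), (commute_of_ac_ac e.symm hab.symm).symm]
    obtain ⟨y, z, e⟩ := exists_dg h.two hqa'
    have e' := congrArg (fun g : GL KK F => (g : Matrix KK KK F).toBlocks₁₂) (e ▸ hqb').eq
    simp [bM, dg_val, fromBlocks_multiply] at e'
    obtain rfl : y = z := Units.ext e'
    have hy : y ∈ half R := by rw [mem_half, ← e]; exact mul_mem hx (hR₀R hq')
    obtain ⟨u, hu, hus⟩ := h'.two_cover (by simp) hr hs hrs hy
    obtain ⟨u₀, hu₀, rfl⟩ : ∃ u₀, di u₀ ∈ R₀ ∧ e2 u₀ = u := by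
      rcases hu with rfl | rfl | rfl | rfl
      exacts [⟨1, by rw [map_one]; exact one_mem _, map_one _⟩, ⟨r₀, hm (by simp), er'⟩, ⟨s₀, hm (by simp), es'⟩,
        ⟨r₀ * s₀, by rw [map_mul]; exact mul_mem (hm (by simp)) (hm (by simp)), by rw [map_mul, er', es']⟩]
    refine ⟨di (y * e2 u₀), di_scalar hus, (di u₀)⁻¹ * q'⁻¹, mul_mem (inv_mem hu₀) (inv_mem hq'), ?_⟩
    simp only [map_mul, map_inv, e4di]
    rw [mul_assoc (di y), ← mul_assoc (di (e2 u₀)), mul_inv_cancel, one_mul, di_apply, ← e, mul_inv_cancel_right]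
  set M₁ := (M.comap e4).map Sg ⊓ Cfsg.spGL 2 (fixedSub σ) with hM₁
  have hNK : subgroupNormalizer R₁ ⊓ Cfsg.spGL 2 (fixedSub σ) ≤ M₁ := by
    rintro g ⟨hg, hgS⟩
    refine ⟨?_, hgS⟩
    obtain ⟨g₀, rfl⟩ := (coordGL (sigL (F := (fixedSub σ)))).surjective g
    refine ⟨g₀, four_normalizer_le h ha hb hle hT ?_, rfl⟩
    have one : ∀ g₀ : GL KK (fixedSub σ), Sg g₀ ∈ subgroupNormalizer R₁ → ∀ x ∈ R, e4 g₀ * x * (e4 g₀)⁻¹ ∈ R := by
      intro g₀ hg x hx
      obtain ⟨c, hc, x₀, hx₀, rfl⟩ := hcov x hx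
      obtain ⟨y, hy, ey⟩ := (Subgroup.mem_normalizer_iff.1 hg (Sg x₀)).1 ⟨x₀, hx₀, rfl⟩
      rw [← map_inv, ← map_mul, ← map_mul] at ey
      rw [show e4 g₀ * (c * e4 x₀) * (e4 g₀)⁻¹ = e4 g₀ * c * (e4 g₀)⁻¹ * (e4 g₀ * e4 x₀ * (e4 g₀)⁻¹) by group,
        scalar_conj hc, ← map_inv, ← map_mul, ← map_mul, ← (coordGL (sigL (F := (fixedSub σ)))).injective ey]
      exact mul_mem (h.scal hc) (hR₀R hy)
    refine Subgroup.mem_normalizer_iff.2 fun x => ⟨one g₀ hg x, fun hx => ?_⟩
    have := one g₀⁻¹ (by rw [map_inv]; exact inv_mem hg) _ hx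
    rwa [map_inv, show (e4 g₀)⁻¹ * (e4 g₀ * x * (e4 g₀)⁻¹) * (e4 g₀)⁻¹⁻¹ = x by group] at this
  rcases hmax M₁ hNK inf_le_right with e | e
  · exfalso
    have hkN := (e.le ⟨⟨dg (1, Q₀), by rw [SetLike.mem_coe, Subgroup.mem_comap, e4dg, map_one, eQ]; exact hk, rfl⟩,
      sig_dg (by simp) dQ⟩).1
    obtain ⟨w₀, hw₀, ew⟩ := (Subgroup.mem_normalizer_iff.1 hkN (Sg (di r₀))).1 ⟨_, hm (by simp), rfl⟩
    rw [← map_inv, ← map_mul, ← map_mul] at ew
    have hw : dg (r, Q * r * Q⁻¹) ∈ R := by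
      have h1 : e4 (dg (1, Q₀) * di r₀ * (dg (1, Q₀))⁻¹) ∈ R :=
        (coordGL (sigL (F := (fixedSub σ)))).injective ew ▸ hR₀R hw₀
      rwa [map_mul, map_mul, map_inv, e4dg, e4di, map_one, eQ, er', di_apply, dg_inv, ← map_mul, ← map_mul,
        Prod.mk_mul_mk, Prod.mk_mul_mk, one_mul, inv_one, mul_one] at h1
    have hc : Commute (dg (r, Q * r * Q⁻¹)) (aM : GL KK F) := by
      show dg _ * aM = aM * dg _
      rw [aM, ← map_mul, ← map_mul]; congr 1; simp
    obtain ⟨r', hr', e1⟩ := h.exists_half ha hb hw hc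
    have e2' : Q * r * Q⁻¹ = r ∨ Q * r * Q⁻¹ = -r := by
      rcases e1 with e1 | e1 <;>
        (have e' := congrArg (fun g : GL KK F => (g : Matrix KK KK F)) e1
         simp only [dg_val, fromBlocks_inj] at e'
         obtain ⟨e3, -, -, e4⟩ := e'
         rw [← Units.ext e3] at e4)
      exacts [Or.inl (Units.ext e4), Or.inr (Units.ext e4)]
    have hc1 : Commute (tv h.two r hrr) r := tv_commute h.two hrr (Commute.refl r)
    have e5 : tv h.two s hss * r * (tv h.two s hss)⁻¹ = tv h.two r hrr * (Q * r * Q⁻¹) * (tv h.two r hrr)⁻¹ := by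
      rw [hQ]; group
    rw [tv_ac h.two hss hrs] at e5
    have hsσ : r * s = r * -1 ∨ r * s = r * 1 := by
      rcases e2' with e2' | e2' <;> rw [e2'] at e5
      · left; rw [mul_neg_one, ← neg_eq_iff_eq_neg, e5, hc1.eq, mul_inv_cancel_right]
      · right; rw [mul_one, ← neg_inj, e5, mul_neg, neg_mul, hc1.eq, mul_inv_cancel_right]
    rcases hsσ with e6 | e6 <;> rw [mul_left_cancel e6] at hs1
    exacts [hs1 (neg_mem_scalars (one_mem _)), hs1 (one_mem _)]
  · obtain ⟨i, hi⟩ := h.root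
    have hK2 : ∀ y : GL (Fin 2) (fixedSub σ), (y : Matrix (Fin 2) (Fin 2) (fixedSub σ)).det = 1 → dg (e2 y, 1) ∈ M := fun y hy => by
      obtain ⟨m, hm, em⟩ := (e.ge (sig_dg (y := y) (z := 1) hy (by simp))).1
      have hm' : e4 m ∈ M := hm
      rwa [show m = dg (y, 1) from (coordGL (sigL (F := (fixedSub σ)))).injective em, e4dg, map_one] at hm'
    have hi0 : i ≠ 0 := by rintro rfl; simp at hi
    have haI : IsIso σ Γ ((aM : GL KK F) : Matrix KK KK F) ∧ IsIso σ Γ ((bM : GL KK F) : Matrix KK KK F) := by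
      have key : ∀ g : GL KK F, g ∈ R → g * g = 1 → IsIso σ Γ (g : Matrix KK KK F) := by
        intro g hg hgg
        have hsg : sc i hi0 * g * (sc i hi0 * g) = -1 := by
          rw [show sc i hi0 * g * (sc i hi0 * g) = sc i hi0 * (g * sc i hi0) * g by group,
            ← (commute_scalar (sc_mem i hi0) g).eq, ← mul_assoc, mul_assoc (sc i hi0 * sc i hi0), hgg, mul_one]
          exact Units.ext (by simp [sc, smul_smul, hi])
        have h1 := U.iso _ (mul_mem (h.scal (sc_mem i hi0)) hg) hsg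
        rw [Units.val_mul, show ((sc i hi0 : GL KK F) : Matrix KK KK F) = i • 1 from rfl, smul_mul_assoc, one_mul,
          IsIso, UnitWreath.adj_smul, smul_mul_smul_comm, hσ.root_skew hi, neg_mul, hi, neg_neg, one_smul] at h1
        exact h1
      refine ⟨key _ ha ?_, key _ hb bM_sq⟩
      rw [aM, ← map_mul, show ((1 : GL (Fin 2) F), (-1 : GL (Fin 2) F)) * (1, -1) = 1 by simp, map_one]
    obtain ⟨G₀, hG, rfl⟩ := gram_block h2 U.gram haI.1 haI.2
    have hdr : di r * di r = -1 := by rw [← map_mul, hrr, di_neg, map_one]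
    have hds : di s * di s = -1 := by rw [← map_mul, hss, di_neg, map_one]
    have hri : IsIso σ G₀ (r : Matrix (Fin 2) (Fin 2) F) := iso_half hG (z := r) (U.iso _ hr hdr)
    have hsi : IsIso σ G₀ (s : Matrix (Fin 2) (Fin 2) F) := iso_half hG (z := s) (U.iso _ hs hds)
    have hkey : ∀ g : Matrix (Fin 2) (Fin 2) F, IsIso σ G₀ g → (g.map σ)ᵀ * G₀ * g = G₀ := by
      intro g hg
      have := congrArg (G₀ * ·) (show adj σ G₀ G₀ g * g = 1 from hg)
      simp only [adj, mul_one, ← Matrix.mul_assoc, hG.mul_inv, one_mul] at this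
      exact this
    have k1 := hkey _ hri
    have k2 := hkey _ hsi
    rw [er] at k1
    rw [es] at k2
    have r11 := congrFun₂ k1 1 1
    have r01 := congrFun₂ k1 0 1
    have s00 := congrFun₂ k2 0 0
    have hσa : σ (a : F) = a := a.2
    have hσb : σ (b : F) = b := b.2
    simp [Matrix.mul_apply, Fin.sum_univ_two, hσa, hσb] at r11 r01 s00
    have g00 : G₀ 0 0 = 0 := mul_left_cancel₀ h2 (by
      linear_combination -s00 + G₀ 0 0 * habF + (a * b : F) * (-r01) + (b * b : F) * (-r11))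
    have g11 : G₀ 1 1 = 0 := by rw [← r11, g00]
    have g10 : G₀ 1 0 = -G₀ 0 1 := by linear_combination -r01
    have hg : σ (G₀ 0 1) = -G₀ 0 1 := by
      have := congrFun₂ hG.symm 1 0
      rw [transpose_apply, Matrix.map_apply] at this
      rw [this, g10]
    have hiso : ∀ j : Fin 2, ip σ G₀ (Pi.single j 1) (Pi.single j 1) = 0 := fun j => by
      rw [ip, phi, show σ ∘ (Pi.single j 1 : Fin 2 → F) = Pi.single j 1 by
        funext k; by_cases hkj : k = j <;> simp [hkj], single_one_vecMul]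
      fin_cases j <;> simp [g00, g11]
    have hcent : ∀ j : Fin 2, UnitWreath.HasTv σ G₀ (M.comap (dg.comp (MonoidHom.inl _ _))) (Pi.single j 1) := by
      intro j c hc
      set x : F := c * G₀ 0 1
      have hx : σ x = x := by rw [map_mul, hg, eq_neg_of_add_eq_zero_right hc]; ring
      let x₀ : (fixedSub σ) := ⟨x, hx⟩
      let A : Matrix (Fin 2) (Fin 2) (fixedSub σ) := if j = 0 then !![1, x₀; 0, 1] else !![1, 0; -x₀, 1]
      have hA : A.det = 1 := by fin_cases j <;> simp [A, det_fin_two]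
      refine ⟨e2 (Matrix.GeneralLinearGroup.mkOfDetNeZero A (by rw [hA]; exact one_ne_zero)), ?_, ?_⟩
      · show dg (_, 1) ∈ M
        exact hK2 _ hA
      · show A.map (fixedSub σ).subtype = _
        have hphi : phi σ G₀ (Pi.single j 1) = G₀ j := by
          rw [phi, show σ ∘ (Pi.single j 1 : Fin 2 → F) = Pi.single j 1 by
            funext k; by_cases hkj : k = j <;> simp [hkj], single_one_vecMul]
          rfl
        rw [sqr, hphi]
        ext p q
        fin_cases j <;> fin_cases p <;> fin_cases q <;>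
          simp [A, x₀, x, Matrix.vecMulVec_apply, g00, g11, g10]
    have hli : LinearIndependent F ![(Pi.single 0 1 : Fin 2 → F), Pi.single 1 1] := by
      rw [LinearIndependent.pair_iff]
      intro u v e
      exact ⟨by simpa using congrFun e 0, by simpa using congrFun e 1⟩
    have hB := big_two hσ hG (by simp) (hiso 0) (hiso 1) hli (hcent 0) (hcent 1)
    have hj1 : jx (κ := Fin 2) (1 : F) (-1) (one_mul _) = aM * bM := Units.ext (by
      show fromBlocks 0 _ _ 0 = ((aM : GL KK F) : Matrix KK KK F) * fromBlocks 0 1 1 0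
      rw [aM_val, fromBlocks_multiply]; simp)
    have hj2 : jx (κ := Fin 2) i i hi = sc i hi0 * bM := Units.ext (by
      show fromBlocks 0 _ _ 0 = i • (1 : Matrix KK KK F) * fromBlocks 0 1 1 0
      rw [smul_mul_assoc, one_mul, fromBlocks_smul, smul_zero])
    exact big_block hσ hG (by simp) hi U.sim (hle hb)
      (hT _ (hj1 ▸ mul_mem ha hb) _) (hT _ (hj2 ▸ mul_mem (h.scal (sc_mem _ _)) hb) _) hB

/-- A split element forces all transvections. -/
theorem four_split_unit (hσ : Fld σ) {Γ : Matrix KK KK F} {R M : Subgroup (GL KK F)} (U : UCtx σ Γ R M)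
    (h : IsSymp R) (ha : aM ∈ R) (hb : bM ∈ R) (hle : R ≤ M) (hT : h.HasTv M) {r s : GL (Fin 2) F} (hr : r ∈ half R)
    (hs : s ∈ half R) (hrr : r * r = -1) (hss : s * s = -1) (hrs : Ac r s)
    (hk : dg (1, (tv h.two r hrr)⁻¹ * tv h.two s hss) ∈ M) : Big σ Γ M := by
  classical
  have h2 := h.two
  obtain ⟨i, hi⟩ := h.root
  have hσi := hσ.root_skew hi
  have hi0 : i ≠ 0 := by rintro rfl; simp at hi
  obtain ⟨z, hz⟩ := hσ.inv.exists_norm_eq (μ := -1) (by rw [map_neg, map_one])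
  let a : fixedSub σ := ⟨(z + σ z) / 2, by rw [mem_fixedSub, map_div₀, map_add, hσ.inv.invol, map_ofNat, add_comm]⟩
  let b : fixedSub σ := ⟨(z - σ z) / (2 * i), by
    rw [mem_fixedSub, map_div₀, map_sub, hσ.inv.invol, map_mul, map_ofNat, hσi, mul_neg, div_neg, ← neg_div, neg_sub]⟩
  have hab1 : a * a + b * b = -1 := Subtype.ext (by
    show (z + σ z) / 2 * ((z + σ z) / 2) + (z - σ z) / (2 * i) * ((z - σ z) / (2 * i)) = -1
    rw [← hz]
    field_simp
    linear_combination (z + σ z) ^ 2 * hi - (4 : F) * z * σ z * hi)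
  have ha0 : (a : F) ≠ 0 := fun e => by
    have hb2 : (b : F) * b = -1 := by
      have := congrArg (Subtype.val) hab1
      push_cast at this
      rw [e] at this
      linear_combination this
    have := hσ.root_skew hb2
    rw [show σ (b : F) = b from b.2] at this
    have h0 : (b : F) = 0 := (mul_eq_zero.1 (show (2 : F) * b = 0 by linear_combination this)).resolve_left h2
    rw [h0] at hb2; simp at hb2
  set A := (r : Matrix (Fin 2) (Fin 2) F)
  set B := (s : Matrix (Fin 2) (Fin 2) F)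
  have eAA : A * A = -1 := by rw [← Units.val_mul, hrr]; simp
  have eBB : B * B = -1 := by rw [← Units.val_mul, hss]; simp
  have eAB : A * B = -(B * A) := by rw [← Units.val_mul, show r * s = -(s * r) from hrs]; simp [A, B]
  have habF : (a : F) * a + b * b = -1 := by
    have := congrArg Subtype.val hab1
    push_cast at this
    exact this
  obtain ⟨y, hy⟩ : ∃ y, (B + (b : F) • A) *ᵥ y + (a : F) • y ≠ 0 := by
    by_contra! hcon
    have e : B + (b : F) • A = -((a : F) • 1) := UnitWreath.ext_mulVec fun y => by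
      rw [neg_mulVec, smul_mulVec, one_mulVec]; exact eq_neg_of_add_eq_zero_left (hcon y)
    have e' : B = -((a : F) • 1) - (b : F) • A := eq_sub_of_add_eq e
    have hc : Commute r s := Units.ext (by
      show A * B = B * A
      rw [e', mul_sub, sub_mul, mul_neg, neg_mul, Matrix.mul_smul, Matrix.smul_mul, mul_one, one_mul, Matrix.mul_smul,
        Matrix.smul_mul])
    exact (h.half ha hb).not_both hc hrs
  set v := (B + (b : F) • A) *ᵥ y + (a : F) • y with hv
  have hsv : B *ᵥ v = (a : F) • v - (b : F) • (A *ᵥ v) := by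
    have hww : (B + (b : F) • A) * (B + (b : F) • A) = ((a : F) * a) • 1 := by
      rw [add_mul, mul_add, mul_add, eBB, Matrix.mul_smul, Matrix.smul_mul, smul_mul_smul_comm, eAA, eAB, smul_neg,
        smul_neg, show -1 + (b : F) • (B * A) + (-((b : F) • (B * A)) + -(((b : F) * b) • (1 : Matrix (Fin 2) (Fin 2) F))) =
          -((1 + (b : F) * b) • (1 : Matrix (Fin 2) (Fin 2) F)) by rw [add_smul, one_smul]; abel, ← neg_smul]
      congr 1
      linear_combination -habF
    have e : (B + (b : F) • A) *ᵥ v = (a : F) • v := by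
      rw [hv, mulVec_add, mulVec_mulVec, hww, smul_mulVec, one_mulVec, mulVec_smul, smul_add, smul_smul, add_comm]
    rw [add_mulVec, smul_mulVec] at e
    exact eq_sub_of_add_eq e
  have hli : ∀ l : F, A *ᵥ v ≠ l • v := by
    intro l e
    have hl : l * l = -1 := by
      have e2 : A *ᵥ (A *ᵥ v) = (l * l) • v := by rw [e, mulVec_smul, e, smul_smul]
      rw [mulVec_mulVec, eAA, neg_mulVec, one_mulVec] at e2
      have e3 : (l * l + 1) • v = 0 := by rw [add_smul, one_smul, ← e2, neg_add_cancel]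
      linear_combination (smul_eq_zero.1 e3).resolve_right hy
    set μ := (a : F) - b * l
    have es : B *ᵥ v = μ • v := by rw [hsv, e, smul_smul, ← sub_smul]
    have hμ : μ * μ = -1 := by
      have e2 : B *ᵥ (B *ᵥ v) = (μ * μ) • v := by rw [es, mulVec_smul, es, smul_smul]
      rw [mulVec_mulVec, eBB, neg_mulVec, one_mulVec] at e2
      have e3 : (μ * μ + 1) • v = 0 := by rw [add_smul, one_smul, ← e2, neg_add_cancel]
      linear_combination (smul_eq_zero.1 e3).resolve_right hy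
    have e4 := congrArg (· *ᵥ v) eAB
    simp only [neg_mulVec, ← mulVec_mulVec, es, e, mulVec_smul, smul_smul] at e4
    have e5 : ((2 : F) * (l * μ)) • v = 0 := by linear_combination (norm := module) e4
    have h5 := (mul_eq_zero.1 ((smul_eq_zero.1 e5).resolve_right hy)).resolve_left h2
    rcases mul_eq_zero.1 h5 with h6 | h6
    · rw [h6, mul_zero] at hl; simp at hl
    · rw [h6, mul_zero] at hμ; simp at hμ
  set u := -(A *ᵥ v) with hu
  set Pm : Matrix (Fin 2) (Fin 2) F := !![v 0, u 0; v 1, u 1] with hPm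
  have hP0 : Pm.det ≠ 0 := by
    intro h0
    obtain ⟨c, hc0, hc⟩ := Matrix.exists_mulVec_eq_zero_iff.2 h0
    have hcomb : c 0 • v + c 1 • u = 0 := by
      funext j
      have := congrFun hc j
      fin_cases j <;> simp [hPm, Matrix.mulVec, dotProduct, Fin.sum_univ_two] at this ⊢ <;> linear_combination this
    by_cases h1 : c 1 = 0
    · rw [h1, zero_smul, add_zero] at hcomb
      refine hc0 (funext fun j => ?_)
      fin_cases j
      exacts [(smul_eq_zero.1 hcomb).resolve_right hy, h1]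
    · refine hli (c 0 / c 1) ?_
      rw [hu, smul_neg, ← sub_eq_add_neg, sub_eq_zero] at hcomb
      rw [div_eq_inv_mul, ← smul_smul, hcomb, smul_smul, inv_mul_cancel₀ h1, one_smul]
  set P := Matrix.GeneralLinearGroup.mkOfDetNeZero Pm hP0
  set r₁ := P⁻¹ * r * P with hr₁
  set s₁ := P⁻¹ * s * P with hs₁
  have hAu : A *ᵥ u = v := by rw [hu, mulVec_neg, mulVec_mulVec, eAA, neg_mulVec, one_mulVec, neg_neg]
  have hBu : B *ᵥ u = (b : F) • v + (a : F) • (A *ᵥ v) := by
    have e := congrArg (· *ᵥ v) eAB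
    simp only [neg_mulVec, ← mulVec_mulVec] at e
    rw [hu, mulVec_neg, ← e, hsv, mulVec_sub, mulVec_smul, mulVec_smul, mulVec_mulVec, eAA, neg_mulVec, one_mulVec,
      smul_neg, sub_neg_eq_add, add_comm]
  have hcols : ∀ (X : Matrix (Fin 2) (Fin 2) F) (p q s' t : F), X *ᵥ v = p • v + q • u → X *ᵥ u = s' • v + t • u →
      X * Pm = Pm * !![p, s'; q, t] := by
    intro X p q s' t e1 e2
    ext j k
    have f1 := congrFun e1 j
    have f2 := congrFun e2 j
    fin_cases j <;> fin_cases k <;>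
      simp [hPm, Matrix.mulVec, dotProduct, Matrix.mul_apply, Fin.sum_univ_two] at f1 f2 ⊢ <;>
      first | linear_combination f1 | linear_combination f2
  have er₁ : (r₁ : Matrix (Fin 2) (Fin 2) F) = !![0, 1; -1, 0] := by
    rw [hr₁, Units.val_mul, Units.val_mul, mul_assoc]
    show _ * (A * Pm) = _
    rw [hcols A 0 (-1) 1 0 (by rw [hu]; module) (by rw [hAu]; module), ← mul_assoc]
    show ((P⁻¹ : GL (Fin 2) F) : Matrix (Fin 2) (Fin 2) F) * (P : Matrix (Fin 2) (Fin 2) F) * _ = _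
    rw [Units.inv_mul, one_mul]
  have es₁ : (s₁ : Matrix (Fin 2) (Fin 2) F) = !![(a : F), b; b, -a] := by
    rw [hs₁, Units.val_mul, Units.val_mul, mul_assoc]
    show _ * (B * Pm) = _
    rw [hcols B a b b (-a) (by rw [hsv, hu]; module) (by rw [hBu, hu]; module), ← mul_assoc]
    show ((P⁻¹ : GL (Fin 2) F) : Matrix (Fin 2) (Fin 2) F) * (P : Matrix (Fin 2) (Fin 2) F) * _ = _
    rw [Units.inv_mul, one_mul]
  let L : (KK → F) ≃ₗ[F] (KK → F) :=
    LinearMap.GeneralLinearGroup.generalLinearEquiv F (KK → F) (Matrix.GeneralLinearGroup.toLin (di P))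
  have hL : ∀ g : GL KK F, coordGL L g = (di P)⁻¹ * g * di P := fun g => Units.ext (UnitWreath.ext_mulVec fun x => by
    rw [coordGL_val, coordAlg_mulVec]
    refine L.injective ?_
    rw [L.apply_symm_apply]
    show _ *ᵥ ((di P : GL KK F) : Matrix KK KK F) *ᵥ x = ((di P : GL KK F) : Matrix KK KK F) *ᵥ _
    rw [mulVec_mulVec, mulVec_mulVec, ← Units.val_mul, ← Units.val_mul]
    congr 2
    group)
  have hLdg : ∀ x y, coordGL L (dg (x, y)) = dg (P⁻¹ * x * P, P⁻¹ * y * P) := fun x y => by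
    rw [hL, di_apply, dg_inv, ← map_mul, ← map_mul]
    congr 1
  have hLdi : ∀ x, coordGL L (di x) = di (P⁻¹ * x * P) := fun x => hLdg x x
  obtain ⟨Γ', U', hback⟩ := U.exists_map L
  refine hback ?_
  have hr₁R : r₁ ∈ half (R.map (coordGL L).toMonoidHom) := ⟨di r, hr, hLdi r⟩
  have hs₁R : s₁ ∈ half (R.map (coordGL L).toMonoidHom) := ⟨di s, hs, hLdi s⟩
  have hab : ∀ x : GL KK F, Commute x (di P) → coordGL L x = x := fun x hx => by
    rw [hL, mul_assoc, hx.eq, inv_mul_cancel_left]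
  have hr1' : r₁ * r₁ = -1 := by
    rw [hr₁, show P⁻¹ * r * P * (P⁻¹ * r * P) = P⁻¹ * (r * r) * P by group, hrr]; simp
  have hs1' : s₁ * s₁ = -1 := by
    rw [hs₁, show P⁻¹ * s * P * (P⁻¹ * s * P) = P⁻¹ * (s * s) * P by group, hss]; simp
  have hrs1 : Ac r₁ s₁ := by
    have := hrs.conj P⁻¹
    rwa [inv_inv] at this
  refine four_split_std hσ U' (h.map L) ⟨aM, ha, hab _ ?_⟩ ⟨bM, hb, hab _ ?_⟩ (Subgroup.map_mono hle)
    (hasTv_map h L hT) a b hab1 hr₁R hs₁R er₁ es₁ hr1' hs1' hrs1 ⟨_, hk, ?_⟩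
  · show aM * _ = _
    rw [aM, di_apply, ← map_mul, ← map_mul]; congr 1; simp
  · show bM * _ = _
    rw [di_apply, bM_dg]
  · have key : ∀ (x : GL (Fin 2) F) (hx : x * x = -1) (hx' : P⁻¹ * x * P * (P⁻¹ * x * P) = -1),
        P⁻¹ * tv h2 x hx * P = tv h2 (P⁻¹ * x * P) hx' := fun x hx hx' => by
      have := tv_conj h2 (g := P⁻¹) hx hx' (by rw [inv_inv])
      rwa [inv_inv] at this
    refine (hLdg _ _).trans (congrArg dg (Prod.ext (by simp) ?_))
    show P⁻¹ * _ * P = _
    rw [show P⁻¹ * ((tv h2 r hrr)⁻¹ * tv h2 s hss) * P = (P⁻¹ * tv h2 r hrr * P)⁻¹ * (P⁻¹ * tv h2 s hss * P) by group,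
      key r hrr hr1', key s hss hs1']

end CfsgLib.Geo.SympNorm
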