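import Cfsg.Agent.Lib.Geo.SympNorm.UnitTools
import Cfsg.Agent.Lib.Classical.Unitary.Structure

/-!
# A subgroup normalised by the special unitary group that moves an isotropic line
-/

set_option autoImplicit false
set_option linter.unusedSectionVars false

namespace CfsgLib.Geo.SympNorm

open Matrix Cfsg.Geo
open CfsgLib.Classical.Herm (IsInvol IsHerm fixedSub mem_fixedSub HU HSU)
open CfsgLib.Geo.UnitWreath (IsGram ip phi adj sqr Sim IsIso bil)

variable {F : Type*} [Field F] {σ : F →+* F}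
variable {ι : Type} [Fintype ι] [DecidableEq ι] {Γ : Matrix ι ι F}

/-- The unitary transvection. -/
def trvGL (σ : F →+* F) (Γ : Matrix ι ι F) {w : ι → F} (hw : ip σ Γ w w = 0) (c : F) : GL ι F where
  val := 1 + c • sqr σ Γ w
  inv := 1 - c • sqr σ Γ w
  val_inv := by
    rw [add_mul, one_mul, mul_sub, mul_one, smul_mul_smul_comm, UnitWreath.sqr_mul_self, hw, zero_smul, smul_zero,
      sub_zero, sub_add_cancel]
  inv_val := by
    rw [sub_mul, one_mul, mul_add, mul_one, smul_mul_smul_comm, UnitWreath.sqr_mul_self, hw, zero_smul, smul_zero,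
      add_zero, add_sub_cancel_right]

theorem trvGL_val {w : ι → F} (hw : ip σ Γ w w = 0) (c : F) :
    ((trvGL σ Γ hw c : GL ι F) : Matrix ι ι F) = 1 + c • sqr σ Γ w := rfl

theorem trvGL_mulVec {w : ι → F} (hw : ip σ Γ w w = 0) (c : F) (y : ι → F) :
    ((trvGL σ Γ hw c : GL ι F) : Matrix ι ι F) *ᵥ y = y + (c * ip σ Γ w y) • w := by
  rw [trvGL_val, add_mulVec, one_mulVec, smul_mulVec, UnitWreath.sqr_mulVec, smul_smul]

theorem trvGL_det {w : ι → F} (hw : ip σ Γ w w = 0) (c : F) :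
    ((trvGL σ Γ hw c : GL ι F) : Matrix ι ι F).det = 1 :=
  UnitWreath.det_one_add_nilpotent ⟨2, by
    rw [pow_two, smul_mul_smul_comm, UnitWreath.sqr_mul_self, hw, zero_smul, smul_zero]⟩

theorem trvGL_iso (hΓ : IsGram σ Γ) {w : ι → F} (hw : ip σ Γ w w = 0) {c : F} (hc : c + σ c = 0) :
    IsIso σ Γ ((trvGL σ Γ hw c : GL ι F) : Matrix ι ι F) := by
  rw [trvGL_val, IsIso, UnitWreath.adj_add, UnitWreath.adj_one hΓ, UnitWreath.adj_smul, UnitWreath.adj_sqr hΓ, add_mul,
    one_mul, mul_add, mul_one, smul_mul_smul_comm, UnitWreath.sqr_mul_self, hw, zero_smul, smul_zero, add_zero,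
    add_assoc, ← add_smul, hc, zero_smul, add_zero]

theorem trvGL_conj (hΓ : IsGram σ Γ) {g : GL ι F} (hg : IsIso σ Γ (g : Matrix ι ι F)) {w : ι → F}
    (hw : ip σ Γ w w = 0) (c : F) :
    g * trvGL σ Γ hw c * g⁻¹ =
      trvGL σ Γ (w := (g : Matrix ι ι F) *ᵥ w) ((iso_ip hΓ hg w w).trans hw) c := by
  rw [mul_inv_eq_iff_eq_mul]
  refine Units.ext (UnitWreath.ext_mulVec fun y => ?_)
  rw [Units.val_mul, Units.val_mul, ← mulVec_mulVec, ← mulVec_mulVec, trvGL_mulVec, trvGL_mulVec, mulVec_add,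
    mulVec_smul, iso_ip hΓ hg]

variable [Finite F]

/-- A non-scalar map moves an isotropic line. -/
theorem exists_moved (hσ : Fld σ) (hΓ : IsGram σ Γ) (h2c : 2 ≤ Fintype.card ι) {r : GL ι F}
    (hr : r ∉ scalars ι F) :
    ∃ u, u ≠ 0 ∧ ip σ Γ u u = 0 ∧ ∀ a : F, (r : Matrix ι ι F) *ᵥ u ≠ a • u := by
  by_contra! hcon
  have H := herm_of hσ.inv hΓ
  set A := (r : Matrix ι ι F)
  obtain ⟨u, hu0, hu⟩ := H.exists_isotropic (by rw [Module.finrank_fintype_fun_eq_card]; exact h2c)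
  rw [UnitWreath.bil_apply] at hu
  obtain ⟨a, ha⟩ := hcon u hu0 hu
  obtain ⟨θ, hθ0, hθ⟩ := H.exists_skew
  have hone : ∀ f, ip σ Γ u f = 1 → A *ᵥ f = a • f := by
    intro f huf
    obtain ⟨t, ht⟩ := hσ.inv.exists_trace_eq (μ := -ip σ Γ f f) (by rw [map_neg, hΓ.ip_symm])
    set g := f + t • u with hg
    have hfu : ip σ Γ f u = 1 := by rw [← hΓ.ip_symm, huf, map_one]
    have hgg : ip σ Γ g g = 0 := by
      rw [hg]
      simp only [UnitWreath.ip_add_left, UnitWreath.ip_add_right, UnitWreath.ip_smul_left, UnitWreath.ip_smul_right,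
        hu, huf, hfu]
      linear_combination ht
    have hug : ip σ Γ u g = 1 := by
      rw [hg, UnitWreath.ip_add_right, UnitWreath.ip_smul_right, huf, hu, mul_zero, add_zero]
    have hgu : ip σ Γ g u = 1 := by rw [← hΓ.ip_symm, hug, map_one]
    have hg0 : g ≠ 0 := fun e => by rw [e, UnitWreath.ip_zero_right] at hug; exact zero_ne_one hug
    obtain ⟨b, hb⟩ := hcon g hg0 hgg
    set w := u + θ • g with hw
    have hww : ip σ Γ w w = 0 := by
      rw [hw]
      simp only [UnitWreath.ip_add_left, UnitWreath.ip_add_right, UnitWreath.ip_smul_left, UnitWreath.ip_smul_right,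
        hu, hug, hgu, hgg]
      linear_combination hθ
    have hw0 : w ≠ 0 := fun e => by
      have := congrArg (ip σ Γ g) e
      rw [hw, UnitWreath.ip_add_right, UnitWreath.ip_smul_right, hgu, hgg, mul_zero, add_zero,
        UnitWreath.ip_zero_right] at this
      exact one_ne_zero this
    obtain ⟨e, he⟩ := hcon w hw0 hww
    rw [hw, mulVec_add, mulVec_smul, ha, hb] at he
    have e1 := congrArg (ip σ Γ g) he
    have e2 := congrArg (ip σ Γ u) he
    simp only [UnitWreath.ip_add_right, UnitWreath.ip_smul_right, hgu, hgg, hu, hug, mul_zero, mul_one, add_zero,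
      zero_add] at e1 e2
    have hab : b = a := mul_left_cancel₀ hθ0 (by linear_combination e2 - θ * e1)
    have hf : f = g - t • u := by rw [hg, add_sub_cancel_right]
    rw [hf, mulVec_sub, mulVec_smul, hb, ha, hab, smul_sub, smul_comm]
  obtain ⟨f, huf, -⟩ := H.exists_isotropic_partner hu0 hu
  rw [UnitWreath.bil_apply] at huf
  have hall : A = a • 1 := UnitWreath.ext_mulVec fun v => by
    rw [smul_mulVec, one_mulVec]
    have h1 := hone (v + (1 - ip σ Γ u v) • f) (by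
      rw [UnitWreath.ip_add_right, UnitWreath.ip_smul_right, huf, mul_one]; ring)
    rw [mulVec_add, mulVec_smul, hone f huf, smul_add, smul_comm (1 - ip σ Γ u v) a f] at h1
    exact add_right_cancel h1
  haveI : Nonempty ι := Fintype.card_pos_iff.1 (by omega)
  have ha0 : a ≠ 0 := by
    rintro rfl
    have := Units.mul_inv r
    rw [show (r : Matrix ι ι F) = 0 by rw [← zero_smul F (1 : Matrix ι ι F)]; exact hall, zero_mul] at this
    exact zero_ne_one this
  exact hr ((mem_scalars_iff r).2 ⟨Units.mk0 a ha0, hall⟩)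

variable {K : Subgroup (GL ι F)}

/-- Dimension two, fixed field of order above five. -/
theorem big_two_of_normalized (hσ : Fld σ) (h3 : Nat.card (fixedSub σ) ≠ 3) (hΓ : IsGram σ Γ)
    (h2c : Fintype.card ι = 2)
    (hn : ∀ g : GL ι F, IsIso σ Γ (g : Matrix ι ι F) → (g : Matrix ι ι F).det = 1 → ∀ y ∈ K, g * y * g⁻¹ ∈ K)
    {r : GL ι F} (hr : r ∈ K) (hrr : r * r = -1) (hri : IsIso σ Γ (r : Matrix ι ι F)) (hr1 : r ∉ scalars ι F) :
    Big σ Γ K := by
  obtain ⟨u, hu0, hu, hmv⟩ := exists_moved hσ hΓ h2c.ge hr1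
  set A := (r : Matrix ι ι F)
  set x := ip σ Γ u (A *ᵥ u) with hx
  have hli : LinearIndependent F ![u, A *ᵥ u] := (LinearIndependent.pair_iff' hu0).2 fun a e => hmv a e.symm
  have hspan : ∀ z : ι → F, ∃ a b : F, z = a • u + b • (A *ᵥ u) := fun z => by
    have hs := hli.span_eq_top_of_card_eq_finrank (by simp [h2c])
    have hz : z ∈ Submodule.span F ({u, A *ᵥ u} : Set (ι → F)) := by
      have e : Set.range ![u, A *ᵥ u] = {u, A *ᵥ u} := by
        simp [Matrix.range_cons, Matrix.range_empty, Set.pair_comm]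
      rw [← e, hs]; trivial
    obtain ⟨a, b, e⟩ := Submodule.mem_span_pair.1 hz
    exact ⟨a, b, e.symm⟩
  have hx0 : x ≠ 0 := fun e => hu0 (hΓ.ip_nondeg fun z => by
    obtain ⟨a, b, rfl⟩ := hspan z
    rw [UnitWreath.ip_add_right, UnitWreath.ip_smul_right, UnitWreath.ip_smul_right, hu, ← hx, e]
    simp)
  have hσx : σ x = -x := by
    rw [hx, hΓ.ip_symm, UnitWreath.ip_mulVec_left hΓ, adj_of_sq hΓ hrr hri, neg_mulVec, ← neg_one_smul F,
      UnitWreath.ip_smul_right, neg_one_mul]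
  set f := x⁻¹ • (A *ᵥ u) with hf
  have huf : ip σ Γ u f = 1 := by rw [hf, UnitWreath.ip_smul_right, ← hx, inv_mul_cancel₀ hx0]
  have hfu : ip σ Γ f u = 1 := by rw [← hΓ.ip_symm, huf, map_one]
  have hru : ip σ Γ (A *ᵥ u) (A *ᵥ u) = 0 := (iso_ip hΓ hri u u).trans hu
  have hff : ip σ Γ f f = 0 := by
    rw [hf, UnitWreath.ip_smul_left, UnitWreath.ip_smul_right, hru, mul_zero, mul_zero]
  have ext2 : ∀ {X Y : Matrix ι ι F}, X *ᵥ u = Y *ᵥ u → X *ᵥ f = Y *ᵥ f → X = Y := fun {X Y} e1 e2 =>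
    UnitWreath.ext_mulVec fun z => by
      obtain ⟨a, b, rfl⟩ := hspan z
      rw [show A *ᵥ u = x • f by rw [hf, smul_smul, mul_inv_cancel₀ hx0, one_smul]]
      simp only [mulVec_add, mulVec_smul, e1, e2]
  let H : F → Matrix ι ι F := fun a => a • vecMulVec u (phi σ Γ f) + a⁻¹ • vecMulVec f (phi σ Γ u)
  have Hu : ∀ a, H a *ᵥ u = a • u := fun a => by
    simp only [H, add_mulVec, smul_mulVec, vecMulVec_mulVec, UnitWreath.phi_dot, hfu, hu, MulOpposite.op_one,
      one_smul, MulOpposite.op_zero, zero_smul, smul_zero, add_zero]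
  have Hf : ∀ a, H a *ᵥ f = a⁻¹ • f := fun a => by
    simp only [H, add_mulVec, smul_mulVec, vecMulVec_mulVec, UnitWreath.phi_dot, huf, hff, MulOpposite.op_one,
      one_smul, MulOpposite.op_zero, zero_smul, smul_zero, zero_add]
  have Hmul : ∀ a b : F, H a * H b = H (a * b) := fun a b => ext2
    (by rw [← mulVec_mulVec, Hu, Hu, mulVec_smul, Hu, smul_smul, mul_comm])
    (by rw [← mulVec_mulVec, Hf, Hf, mulVec_smul, Hf, smul_smul, mul_inv, mul_comm])
  have H1 : H 1 = 1 := ext2 (by rw [Hu, one_smul, one_mulVec]) (by rw [Hf, inv_one, one_smul, one_mulVec])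
  have Hadj : ∀ a, σ a = a → adj σ Γ Γ (H a) = H a⁻¹ := fun a ha => by
    simp only [H, UnitWreath.adj_add, UnitWreath.adj_smul, UnitWreath.adj_vecMulVec hΓ, map_inv₀, ha, inv_inv]
    rw [add_comm]
  have hpow : ∀ k : ℕ, k < 5 → ((2 : F) ^ k) ≠ 0 := fun k _ => pow_ne_zero _ hσ.two_ne
  have h2fix : ∀ k : ℕ, σ ((2 : F) ^ k) = (2 : F) ^ k := fun k => by rw [map_pow, map_ofNat]
  -- the determinant
  set W : Matrix ι ι F := vecMulVec f (phi σ Γ f) + vecMulVec u (phi σ Γ u) with hW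
  have Wu : W *ᵥ u = f := by
    rw [hW, add_mulVec, vecMulVec_mulVec, vecMulVec_mulVec, UnitWreath.phi_dot, UnitWreath.phi_dot, hfu, hu,
      MulOpposite.op_one, one_smul, MulOpposite.op_zero, zero_smul, add_zero]
  have Wf : W *ᵥ f = u := by
    rw [hW, add_mulVec, vecMulVec_mulVec, vecMulVec_mulVec, UnitWreath.phi_dot, UnitWreath.phi_dot, hff, huf,
      MulOpposite.op_one, one_smul, MulOpposite.op_zero, zero_smul, zero_add]
  have hWW : W * W = 1 := ext2 (by rw [← mulVec_mulVec, Wu, Wf, one_mulVec]) (by rw [← mulVec_mulVec, Wf, Wu, one_mulVec])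
  have hd4 : (H ((2 : F) ^ 2)).det = 1 := by
    have e : W * H 2 = H (2 : F)⁻¹ * W := ext2
      (by rw [← mulVec_mulVec, ← mulVec_mulVec, Hu, mulVec_smul, Wu, Hf, inv_inv])
      (by rw [← mulVec_mulVec, ← mulVec_mulVec, Hf, mulVec_smul, Wf, Hu])
    have hW0 : W.det ≠ 0 := fun e0 => by
      have := congrArg Matrix.det hWW
      rw [det_mul, e0, zero_mul, det_one] at this
      exact zero_ne_one this
    have e1 : (H 2).det = (H (2 : F)⁻¹).det := by
      have := congrArg Matrix.det e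
      rw [det_mul, det_mul, mul_comm (H (2 : F)⁻¹).det] at this
      exact mul_left_cancel₀ hW0 this
    calc (H ((2 : F) ^ 2)).det = (H 2).det * (H (2 : F)⁻¹).det := by
          rw [← e1, ← det_mul, Hmul, pow_two]
      _ = 1 := by rw [← det_mul, Hmul, mul_inv_cancel₀ hσ.two_ne, H1, det_one]
  let gH : GL ι F := ⟨H ((2 : F) ^ 2), H (((2 : F) ^ 2)⁻¹), by rw [Hmul, mul_inv_cancel₀ (hpow 2 (by norm_num)), H1],
    by rw [Hmul, inv_mul_cancel₀ (hpow 2 (by norm_num)), H1]⟩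
  have hgi : IsIso σ Γ (gH : Matrix ι ι F) := by
    show adj σ Γ Γ (H ((2 : F) ^ 2)) * H ((2 : F) ^ 2) = 1
    rw [Hadj _ (h2fix 2), Hmul, inv_mul_cancel₀ (hpow 2 (by norm_num)), H1]
  have hrH : r * gH⁻¹ = gH * r := Units.ext (ext2
    (by
      show (A * H (((2 : F) ^ 2)⁻¹)) *ᵥ u = (H ((2 : F) ^ 2) * A) *ᵥ u
      rw [← mulVec_mulVec, ← mulVec_mulVec, Hu, mulVec_smul,
        show A *ᵥ u = x • f by rw [hf, smul_smul, mul_inv_cancel₀ hx0, one_smul], mulVec_smul, Hf, smul_comm])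
    (by
      show (A * H (((2 : F) ^ 2)⁻¹)) *ᵥ f = (H ((2 : F) ^ 2) * A) *ᵥ f
      have hAf : A *ᵥ f = (-x⁻¹) • u := by
        rw [hf, mulVec_smul, mulVec_mulVec, ← Units.val_mul, hrr, Units.val_neg, Units.val_one, neg_mulVec,
          one_mulVec, smul_neg, neg_smul]
      rw [← mulVec_mulVec, ← mulVec_mulVec, Hf, inv_inv, mulVec_smul, hAf, mulVec_smul, Hu, smul_comm]))
  have hd : gH * gH ∈ K := by
    have h1 := mul_mem (hn gH hgi hd4 r hr) (inv_mem hr)
    rwa [show gH * r * gH⁻¹ * r⁻¹ = gH * (r * gH⁻¹) * r⁻¹ by group, hrH,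
      show gH * (gH * r) * r⁻¹ = gH * gH by group] at h1
  -- the transvections at `u`
  have hT : UnitWreath.HasTv σ Γ K u := by
    intro c hc
    set μ : F := (2 : F) ^ 8 - 1 with hμ
    have hμ0 : μ ≠ 0 := by
      intro e
      haveI := hσ.charP
      have e' : ((255 : ℕ) : F) = 0 := by push_cast; rw [hμ] at e; linear_combination e
      rw [CharP.cast_eq_zero_iff F (Nat.card (fixedSub σ))] at e'
      have hmem : Nat.card (fixedSub σ) ∈ Nat.divisors 255 := Nat.mem_divisors.2 ⟨e', by norm_num⟩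
      have hp := hσ.prime
      have hp4 := hσ.four
      have := Nat.le_of_dvd (by norm_num) e'
      rw [show Nat.divisors 255 = {1, 3, 5, 15, 17, 51, 85, 255} by decide] at hmem
      simp only [Finset.mem_insert, Finset.mem_singleton] at hmem
      rcases hmem with h | h | h | h | h | h | h | h <;> rw [h] at hp hp4 <;>
        first | omega | norm_num at hp
    set c' := c / μ with hc'
    have hc's : c' + σ c' = 0 := by
      rw [hc', map_div₀, hμ, map_sub, h2fix, map_one, ← add_div, hc, zero_div]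
    set t := trvGL σ Γ hu c'
    have h1 := mul_mem hd (hn t (trvGL_iso hΓ hu hc's) (trvGL_det hu c') _ (inv_mem hd))
    rw [show gH * gH * (t * (gH * gH)⁻¹ * t⁻¹) = (gH * gH) * t * (gH * gH)⁻¹ * t⁻¹ by group,
      trvGL_conj hΓ (by rw [Units.val_mul]; exact UnitWreath.IsIso.mul hΓ hgi hgi)] at h1
    refine ⟨_, h1, UnitWreath.ext_mulVec fun y => ?_⟩
    have hdu : ((gH * gH : GL ι F) : Matrix ι ι F) *ᵥ u = (2 : F) ^ 4 • u := by
      show (H ((2 : F) ^ 2) * H ((2 : F) ^ 2)) *ᵥ u = _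
      rw [Hmul, Hu, ← pow_add]
    rw [Units.val_mul, ← mulVec_mulVec, trvGL_mulVec]
    show _ = (1 + c • sqr σ Γ u) *ᵥ y
    rw [show ((t⁻¹ : GL ι F) : Matrix ι ι F) = 1 - c' • sqr σ Γ u from rfl, sub_mulVec, one_mulVec, smul_mulVec,
      UnitWreath.sqr_mulVec, hdu, UnitWreath.ip_smul_left, h2fix, UnitWreath.ip_sub_right, UnitWreath.ip_smul_right,
      UnitWreath.ip_smul_right, hu, add_mulVec, one_mulVec, smul_mulVec, UnitWreath.sqr_mulVec, smul_smul, smul_smul,
      smul_smul, mul_zero, mul_zero, sub_zero, sub_add_eq_add_sub, sub_eq_add_neg, ← neg_smul, add_assoc, ← add_smul]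
    congr 2
    have hcμ : c' * μ = c := div_mul_cancel₀ c hμ0
    rw [hμ] at hcμ
    linear_combination ip σ Γ u y * hcμ
  exact big_two hσ hΓ h2c hu hru hli hT (hT.move hΓ hr hri)

/-- Dimension at least three, by simplicity. -/
theorem big_of_normalized (hσ : Fld σ) (hΓ : IsGram σ Γ) (h3c : 3 ≤ Fintype.card ι)
    (hn : ∀ g : GL ι F, IsIso σ Γ (g : Matrix ι ι F) → (g : Matrix ι ι F).det = 1 → ∀ y ∈ K, g * y * g⁻¹ ∈ K)
    {r : GL ι F} (hr : r ∈ K) (hri : IsIso σ Γ (r : Matrix ι ι F)) (hr1 : r ∉ scalars ι F) :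
    Big σ Γ K := by
  have H := herm_of hσ.inv hΓ
  obtain ⟨u, hu0, hu, hmv⟩ := exists_moved hσ hΓ (by omega) hr1
  obtain ⟨c, hc0, hc⟩ := H.exists_skew
  set w := (r : Matrix ι ι F) *ᵥ u with hw
  have hww : ip σ Γ w w = 0 := (iso_ip hΓ hri u u).trans hu
  set t := trvGL σ Γ hu c
  set d := t * (r * t⁻¹ * r⁻¹) with hd
  have hdK : d ∈ K := by
    rw [hd, show t * (r * t⁻¹ * r⁻¹) = t * r * t⁻¹ * r⁻¹ by group]
    exact mul_mem (hn t (trvGL_iso hΓ hu hc) (trvGL_det hu c) r hr) (inv_mem hr)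
  have hde : d = t * (trvGL σ Γ hww c)⁻¹ := by
    rw [← trvGL_conj hΓ hri hu c, hd, show (r * trvGL σ Γ hu c * r⁻¹)⁻¹ = r * (trvGL σ Γ hu c)⁻¹ * r⁻¹ by group]
  let φ : HU (bil σ Γ) →* GL ι F := (Matrix.GeneralLinearGroup.toLin.symm.toMonoidHom.comp
    (LinearMap.GeneralLinearGroup.generalLinearEquiv F (ι → F)).symm.toMonoidHom).comp (HU (bil σ Γ)).subtype
  have hφ : ∀ g z, (φ g : Matrix ι ι F) *ᵥ z = (g : (ι → F) ≃ₗ[F] (ι → F)) z := fun g z => by
    show (LinearMap.toMatrix' ((g : (ι → F) ≃ₗ[F] (ι → F)) : (ι → F) →ₗ[F] (ι → F))) *ᵥ z = _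
    rw [LinearMap.toMatrix'_mulVec]
    rfl
  have hφi : ∀ g, IsIso σ Γ (φ g : Matrix ι ι F) := fun g => iso_of_ip hΓ fun a b => by
    rw [hφ, hφ]; exact CfsgLib.Classical.Herm.HU.map_eq g a b
  have hφd : ∀ g ∈ HSU (bil σ Γ), (φ g : Matrix ι ι F).det = 1 := fun g hg => by
    have h := congrArg Units.val (MonoidHom.mem_ker.1 hg)
    rw [HU.det, MonoidHom.comp_apply, LinearEquiv.coe_det] at h
    show (LinearMap.toMatrix' ((g : (ι → F) ≃ₗ[F] (ι → F)) : (ι → F) →ₗ[F] (ι → F))).det = 1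
    rw [LinearMap.det_toMatrix']
    exact h
  let N : Subgroup (HSU (bil σ Γ)) := (K.comap φ).subgroupOf (HSU (bil σ Γ))
  have hN : N.Normal := ⟨fun y hy g => by
    show φ ((g * y * g⁻¹ : HSU (bil σ Γ)) : HU (bil σ Γ)) ∈ K
    rw [Subgroup.coe_mul, Subgroup.coe_mul, Subgroup.coe_inv, map_mul, map_mul, map_inv]
    exact hn _ (hφi _) (hφd _ g.2) _ hy⟩
  set d' : HSU (bil σ Γ) := ⟨H.tr hu hc * (H.tr hww hc)⁻¹, mul_mem (H.det_tr hu hc) (inv_mem (H.det_tr hww hc))⟩
  have htr : ∀ (v : ι → F) (hv : ip σ Γ v v = 0) (e : F) (he : e + σ e = 0), φ (H.tr hv he) = trvGL σ Γ hv e :=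
    fun v hv e he => Units.ext (UnitWreath.ext_mulVec fun y => by
      rw [hφ, trvGL_mulVec]; exact H.tr_apply hv he y)
  have hd'φ : φ (d' : HU (bil σ Γ)) = d := by
    show φ (H.tr hu hc * (H.tr hww hc)⁻¹) = d
    rw [hde, map_mul, map_inv, htr, htr]
  have hd'N : d' ∈ N := by
    show φ (d' : HU (bil σ Γ)) ∈ K
    rw [hd'φ]; exact hdK
  have hd'c : d' ∉ Subgroup.center (HSU (bil σ Γ)) := by
    intro hcen
    -- it would fix every isotropic line
    have hfix : ∀ v : ι → F, v ≠ 0 → ip σ Γ v v = 0 → ∃ a : F, (d : Matrix ι ι F) *ᵥ v = a • v := by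
      intro v hv0 hv
      have h1 := congrArg (fun g : HSU (bil σ Γ) => φ (g : HU (bil σ Γ)))
        (Subgroup.mem_center_iff.1 hcen ⟨H.tr hv hc, H.det_tr hv hc⟩)
      simp only [Subgroup.coe_mul, map_mul, htr, hd'φ] at h1
      obtain ⟨z, hz⟩ := H.exists_apply_eq_one hv0
      rw [UnitWreath.bil_apply] at hz
      have h2 := congrArg (fun g : GL ι F => (g : Matrix ι ι F) *ᵥ z) h1
      simp only [Units.val_mul, ← mulVec_mulVec, trvGL_mulVec, mulVec_add, mulVec_smul, hz, mul_one] at h2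
      refine ⟨ip σ Γ v ((d : Matrix ι ι F) *ᵥ z), smul_right_injective _ hc0 ?_⟩
      show c • _ = c • _
      rw [smul_smul]
      exact (add_left_cancel h2).symm
    have hdv : ∀ y, (d : Matrix ι ι F) *ᵥ y = (y - (c * ip σ Γ w y) • w) +
        (c * ip σ Γ u (y - (c * ip σ Γ w y) • w)) • u := fun y => by
      rw [hde, Units.val_mul, ← mulVec_mulVec,
        show (((trvGL σ Γ hww c)⁻¹ : GL ι F) : Matrix ι ι F) = 1 - c • sqr σ Γ w from rfl, sub_mulVec, one_mulVec,
        smul_mulVec, UnitWreath.sqr_mulVec, smul_smul, trvGL_mulVec]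
    have hli : ∀ a b : F, a • u + b • w = 0 → a = 0 ∧ b = 0 :=
      LinearIndependent.pair_iff.1 ((LinearIndependent.pair_iff' hu0).2 fun a e => hmv a e.symm)
    by_cases huw : ip σ Γ u w = 0
    · obtain ⟨f, huf, hff⟩ := H.exists_isotropic_partner hu0 hu
      rw [UnitWreath.bil_apply] at huf hff
      have hf0 : f ≠ 0 := fun e => by rw [e, UnitWreath.ip_zero_right] at huf; exact zero_ne_one huf
      obtain ⟨a, ha⟩ := hfix f hf0 hff
      rw [hdv, UnitWreath.ip_sub_right, UnitWreath.ip_smul_right, huw, huf, mul_zero, sub_zero, mul_one] at ha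
      have h1 := congrArg (ip σ Γ u) ha
      simp only [UnitWreath.ip_add_right, UnitWreath.ip_sub_right, UnitWreath.ip_smul_right, huw, huf, hu, mul_zero,
        sub_zero, add_zero, mul_one] at h1
      rw [← h1, one_smul] at ha
      have h2 := hli c (-(c * ip σ Γ w f)) (by linear_combination (norm := module) ha)
      exact hc0 h2.1
    · obtain ⟨a, ha⟩ := hfix u hu0 hu
      rw [hdv] at ha
      have hwu : ip σ Γ w u ≠ 0 := fun e => huw (hΓ.ip_eq_zero_symm e)
      have h2 := hli (1 + c * ip σ Γ u (u - (c * ip σ Γ w u) • w) - a) (-(c * ip σ Γ w u))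
        (by linear_combination (norm := module) ha)
      exact mul_ne_zero hc0 hwu (neg_eq_zero.1 h2.2)
  have hex : Module.finrank F (ι → F) = 3 → Nat.card (fixedSub σ) ≠ 2 := fun _ h => by
    have := hσ.four; omega
  have hs := H.isSimpleGroup_PSU (by rw [Module.finrank_fintype_fun_eq_card]; exact h3c) hex
  have hperf := H.HSU_le_commutator (by rw [Module.finrank_fintype_fun_eq_card]; exact h3c) hex
  set π := QuotientGroup.mk' (Subgroup.center (HSU (bil σ Γ)))
  have htop : N = ⊤ := by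
    rcases hs.eq_bot_or_eq_top_of_normal _ (hN.map π (QuotientGroup.mk'_surjective _)) with h | h
    · exact absurd ((QuotientGroup.eq_one_iff d').1 (Subgroup.mem_bot.1 (h ▸ Subgroup.mem_map_of_mem π hd'N))) hd'c
    · refine top_unique ?_
      rw [← hperf, commutator_def, Subgroup.commutator_le]
      intro a _ b _
      obtain ⟨a', ha', hea⟩ := (h ▸ Subgroup.mem_top _ : π a ∈ N.map π)
      obtain ⟨z, hz, rfl⟩ : ∃ z ∈ Subgroup.center (HSU (bil σ Γ)), a = a' * z :=
        ⟨a'⁻¹ * a, QuotientGroup.eq.1 hea, (mul_inv_cancel_left a' a).symm⟩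
      have hzv := Subgroup.mem_center_iff.1 hz
      rw [commutatorElement_def, _root_.mul_inv_rev, mul_assoc a' z b, ← hzv b,
        show a' * (b * z) * (z⁻¹ * a'⁻¹) * b⁻¹ = a' * (b * a'⁻¹ * b⁻¹) by group]
      exact mul_mem ha' (hN.conj_mem _ (inv_mem ha') b)
  intro v hv e he
  have hmem : (⟨H.tr hv he, H.det_tr hv he⟩ : HSU (bil σ Γ)) ∈ N := htop ▸ Subgroup.mem_top _
  exact ⟨_, htr v hv e he ▸ (hmem : φ (H.tr hv he) ∈ K), trvGL_val hv e⟩

end CfsgLib.Geo.SympNorm
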