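import Cfsg.Agent.Lib.Geo.SympNorm.Coord
import Cfsg.Agent.Lib.Geo.UnitWreath.Final

/-!
# Hermitian forms over a field with a prime fixed field: transvections, moves, coordinates
-/

set_option autoImplicit false
set_option linter.unusedSectionVars false

namespace CfsgLib.Geo.SympNorm

open Matrix Cfsg.Geo
open CfsgLib.Classical.Herm (IsInvol IsHerm fixedSub mem_fixedSub)
open CfsgLib.Geo.UnitWreath (IsGram ip phi adj sqr Sim IsIso bil)

variable {F : Type*} [Field F] {σ : F →+* F}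
variable {ι ι' : Type} [Fintype ι] [DecidableEq ι] [Fintype ι'] [DecidableEq ι']

/-- The involution has a fixed field of prime order congruent to three modulo four. -/
structure Fld (σ : F →+* F) : Prop where
  inv : IsInvol σ
  prime : (Nat.card (fixedSub σ)).Prime
  four : Nat.card (fixedSub σ) % 4 = 3

namespace Fld

variable (hσ : Fld σ)
include hσ

theorem charP [Finite F] : CharP F (Nat.card (fixedSub σ)) := by
  haveI : Fact (Nat.card (fixedSub σ)).Prime := ⟨hσ.prime⟩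
  haveI : Fintype (fixedSub σ) := Fintype.ofFinite _
  haveI : CharP (fixedSub σ) (Nat.card (fixedSub σ)) := charP_of_card_eq_prime Nat.card_eq_fintype_card.symm
  exact charP_of_injective_ringHom (fixedSub σ).subtype.injective _

theorem two_ne [Finite F] : (2 : F) ≠ 0 := fun h => by
  haveI := hσ.charP
  have h' : ((2 : ℕ) : F) = 0 := by exact_mod_cast h
  rw [CharP.cast_eq_zero_iff F (Nat.card (fixedSub σ))] at h'
  have := Nat.le_of_dvd two_pos h'
  have := hσ.four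
  omega

theorem exists_nat [Finite F] {μ : F} (hμ : σ μ = μ) : ∃ k : ℕ, (k : F) = μ := by
  haveI : Fact (Nat.card (fixedSub σ)).Prime := ⟨hσ.prime⟩
  haveI : Fintype (fixedSub σ) := Fintype.ofFinite _
  haveI : CharP (fixedSub σ) (Nat.card (fixedSub σ)) := charP_of_card_eq_prime Nat.card_eq_fintype_card.symm
  obtain ⟨k, hk⟩ := (ZMod.castHom_bijective (R := fixedSub σ)
    (n := Nat.card (fixedSub σ)) Nat.card_eq_fintype_card.symm).2 ⟨μ, hμ⟩
  refine ⟨k.val, ?_⟩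
  rw [← ZMod.natCast_zmod_val k, map_natCast] at hk
  exact (map_natCast (fixedSub σ).subtype k.val).symm.trans (congrArg Subtype.val hk)

/-- A square root of minus one is skew. -/
theorem root_skew [Finite F] {i : F} (hi : i * i = -1) : σ i = -i := by
  have h : σ i * σ i = i * i := by rw [← map_mul, hi, map_neg, map_one]
  refine (mul_self_eq_mul_self_iff.1 h).resolve_left fun hfix => ?_
  haveI : Fintype (fixedSub σ) := Fintype.ofFinite _
  have hsq : IsSquare (-1 : fixedSub σ) := ⟨⟨i, hfix⟩, Subtype.ext (by simpa using hi.symm)⟩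
  rw [FiniteField.isSquare_neg_one_iff, ← Nat.card_eq_fintype_card] at hsq
  exact hsq hσ.four

end Fld

/-- The group contains all transvections. -/
def Big (σ : F →+* F) (Γ : Matrix ι ι F) (M : Subgroup (GL ι F)) : Prop :=
  ∀ v, ip σ Γ v v = 0 → UnitWreath.HasTv σ Γ M v

variable {Γ : Matrix ι ι F}

theorem herm_of (hs : IsInvol σ) (hΓ : IsGram σ Γ) : IsHerm (bil σ Γ) :=
  ⟨hs, hΓ.ip_symm, fun _ h => hΓ.ip_nondeg h⟩

theorem iso_ip (hΓ : IsGram σ Γ) {g : Matrix ι ι F} (hg : IsIso σ Γ g) (x y : ι → F) :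
    ip σ Γ (g *ᵥ x) (g *ᵥ y) = ip σ Γ x y := by
  rw [UnitWreath.ip_mulVec_left hΓ, mulVec_mulVec, hg, one_mulVec]

theorem iso_of_ip (hΓ : IsGram σ Γ) {g : Matrix ι ι F}
    (h : ∀ x y, ip σ Γ (g *ᵥ x) (g *ᵥ y) = ip σ Γ x y) : IsIso σ Γ g :=
  UnitWreath.ext_mulVec fun z => hΓ.ip_ext fun w => by
    rw [← mulVec_mulVec, ← UnitWreath.ip_mulVec_left hΓ, h, one_mulVec]

theorem adj_of_sq (hΓ : IsGram σ Γ) {x : GL ι F} (hx : x * x = -1) (hi : IsIso σ Γ (x : Matrix ι ι F)) :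
    adj σ Γ Γ (x : Matrix ι ι F) = -(x : Matrix ι ι F) := by
  refine left_inv_eq_right_inv hi ?_
  rw [mul_neg, ← Units.val_mul, hx]; simp

theorem tv_sim (h2 : (2 : F) ≠ 0) (hΓ : IsGram σ Γ) {x : GL ι F} (hx : x * x = -1)
    (hi : IsIso σ Γ (x : Matrix ι ι F)) :
    adj σ Γ Γ ((tv h2 x hx : GL ι F) : Matrix ι ι F) * ((tv h2 x hx : GL ι F) : Matrix ι ι F) = (2 : F) • 1 := by
  show adj σ Γ Γ (1 + (x : Matrix ι ι F)) * (1 + (x : Matrix ι ι F)) = _
  rw [UnitWreath.adj_add, UnitWreath.adj_one hΓ, adj_of_sq hΓ hx hi, add_mul, one_mul, neg_mul, mul_add, mul_one,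
    ← Units.val_mul, hx, Units.val_neg, Units.val_one, two_smul]
  abel

theorem move_sim' [Nonempty ι] {M : Subgroup (GL ι F)} (hΓ : IsGram σ Γ) {g : GL ι F} (hg : g ∈ M)
    (hs : Sim σ Γ (g : Matrix ι ι F)) {v : ι → F} (h : UnitWreath.HasTv σ Γ M v) :
    UnitWreath.HasTv σ Γ M ((g : Matrix ι ι F) *ᵥ v) := by
  obtain ⟨ν, h0, hν⟩ := hs
  exact UnitWreath.HasTv.move_sim hΓ hg h0 (Sim.fixed hΓ hν) hν h

/-- With all transvections every special isometry lies in the group. -/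
theorem mem_of_big [Finite F] (hσ : Fld σ) (hΓ : IsGram σ Γ) (h2c : 2 ≤ Fintype.card ι) {M : Subgroup (GL ι F)}
    (hY : Big σ Γ M) {x : GL ι F} (hi : IsIso σ Γ (x : Matrix ι ι F)) (hd : (x : Matrix ι ι F).det = 1) :
    x ∈ M := by
  have H := herm_of hσ.inv hΓ
  let φ : CfsgLib.Classical.Herm.HU (bil σ Γ) →* GL ι F := (Matrix.GeneralLinearGroup.toLin.symm.toMonoidHom.comp
    (LinearMap.GeneralLinearGroup.generalLinearEquiv F (ι → F)).symm.toMonoidHom).comp
      (CfsgLib.Classical.Herm.HU (bil σ Γ)).subtype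
  have hφ : ∀ g z, (φ g : Matrix ι ι F) *ᵥ z = (g : (ι → F) ≃ₗ[F] (ι → F)) z := fun g z => by
    show (LinearMap.toMatrix' ((g : (ι → F) ≃ₗ[F] (ι → F)) : (ι → F) →ₗ[F] (ι → F))) *ᵥ z = _
    rw [LinearMap.toMatrix'_mulVec]
    rfl
  set g : CfsgLib.Classical.Herm.HU (bil σ Γ) := H.ofPreserves (Matrix.toLin' (x : Matrix ι ι F)) fun y z => by
    rw [Matrix.toLin'_apply, Matrix.toLin'_apply, UnitWreath.bil_apply, iso_ip hΓ hi]
    rfl
  have hg : g ∈ H.trGroup := by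
    rw [H.trGroup_eq (by rw [Module.finrank_fintype_fun_eq_card]; omega)
      (fun _ h => by have := hσ.four; omega)]
    refine MonoidHom.mem_ker.2 (Units.ext ?_)
    rw [CfsgLib.Classical.Herm.HU.det, MonoidHom.comp_apply, LinearEquiv.coe_det]
    show LinearMap.det ((g : (ι → F) ≃ₗ[F] (ι → F)) : (ι → F) →ₗ[F] (ι → F)) = 1
    rw [IsHerm.coe_ofPreserves, LinearMap.det_toLin', hd]
  have hle : H.trGroup ≤ M.comap φ := by
    refine (Subgroup.closure_le _).2 ?_
    rintro _ ⟨u, hu, c, hc, rfl⟩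
    obtain ⟨y, hy, ey⟩ := hY u hu c hc
    show φ (H.tr hu hc) ∈ M
    rw [show φ (H.tr hu hc) = y from Units.ext (UnitWreath.ext_mulVec fun z => by
      rw [hφ, ey, H.tr_apply, Matrix.add_mulVec, Matrix.one_mulVec, Matrix.smul_mulVec, UnitWreath.sqr_mulVec,
        smul_smul]
      rfl)]
    exact hy
  have h1 : φ g ∈ M := hle hg
  rwa [show φ g = x from Units.ext (UnitWreath.ext_mulVec fun z => by
    rw [hφ]; exact H.ofPreserves_apply _ _ z)] at h1

/-- Vectors of equal non-zero norm are conjugate under the special isometries. -/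
theorem move_norm [Finite F] (hσ : Fld σ) (hΓ : IsGram σ Γ) (h2c : 2 ≤ Fintype.card ι) {x y : ι → F}
    (hx : ip σ Γ x x ≠ 0) (hxy : ip σ Γ x x = ip σ Γ y y) :
    ∃ g : GL ι F, IsIso σ Γ (g : Matrix ι ι F) ∧ (g : Matrix ι ι F).det = 1 ∧ (g : Matrix ι ι F) *ᵥ x = y := by
  have H := herm_of hσ.inv hΓ
  obtain ⟨g₀, hg₀⟩ := H.exists_map_of_anisotropic (x := x) (y := y) hx hxy
  set A := LinearMap.toMatrix' ((g₀ : (ι → F) ≃ₗ[F] (ι → F)) : (ι → F) →ₗ[F] (ι → F))
  have hA : ∀ z, A *ᵥ z = (g₀ : (ι → F) ≃ₗ[F] (ι → F)) z := LinearMap.toMatrix'_mulVec _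
  have hiA : IsIso σ Γ A := iso_of_ip hΓ fun a b => by rw [hA, hA]; exact CfsgLib.Classical.Herm.HU.map_eq g₀ a b
  have hy : ip σ Γ y y ≠ 0 := hxy ▸ hx
  obtain ⟨z, hz, hzz⟩ : ∃ z, ip σ Γ y z = 0 ∧ ip σ Γ z z ≠ 0 := by
    have hr := H.restrict_perp (x := y) hy
    have hd := H.finrank_perp (x := y) hy
    rw [Module.finrank_fintype_fun_eq_card] at hd
    obtain ⟨w, hw⟩ : ∃ w : H.perp y, w ≠ 0 := by
      haveI := Module.finrank_pos_iff.1 (show 0 < Module.finrank F (H.perp y) by omega)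
      exact exists_ne 0
    obtain ⟨z, hz⟩ := hr.exists_anisotropic hw
    exact ⟨z, z.2, hz⟩
  set d := A.det with hd
  have hnd : σ d * d = 1 := by
    have h1 := congrArg Matrix.det hiA
    rw [det_mul, det_one, adj, det_mul, det_mul, det_transpose, ← RingHom.mapMatrix_apply, ← RingHom.map_det,
      det_nonsing_inv, Ring.inverse_eq_inv'] at h1
    have hG0 : Γ.det ≠ 0 := hΓ.unit.ne_zero
    field_simp at h1
    linear_combination h1
  have hd0 : d ≠ 0 := fun e => by simp [e] at hnd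
  have hσd : σ d = d⁻¹ := eq_inv_of_mul_eq_one_left hnd
  set ν := ip σ Γ z z with hν
  have hσν : σ ν = ν := hΓ.ip_symm z z
  set Q : Matrix ι ι F := 1 + ((d⁻¹ - 1) / ν) • sqr σ Γ z with hQ
  have hQi : IsIso σ Γ Q := by
    rw [IsIso, hQ, UnitWreath.adj_add, UnitWreath.adj_one hΓ, UnitWreath.adj_smul, UnitWreath.adj_sqr hΓ, add_mul,
      one_mul, smul_mul_assoc, mul_add, mul_one, mul_smul_comm, UnitWreath.sqr_mul_self, smul_smul, ← hν,
      map_div₀, map_sub, map_inv₀, hσd, map_one, hσν, inv_inv, smul_add, smul_smul, add_assoc, ← add_smul,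
      ← add_smul]
    convert add_zero (1 : Matrix ι ι F)
    convert zero_smul F (sqr σ Γ z)
    field_simp
    ring
  have hQd : Q.det = d⁻¹ := by
    rw [hQ, sqr, ← smul_vecMulVec, vecMulVec_eq Unit, det_one_add_replicateCol_mul_replicateRow, dotProduct_smul,
      UnitWreath.phi_dot, ← hν, smul_eq_mul, div_mul_cancel₀ _ hzz]
    ring
  have hQy : Q *ᵥ y = y := by
    rw [hQ, add_mulVec, one_mulVec, smul_mulVec, UnitWreath.sqr_mulVec, hΓ.ip_eq_zero_symm hz, zero_smul, smul_zero,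
      add_zero]
  have hdet : (Q * A).det = 1 := by rw [det_mul, hQd, ← hd, inv_mul_cancel₀ hd0]
  refine ⟨Matrix.GeneralLinearGroup.mkOfDetNeZero (Q * A) (by rw [hdet]; exact one_ne_zero),
    IsIso.mul hΓ hQi hiA, hdet, ?_⟩
  show (Q * A) *ᵥ x = y
  rw [← mulVec_mulVec, hA, hg₀, hQy]

/-- In dimension two two centres give all. -/
theorem big_two [Finite F] (hσ : Fld σ) (hΓ : IsGram σ Γ) (h2c : Fintype.card ι = 2) {M : Subgroup (GL ι F)}
    {w w' : ι → F} (hw : ip σ Γ w w = 0) (hw' : ip σ Γ w' w' = 0) (hli : LinearIndependent F ![w, w'])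
    (h : UnitWreath.HasTv σ Γ M w) (h' : UnitWreath.HasTv σ Γ M w') : Big σ Γ M := by
  have hspan : ∀ z : ι → F, ∃ a b : F, z = a • w + b • w' := fun z => by
    have hs := hli.span_eq_top_of_card_eq_finrank (by simp [h2c])
    have hz : z ∈ Submodule.span F ({w, w'} : Set (ι → F)) := by
      have e : Set.range ![w, w'] = {w, w'} := by simp [Matrix.range_cons, Matrix.range_empty, Set.pair_comm]
      rw [← e, hs]; trivial
    obtain ⟨a, b, e⟩ := Submodule.mem_span_pair.1 hz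
    exact ⟨a, b, e.symm⟩
  set x := ip σ Γ w w' with hx
  have hx0 : x ≠ 0 := by
    intro e
    refine hli.ne_zero 0 (hΓ.ip_nondeg fun z => ?_)
    obtain ⟨a, b, rfl⟩ := hspan z
    show ip σ Γ w _ = 0
    rw [UnitWreath.ip_add_right, UnitWreath.ip_smul_right, UnitWreath.ip_smul_right, hw, ← hx, e]
    simp
  intro z hz
  obtain ⟨a, b, rfl⟩ := hspan z
  by_cases hb : b = 0
  · subst hb
    rw [zero_smul, add_zero]
    by_cases ha : a = 0
    · intro c _
      refine ⟨1, one_mem _, ?_⟩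
      rw [ha, zero_smul, UnitWreath.sqr, UnitWreath.phi_zero]
      simp
    · refine UnitWreath.HasTv.of_smul hΓ (inv_ne_zero ha) ?_
      rwa [smul_smul, inv_mul_cancel₀ ha, one_smul]
  refine UnitWreath.HasTv.of_smul hΓ (inv_ne_zero hb) ?_
  rw [smul_add, smul_smul, smul_smul, inv_mul_cancel₀ hb, one_smul]
  set c := b⁻¹ * a / x with hc
  have hcs : c + σ c = 0 := by
    have h1 : ip σ Γ (b⁻¹ • (a • w + b • w')) (b⁻¹ • (a • w + b • w')) = 0 := by
      rw [UnitWreath.ip_smul_left, UnitWreath.ip_smul_right, hz, mul_zero, mul_zero]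
    rw [smul_add, smul_smul, smul_smul, inv_mul_cancel₀ hb, one_smul] at h1
    simp only [UnitWreath.ip_add_left, UnitWreath.ip_add_right, UnitWreath.ip_smul_left,
      UnitWreath.ip_smul_right, hw, hw', ← hx, ← hΓ.ip_symm w w', mul_zero, zero_add, add_zero] at h1
    have hσx : σ x ≠ 0 := (map_ne_zero σ).2 hx0
    rw [hc, map_div₀, div_add_div _ _ hx0 hσx, div_eq_zero_iff]
    left
    linear_combination h1
  obtain ⟨g, hg, eg⟩ := h c hcs
  have hgw : (g : Matrix ι ι F) *ᵥ w' = (b⁻¹ * a) • w + w' := by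
    rw [eg, add_mulVec, one_mulVec, smul_mulVec, UnitWreath.sqr_mulVec, smul_smul, ← hx, hc,
      div_mul_cancel₀ _ hx0, add_comm]
  rw [← hgw]
  refine UnitWreath.HasTv.move hΓ hg ?_ h'
  rw [eg, IsIso, UnitWreath.adj_add, UnitWreath.adj_one hΓ, UnitWreath.adj_smul, UnitWreath.adj_sqr hΓ, add_mul,
    one_mul, mul_add, mul_one, smul_mul_smul_comm, UnitWreath.sqr_mul_self, hw, zero_smul, smul_zero, add_zero,
    add_assoc, ← add_smul, hcs, zero_smul, add_zero]

/-- The form in new coordinates. -/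
theorem exists_gram (hΓ : IsGram σ Γ) (L : (ι' → F) ≃ₗ[F] (ι → F)) :
    ∃ Γ' : Matrix ι' ι' F, IsGram σ Γ' ∧ (∀ x y, ip σ Γ' x y = ip σ Γ (L x) (L y)) ∧
      (∀ X, adj σ Γ' Γ' (coordAlg L X) = coordAlg L (adj σ Γ Γ X)) ∧
      (∀ X, coordAlg L (sqr σ Γ X) = sqr σ Γ' (L.symm X)) := by
  classical
  set P : Matrix ι ι' F := LinearMap.toMatrix' (L : (ι' → F) →ₗ[F] (ι → F))
  have hP : ∀ x, P *ᵥ x = L x := LinearMap.toMatrix'_mulVec _
  set Γ' := (P.map σ)ᵀ * Γ * P with hΓ'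
  have hip : ∀ x y, ip σ Γ' x y = ip σ Γ (L x) (L y) := by
    intro x y
    rw [← hP, ← hP, UnitWreath.ip, UnitWreath.ip, UnitWreath.phi, UnitWreath.phi, hΓ', ← vecMul_vecMul,
      ← vecMul_vecMul, ← dotProduct_mulVec, vecMul_transpose]
    congr 2
    funext a
    simp [mulVec, dotProduct, map_sum]
  have hg : IsGram σ Γ' := by
    refine ⟨hΓ.invol, ?_, ?_⟩
    · rw [hΓ', Matrix.map_mul, Matrix.map_mul, Matrix.transpose_mul, Matrix.transpose_mul, hΓ.symm,
        Matrix.transpose_map, Matrix.transpose_transpose, hΓ.map_map, Matrix.mul_assoc]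
    · refine isUnit_iff_ne_zero.2 fun h0 => ?_
      obtain ⟨v, hv0, hv⟩ := Matrix.exists_vecMul_eq_zero_iff.2 h0
      have hsv : σ ∘ (σ ∘ v) = v := funext fun a => hΓ.invol (v a)
      refine hv0 ?_
      rw [← hsv]
      have hw : (σ ∘ v : ι' → F) = 0 := L.map_eq_zero_iff.1 (hΓ.ip_nondeg fun y => by
        rw [← L.apply_symm_apply y, ← hip, UnitWreath.ip, UnitWreath.phi, hsv, hv, zero_dotProduct])
      rw [hw]
      funext a; simp
  refine ⟨Γ', hg, hip, fun X => UnitWreath.ext_mulVec fun y => hg.ip_ext fun x => ?_, fun v =>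
    UnitWreath.ext_mulVec fun y => ?_⟩
  · rw [← UnitWreath.ip_mulVec_left hg, hip, hip, coordAlg_mulVec, coordAlg_mulVec, L.apply_symm_apply,
      L.apply_symm_apply, UnitWreath.ip_mulVec_left hΓ]
  · rw [coordAlg_mulVec, UnitWreath.sqr_mulVec, UnitWreath.sqr_mulVec, map_smul, hip, L.apply_symm_apply]

/-- Two isometries with this shape split the form. -/
theorem gram_block {κ : Type} [Fintype κ] [DecidableEq κ] {Γ : Matrix (κ ⊕ κ) (κ ⊕ κ) F} (h2 : (2 : F) ≠ 0)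
    (hΓ : IsGram σ Γ) (ha : IsIso σ Γ ((aM : GL (κ ⊕ κ) F) : Matrix (κ ⊕ κ) (κ ⊕ κ) F))
    (hb : IsIso σ Γ ((bM : GL (κ ⊕ κ) F) : Matrix (κ ⊕ κ) (κ ⊕ κ) F)) :
    ∃ G₀ : Matrix κ κ F, IsGram σ G₀ ∧ Γ = fromBlocks G₀ 0 0 G₀ := by
  have key : ∀ g : Matrix (κ ⊕ κ) (κ ⊕ κ) F, IsIso σ Γ g → (g.map σ)ᵀ * Γ * g = Γ := by
    intro g hg
    have := congrArg (Γ * ·) (show adj σ Γ Γ g * g = 1 from hg)
    simp only [adj, mul_one, ← Matrix.mul_assoc, hΓ.mul_inv, one_mul] at this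
    exact this
  have h1 := key _ ha
  have h2' := key _ hb
  rw [aM_val, ← fromBlocks_toBlocks Γ] at h1
  rw [show ((bM : GL (κ ⊕ κ) F) : Matrix (κ ⊕ κ) (κ ⊕ κ) F) = fromBlocks 0 1 1 0 from rfl,
    ← fromBlocks_toBlocks Γ] at h2'
  simp only [fromBlocks_map, fromBlocks_transpose, Matrix.map_zero σ (map_zero σ),
    Matrix.map_one σ (map_zero σ) (map_one σ), Matrix.map_neg σ (map_neg σ), transpose_zero, transpose_one,
    transpose_neg, fromBlocks_multiply, fromBlocks_inj, one_mul, zero_mul, mul_one, mul_zero, add_zero, zero_add,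
    neg_mul, mul_neg, neg_neg] at h1 h2'
  obtain ⟨-, e12, e21, -⟩ := h1
  obtain ⟨e11, -, -, -⟩ := h2'
  have z12 : Γ.toBlocks₁₂ = 0 := (smul_eq_zero.1 (show (2 : F) • Γ.toBlocks₁₂ = 0 by
    rw [two_smul]; nth_rewrite 1 [← e12]; exact neg_add_cancel _)).resolve_left h2
  have z21 : Γ.toBlocks₂₁ = 0 := (smul_eq_zero.1 (show (2 : F) • Γ.toBlocks₂₁ = 0 by
    rw [two_smul]; nth_rewrite 1 [← e21]; exact neg_add_cancel _)).resolve_left h2
  have hG : Γ = fromBlocks Γ.toBlocks₁₁ 0 0 Γ.toBlocks₁₁ := by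
    conv_lhs => rw [← fromBlocks_toBlocks Γ, z12, z21, e11]
  refine ⟨Γ.toBlocks₁₁, ⟨hΓ.invol, ?_, ?_⟩, hG⟩
  · have := hΓ.symm
    rw [hG, fromBlocks_map, fromBlocks_transpose, fromBlocks_inj] at this
    exact this.1
  · have := hΓ.unit
    rw [hG, det_fromBlocks_zero₂₁] at this
    exact isUnit_of_mul_isUnit_left this

end CfsgLib.Geo.SympNorm
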