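import Cfsg.Agent.Lib.Geo.SympNorm.UnitTools
import Cfsg.Agent.Lib.Geo.SympNorm.Two
import Cfsg.Agent.Lib.Geo.SympNorm.Four

/-!
# Dimension two, unitary case
-/

set_option autoImplicit false
set_option linter.unusedSectionVars false

namespace CfsgLib.Geo.SympNorm

open Matrix Cfsg.Geo
open CfsgLib.Classical.Herm (IsInvol IsHerm fixedSub mem_fixedSub)
open CfsgLib.Geo.UnitWreath (IsGram ip phi adj sqr Sim IsIso bil)

variable {F : Type*} [Field F] {σ : F →+* F}
variable {ι : Type} [Fintype ι] [DecidableEq ι]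

/-- The group consists of similitudes and the normalised elements of `R` of isometries. -/
structure UCtx (σ : F →+* F) (Γ : Matrix ι ι F) (R M : Subgroup (GL ι F)) : Prop where
  gram : IsGram σ Γ
  sim : ∀ g ∈ M, Sim σ Γ (g : Matrix ι ι F)
  iso : ∀ x ∈ R, x * x = -1 → IsIso σ Γ (x : Matrix ι ι F)

theorem trace_adj {Γ : Matrix ι ι F} (hΓ : IsGram σ Γ) (X : Matrix ι ι F) : (adj σ Γ Γ X).trace = σ X.trace := by
  rw [adj, trace_mul_cycle, hΓ.mul_inv, one_mul, trace_transpose]
  simp [Matrix.trace, map_sum]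

/-- In dimension two `R` consists of an anticommuting pair, its product and the scalars. -/
theorem IsSymp.two_cover {R : Subgroup (GL ι F)} (h : IsSymp R) (h2c : Fintype.card ι = 2) {r s : GL ι F} (hr : r ∈ R)
    (hs : s ∈ R) (hrs : Ac r s) {x : GL ι F} (hx : x ∈ R) :
    ∃ q ∈ ({1, r, s, r * s} : Set (GL ι F)), x * q ∈ scalars ι F := by
  have f1 : Ac s r := hrs.symm
  have g1 : Ac (r * s) r := Ac.mul_left' (Commute.refl r) f1
  have g2 : Ac (r * s) s := Ac.mul_left hrs (Commute.refl s)
  rcases h.sign x hx r hr with a | a <;> rcases h.sign x hx s hs with b | b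
  · exact ⟨1, by simp, h.two_commute_scalar h2c hr hs hrs (by simpa using a) (by simpa using b)⟩
  · exact ⟨r, by simp, h.two_commute_scalar h2c hr hs hrs (a.mul_left (Commute.refl r))
      (commute_of_ac_ac b.symm hrs.symm).symm⟩
  · exact ⟨s, by simp, h.two_commute_scalar h2c hr hs hrs (commute_of_ac_ac a.symm hrs).symm
      (b.mul_left (Commute.refl s))⟩
  · exact ⟨r * s, by simp, h.two_commute_scalar h2c hr hs hrs (commute_of_ac_ac a.symm g1.symm).symm
      (commute_of_ac_ac b.symm g2.symm).symm⟩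

variable [Finite F] {Γ : Matrix ι ι F} {R M : Subgroup (GL ι F)}

/-- Over the field of nine elements the traceless isometries of square minus one lie in `R`. -/
theorem mem_small (hσ : Fld σ) (h3 : Nat.card (fixedSub σ) = 3) (h : IsSymp R) (U : UCtx σ Γ R M)
    (h2c : Fintype.card ι = 2) {y : GL ι F} (hy : y * y = -1) (hyi : IsIso σ Γ (y : Matrix ι ι F))
    (hyt : (y : Matrix ι ι F).trace = 0) : y ∈ R := by
  haveI := h.nonempty
  have h2 := h.two
  obtain ⟨r, hr, s, hs, hrs, hr2, hs2⟩ := h.exists_pair (by omega)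
  set A := (r : Matrix ι ι F)
  set B := (s : Matrix ι ι F)
  set C := ((r * s : GL ι F) : Matrix ι ι F) with hC
  set Y := (y : Matrix ι ι F)
  have hq : (r * s) * (r * s) = -1 := by
    rw [show r * s * (r * s) = r * (s * r) * s by group, show s * r = -(r * s) from hrs.symm, mul_neg, neg_mul,
      show r * (r * s) * s = (r * r) * (s * s) by group, hr2, hs2]
    simp
  have eAA : A * A = -1 := by rw [← Units.val_mul, hr2]; simp
  have eBB : B * B = -1 := by rw [← Units.val_mul, hs2]; simp
  have eBA : B * A = -(A * B) := by rw [← Units.val_mul, show s * r = -(r * s) from hrs.symm]; simp [A, B]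
  have eC : C = A * B := Units.val_mul r s
  have hns := h.not_ac_scalar hrs
  have hC1 : r * s ∉ scalars ι F := (h.not_ac_scalar (Ac.mul_left hrs (Commute.refl s))).1
  have tA := h.trace_zero hr hns.1
  have tB := h.trace_zero hs hns.2
  have tC := h.trace_zero (mul_mem hr hs) hC1
  set b : F := -((Y * A).trace / 2) with hb
  set c : F := -((Y * B).trace / 2) with hc
  set d : F := -((Y * C).trace / 2) with hd
  have t1 : (1 : Matrix ι ι F).trace = 2 := by rw [trace_one, h2c]; norm_num
  have e : Y = b • A + c • B + d • C := by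
    refine sub_eq_zero.1 (h.eq_zero_of_trace fun x hx => ?_)
    obtain ⟨q, hq', hqs⟩ := h.two_cover h2c hr hs hrs hx
    obtain ⟨u, hu⟩ := (mem_scalars_iff _).1 hqs
    have tq : ∀ q : GL ι F, ∀ u : F, ((x * q : GL ι F) : Matrix ι ι F) = u • 1 → q * q = -1 →
        (x : Matrix ι ι F) = -(u • (q : Matrix ι ι F)) := fun q u e hq => by
      have e' : x = -(x * q * q) := by rw [mul_assoc, hq]; simp
      conv_lhs => rw [e', Units.val_neg, Units.val_mul, e, smul_mul_assoc, one_mul]
    rcases hq' with rfl | rfl | rfl | rfl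
    · rw [mul_one] at hu
      rw [hu, Matrix.mul_smul, mul_one, trace_smul]
      have tC' : ((r : Matrix ι ι F) * (s : Matrix ι ι F)).trace = 0 := by rw [← Units.val_mul]; exact tC
      simp [hyt, tA, tB, tC', A, B, C]
    all_goals
      rw [tq _ _ hu (by assumption)]
      simp only [mul_neg, Matrix.mul_smul, trace_neg, trace_smul, sub_mul, add_mul, smul_mul_assoc, trace_sub,
        trace_add, A, B, C, eC]
      simp only [← mul_assoc, smul_eq_mul]
    · have e1 : A * B * A = B := by rw [mul_assoc, eBA, mul_neg, ← mul_assoc, eAA]; simp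
      rw [eAA, eBA, e1, trace_neg, trace_neg, t1, ← eC, tC, tB, hb]
      field_simp
      ring
    · rw [mul_assoc A B B, eBB, mul_neg, mul_one, trace_neg, trace_neg, t1, ← eC, tC, tA, hc]
      field_simp
      ring
    · have e1 : A * A * B = -B := by rw [eAA]; simp
      have e2 : B * A * B = A := by rw [eBA, neg_mul, mul_assoc, eBB]; simp
      have e3 : A * B * A * B = -1 := by rw [← eC, mul_assoc, ← eC, hC, ← Units.val_mul, hq]; simp
      rw [e1, e2, e3, trace_neg, trace_neg, t1, tA, tB, hd, eC, ← mul_assoc]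
      field_simp
      ring
  have hfix : ∀ z : GL ι F, z * z = -1 → z ∈ R → σ ((Y * (z : Matrix ι ι F)).trace) = (Y * (z : Matrix ι ι F)).trace := by
    intro z hz hzR
    rw [← trace_adj U.gram, UnitWreath.adj_mul U.gram, adj_of_sq U.gram hz (U.iso z hzR hz),
      adj_of_sq U.gram hy hyi, neg_mul_neg, trace_mul_comm]
  haveI := hσ.charP
  have h30 : ((3 : ℕ) : F) = 0 := by rw [← h3]; exact CharP.cast_eq_zero F _
  have tri : ∀ z : GL ι F, z * z = -1 → z ∈ R → -((Y * (z : Matrix ι ι F)).trace / 2) = 0 ∨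
      -((Y * (z : Matrix ι ι F)).trace / 2) = 1 ∨ -((Y * (z : Matrix ι ι F)).trace / 2) = -1 := by
    intro z hz hzR
    obtain ⟨k, hk⟩ := hσ.exists_nat (μ := -((Y * (z : Matrix ι ι F)).trace / 2))
      (by rw [map_neg, map_div₀, hfix z hz hzR, map_ofNat])
    rw [← hk, CharP.cast_eq_mod F (Nat.card (fixedSub σ)) k, h3]
    have hlt := Nat.mod_lt k (show 0 < 3 by norm_num)
    interval_cases (k % 3)
    · simp
    · simp
    · refine Or.inr (Or.inr ?_)
      push_cast at h30 ⊢
      linear_combination h30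
  have hb3 := tri r hr2 hr
  have hc3 := tri s hs2 hs
  have hd3 := tri (r * s) hq (mul_mem hr hs)
  rw [← hb] at hb3; rw [← hc] at hc3; rw [← hd] at hd3
  have hsum : b * b + c * c + d * d = 1 := by
    have eY : Y * Y = -1 := by rw [← Units.val_mul, hy]; simp
    have p1 : A * C = -B := by rw [eC, ← mul_assoc, eAA]; simp
    have p2 : C * A = B := by rw [eC, mul_assoc, eBA, mul_neg, ← mul_assoc, eAA]; simp
    have p3 : B * C = A := by rw [eC, ← mul_assoc, eBA, neg_mul, mul_assoc, eBB]; simp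
    have p4 : C * B = -A := by rw [eC, mul_assoc, eBB]; simp
    have p5 : C * C = -1 := by rw [hC, ← Units.val_mul, hq]; simp
    have key := congrArg Matrix.trace eY
    rw [e] at key
    simp only [add_mul, mul_add, smul_mul_smul_comm, eAA, eBB, eBA, p1, p2, p3, p4, p5, ← eC, trace_add, trace_smul,
      trace_neg, tA, tB, tC, t1, smul_eq_mul] at key
    have : (2 : F) * (b * b + c * c + d * d) = 2 * 1 := by linear_combination -key
    exact mul_left_cancel₀ h2 this
  have hR : ∀ (z : GL ι F), z ∈ R → Y = (z : Matrix ι ι F) → y ∈ R := fun z hz ez => by rwa [Units.ext ez]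
  rcases hb3 with hb3 | hb3 | hb3 <;> rcases hc3 with hc3 | hc3 | hc3 <;> rcases hd3 with hd3 | hd3 | hd3 <;>
    rw [hb3, hc3, hd3] at e hsum <;> simp only [zero_smul, one_smul, neg_smul, zero_add, add_zero] at e <;> first
    | exact absurd (show (1 : F) = 0 by linear_combination -hsum) one_ne_zero
    | exact absurd (show (1 : F) = 0 by linear_combination hsum) one_ne_zero
    | exact absurd (show (2 : F) = 0 by linear_combination hsum) h2
    | exact hR r hr e
    | exact hR s hs e
    | exact hR (r * s) (mul_mem hr hs) e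
    | exact hR (-r) (h.neg_mem hr) (e.trans (Units.val_neg r).symm)
    | exact hR (-s) (h.neg_mem hs) (e.trans (Units.val_neg s).symm)
    | exact hR (-(r * s)) (h.neg_mem (mul_mem hr hs)) (e.trans (Units.val_neg (r * s)).symm)

/-- A unipotent similitude gives all transvections at its centre. -/
theorem exists_centre (hσ : Fld σ) (h : IsSymp R) (U : UCtx σ Γ R M) (hle : R ≤ M) (h2c : Fintype.card ι = 2)
    {m : GL ι F} (hm : m ∈ M) (hm1 : m ∉ scalars ι F) (hmp : m ^ Nat.card (fixedSub σ) ∈ scalars ι F) :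
    ∃ w, w ≠ 0 ∧ ip σ Γ w w = 0 ∧ UnitWreath.HasTv σ Γ M w := by
  haveI := hσ.charP
  haveI : Fact (Nat.card (fixedSub σ)).Prime := ⟨hσ.prime⟩
  haveI := h.nonempty
  have hΓ := U.gram
  obtain ⟨c, hc⟩ := (mem_scalars_iff _).1 hmp
  obtain ⟨d, hd⟩ : ∃ d, d ^ Nat.card (fixedSub σ) = (c : F) :=
    (Finite.injective_iff_surjective.1 (frobenius_inj F (Nat.card (fixedSub σ)))) (c : F)
  have hd0 : d ≠ 0 := fun e => c.ne_zero (by rw [← hd, e, zero_pow hσ.prime.ne_zero])
  set u : GL ι F := (sc d hd0)⁻¹ * m with hu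
  have huM : u ∈ M := mul_mem (inv_mem (hle (h.scal (sc_mem d hd0)))) hm
  set N := (u : Matrix ι ι F) - 1 with hN
  have hN0 : N ≠ 0 := fun e => hm1 (by
    rw [show m = sc d hd0 * u by rw [hu]; group, show u = 1 from Units.ext (sub_eq_zero.1 e), mul_one]
    exact sc_mem d hd0)
  have hnil : N * N = 0 := by
    have hp : N ^ Nat.card (fixedSub σ) = 0 := by
      haveI : CharP (Matrix ι ι F) (Nat.card (fixedSub σ)) := inferInstance
      rw [hN, sub_pow_char_of_commute (p := Nat.card (fixedSub σ)) (Commute.one_right _), one_pow]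
      have e : (u : Matrix ι ι F) = d⁻¹ • (m : Matrix ι ι F) := by
        show d⁻¹ • (1 : Matrix ι ι F) * _ = _
        rw [smul_mul_assoc, one_mul]
      rw [e, smul_pow, ← Units.val_pow_eq_pow_val, hc, smul_smul, inv_pow, hd, inv_mul_cancel₀ c.ne_zero, one_smul,
        sub_self]
    have hch := (Matrix.isNilpotent_charpoly_sub_pow_of_isNilpotent (M := N) ⟨_, hp⟩).eq_zero
    have := Matrix.aeval_self_charpoly N
    rwa [sub_eq_zero.1 hch, map_pow, Polynomial.aeval_X, h2c, pow_two] at this
  have hu1 : (u : Matrix ι ι F) = 1 + N := by rw [hN]; abel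
  obtain ⟨ν, hν0, hν⟩ := U.sim u huM
  have hdet : (u : Matrix ι ι F).det = 1 := hu1 ▸ UnitWreath.det_one_add_nilpotent ⟨2, by rw [pow_two, hnil]⟩
  have htr : N.trace = 0 := by
    have := (Matrix.isNilpotent_trace_of_isNilpotent (M := N) ⟨2, by rw [pow_two, hnil]⟩).eq_zero
    exact this
  have hadjN : adj σ Γ Γ N = -N := by
    have ea : adj σ Γ Γ (u : Matrix ι ι F) = ν • (1 - N) := by
      have h1 : (u : Matrix ι ι F) * (1 - N) = 1 := by
        rw [hu1, add_mul, one_mul, mul_sub, mul_one, hnil]; abel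
      have := congrArg (· * (1 - N)) hν
      simp only [mul_assoc, h1, mul_one, smul_mul_assoc, one_mul] at this
      exact this
    rw [hu1, UnitWreath.adj_add, UnitWreath.adj_one hΓ] at ea
    have et := congrArg Matrix.trace ea
    simp only [trace_add, trace_smul, trace_sub, trace_adj hΓ, htr, map_zero, add_zero, sub_zero, trace_one, h2c,
      smul_eq_mul] at et
    have hν1 : ν = 1 := by
      have h2' : ((2 : ℕ) : F) ≠ 0 := by exact_mod_cast h.two
      exact mul_right_cancel₀ h2' (by rw [one_mul]; exact et.symm)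
    rw [hν1, one_smul, sub_eq_add_neg] at ea
    exact add_left_cancel ea
  obtain ⟨z, hz⟩ : ∃ z, N *ᵥ z ≠ 0 := by
    by_contra! hcon
    exact hN0 (UnitWreath.ext_mulVec fun z => by rw [hcon, zero_mulVec])
  set w := N *ᵥ z with hw
  have hNw : N *ᵥ w = 0 := by rw [hw, mulVec_mulVec, hnil, zero_mulVec]
  have hww : ip σ Γ w w = 0 := by
    conv_lhs => arg 3; rw [hw]
    rw [UnitWreath.ip_mulVec_left hΓ, hadjN, neg_mulVec, hNw, neg_zero, UnitWreath.ip_zero_right]
  have hli : LinearIndependent F ![w, z] := by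
    rw [LinearIndependent.pair_iff]
    intro a b e
    have e' := congrArg (N *ᵥ ·) e
    simp only [mulVec_add, mulVec_smul, hNw, smul_zero, zero_add, mulVec_zero, ← hw] at e'
    have hb := (smul_eq_zero.1 e').resolve_right hz
    rw [hb, zero_smul, add_zero] at e
    exact ⟨(smul_eq_zero.1 e).resolve_right hz, hb⟩
  have hspan : ∀ x, ∃ a b : F, x = a • w + b • z := fun x => by
    have hs := hli.span_eq_top_of_card_eq_finrank (by simp [h2c])
    have hx : x ∈ Submodule.span F ({w, z} : Set (ι → F)) := by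
      have e : Set.range ![w, z] = {w, z} := by simp [Matrix.range_cons, Matrix.range_empty, Set.pair_comm]
      rw [← e, hs]; trivial
    obtain ⟨a, b, e⟩ := Submodule.mem_span_pair.1 hx
    exact ⟨a, b, e.symm⟩
  set x := ip σ Γ w z with hx
  have hx0 : x ≠ 0 := fun e => hz (hΓ.ip_nondeg fun y => by
    obtain ⟨a, b, rfl⟩ := hspan y
    rw [UnitWreath.ip_add_right, UnitWreath.ip_smul_right, UnitWreath.ip_smul_right, hww, ← hx, e]
    simp)
  have hNe : N = x⁻¹ • sqr σ Γ w := UnitWreath.ext_mulVec fun y => by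
    obtain ⟨a, b, rfl⟩ := hspan y
    rw [mulVec_add, mulVec_smul, mulVec_smul, hNw, smul_mulVec, UnitWreath.sqr_mulVec, UnitWreath.ip_add_right,
      UnitWreath.ip_smul_right, UnitWreath.ip_smul_right, hww, ← hx, ← hw, smul_smul, mul_zero, zero_add, smul_zero,
      zero_add]
    congr 1
    field_simp
  have hskew : σ x⁻¹ = -x⁻¹ := by
    have e := congrArg (fun Z : Matrix ι ι F => Z *ᵥ z) hadjN
    rw [hNe, UnitWreath.adj_smul, UnitWreath.adj_sqr hΓ] at e
    simp only [neg_mulVec, smul_mulVec, UnitWreath.sqr_mulVec, ← hx, smul_smul, ← neg_smul] at e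
    have e' := sub_eq_zero.2 e
    rw [← sub_smul, smul_eq_zero] at e'
    refine mul_right_cancel₀ hx0 ?_
    linear_combination e'.resolve_right hz
  refine ⟨w, hz, hww, fun c' hc' => ?_⟩
  obtain ⟨k, hk⟩ := hσ.exists_nat (μ := c' * x) (by
    have hσx : σ x = -x := by rw [map_inv₀, neg_inv] at hskew; exact inv_injective hskew
    rw [map_mul, hσx, eq_neg_of_add_eq_zero_right hc']; ring)
  refine ⟨u ^ k, pow_mem huM k, ?_⟩
  have hpow : ∀ j : ℕ, ((u ^ j : GL ι F) : Matrix ι ι F) = 1 + (j : F) • N := fun j => by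
    induction j with
    | zero => simp
    | succ j ih =>
      rw [pow_succ, Units.val_mul, ih, hu1, add_mul, one_mul, mul_add, mul_one, smul_mul_assoc, hnil, smul_zero,
        add_zero, Nat.cast_succ, add_smul, one_smul]
      abel
  rw [hpow, hk, hNe, smul_smul, mul_inv_cancel_right₀ hx0]

/-- The dichotomy in dimension two. -/
theorem two_unit [Fintype F] {Γ : Matrix (Fin 2) (Fin 2) F} {R M : Subgroup (GL (Fin 2) F)} (hσ : Fld σ)
    (h : IsSymp R) (hle : R ≤ M) (hT : h.HasTv M) (U : UCtx σ Γ R M) :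
    M ≤ subgroupNormalizer R ∨ (Nat.card (fixedSub σ) ≠ 3 ∧ Big σ Γ M) := by
  classical
  by_cases h3 : Nat.card (fixedSub σ) = 3
  · left
    have one : ∀ g ∈ M, ∀ x ∈ R, g * x * g⁻¹ ∈ R := by
      intro g hg x hx
      obtain ⟨c, hc, hcx, hxx, -, -⟩ := h.normed_props hx
      suffices H : g * (c * x) * g⁻¹ ∈ R by
        rw [show g * (c * x) * g⁻¹ = g * c * g⁻¹ * (g * x * g⁻¹) by group, scalar_conj hc] at H
        have := mul_mem (h.scal (inv_mem hc)) H
        rwa [inv_mul_cancel_left] at this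
      by_cases hy1 : c * x ∈ scalars (Fin 2) F
      · rw [scalar_conj hy1]; exact h.scal hy1
      refine mem_small hσ h3 h U (by simp) ?_ ?_ ?_
      · rw [show g * (c * x) * g⁻¹ * (g * (c * x) * g⁻¹) = g * (c * x * (c * x)) * g⁻¹ by group, hxx]
        simp
      · rw [Units.val_mul, Units.val_mul]
        exact UnitWreath.IsIso.conj U.gram (U.sim g hg) (U.iso _ hcx hxx)
      · rw [Units.val_mul, Units.val_mul, trace_mul_cycle, Units.inv_mul, one_mul]
        exact h.trace_zero hcx hy1
    intro g hg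
    refine Subgroup.mem_normalizer_iff.2 fun x => ⟨one g hg x, fun hx => ?_⟩
    have := one g⁻¹ (inv_mem hg) _ hx
    rwa [show g⁻¹ * (g * x * g⁻¹) * g⁻¹⁻¹ = x by group] at this
  haveI : Fact (Nat.card (fixedSub σ)).Prime := ⟨hσ.prime⟩
  haveI := hσ.charP
  refine (two_cases (Nat.card (fixedSub σ)) h hle hT).imp id fun ⟨_, hdvd⟩ => ⟨h3, ?_⟩
  obtain ⟨⟨_, m, hm, rfl⟩, ho⟩ := exists_prime_orderOf_dvd_card' _ hdvd
  have hker : ∀ g : GL (Fin 2) F, ProjGenLinGroup.mk g = 1 ↔ g ∈ scalars (Fin 2) F := fun g => by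
    rw [ProjGenLinGroup.mk_eq_one, Matrix.GeneralLinearGroup.center_eq_range_scalar]; rfl
  rw [← Subgroup.orderOf_coe] at ho
  obtain ⟨w, hw0, hww, hwT⟩ := exists_centre hσ h U hle (by simp) hm
    (fun e => hσ.prime.one_lt.ne (by rw [← ho, (orderOf_eq_one_iff).2 ((hker m).2 e)]))
    ((hker _).1 (by rw [map_pow, ← ho, pow_orderOf_eq_one]))
  obtain ⟨r, hr, hli⟩ : ∃ r ∈ R, LinearIndependent F ![w, (r : Matrix (Fin 2) (Fin 2) F) *ᵥ w] := by
    by_contra! hcon
    have hline : ∀ X : Matrix (Fin 2) (Fin 2) F, X *ᵥ w ∈ Submodule.span F {w} := fun X => by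
      have hX : X ∈ Submodule.span F (matrixSet R) := h.span ▸ Submodule.mem_top
      refine Submodule.span_induction ?_ (by simp) (fun a b _ _ ha hb => by
        rw [add_mulVec]; exact add_mem ha hb) (fun c a _ ha => by rw [smul_mulVec]; exact Submodule.smul_mem _ _ ha) hX
      rintro _ ⟨r, hr, rfl⟩
      by_contra hmem
      refine hcon r hr (LinearIndependent.pair_iff' hw0 |>.2 fun a e => hmem ?_)
      rw [← e]
      exact Submodule.smul_mem _ _ (Submodule.mem_span_singleton_self w)
    obtain ⟨φ, hφ⟩ : ∃ φ : Fin 2 → F, φ ⬝ᵥ w = 1 := by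
      obtain ⟨a, ha⟩ := Function.ne_iff.1 hw0
      exact ⟨Pi.single a (w a)⁻¹, by simp [inv_mul_cancel₀ (show w a ≠ 0 from ha)]⟩
    have htop : Submodule.span F {w} = ⊤ := top_unique fun v _ => by
      have := hline (vecMulVec v φ)
      rwa [vecMulVec_mulVec, hφ, MulOpposite.op_one, one_smul] at this
    have := finrank_span_singleton (K := F) hw0
    rw [htop, finrank_top, Module.finrank_fintype_fun_eq_card, Fintype.card_fin] at this
    omega
  have hrM : r ∈ M := hle hr
  refine big_two hσ U.gram (by simp) hww ?_ hli hwT (move_sim' U.gram hrM (U.sim r hrM) hwT)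
  obtain ⟨ν, hν0, hν⟩ := U.sim r hrM
  rw [UnitWreath.ip_mulVec_left U.gram, mulVec_mulVec, hν, smul_mulVec, one_mulVec, UnitWreath.ip_smul_right, hww,
    mul_zero]

end CfsgLib.Geo.SympNorm
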